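import Cfsg.Agent.OddHalf.SpN.OutTri
import Cfsg.Agent.LieRecognition.FieldSemilinear
import Cfsg.Agent.S0270

/-!
# ODD, D4, row `Sp_2n(q)`, `n ≥ 3`, `q` even: the action of `N(K)` on `K = ι(Sp_2n(F))` (helper401)

* `mem_KC` : an element acting linearly lies in `K C(K)`; `phi_of_KC`;
* `ctr`, `simp`, `out`, `cyc`, `cen` : the fields of `SpX`;
* `KC_of_Y1`, `KC_of_Zz` : an element of `N(K)` commuting with `ι(Y_1)` (`ι(Z)`) lies in `K C(K)`.
-/

set_option autoImplicit false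
set_option linter.unusedSectionVars false

namespace Cfsg.Agent.OddHalf.D4.SpN.Amb

open Cfsg Subgroup Cfsg.Agent.ClassicalGeometry.SympBasic Cfsg.Agent.ClassicalGeometry.SympAutSemi
open Cfsg.Agent.OddHalf.SpN Cfsg.Agent.OddHalf.SpN.Out

variable {n : ℕ} {F : Type*} [Field F] [Finite F] [CharP F 2] {G : Type*} [Group G] {ι : Sy n F →* G}

theorem mem_cK {c : G} : c ∈ centralizer (ι.range : Set G) ↔ ∀ A : Sy n F, ι A * c = c * ι A := by
  rw [mem_centralizer_iff]
  exact ⟨fun h A => h _ ⟨A, rfl⟩, by rintro h _ ⟨A, rfl⟩; exact h A⟩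

theorem cK_le : centralizer (ι.range : Set G) ≤ normalizer (ι.range : Set G) := by
  intro c hc
  rw [mem_normalizer_iff]
  intro x
  have h := mem_cK.1 hc
  constructor
  · rintro ⟨A, rfl⟩
    exact ⟨A, by rw [← h A, mul_inv_cancel_right]⟩
  · rintro ⟨A, hA⟩
    refine ⟨A, ?_⟩
    have h1 : c * ι A = c * x := by
      rw [← h A, hA, inv_mul_cancel_right]
    exact mul_left_cancel h1

/-- `K C(K)` -/
theorem mem_KC_iff {g : G} : g ∈ ι.range ⊔ centralizer (ι.range : Set G) ↔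
    ∃ (A : Sy n F) (c : G), c ∈ centralizer (ι.range : Set G) ∧ g = ι A * c := by
  constructor
  · intro hg
    let D : Subgroup G :=
      { carrier := {g | ∃ (A : Sy n F) (c : G), c ∈ centralizer (ι.range : Set G) ∧ g = ι A * c}
        one_mem' := ⟨1, 1, one_mem _, by rw [map_one, one_mul]⟩
        mul_mem' := by
          rintro _ _ ⟨A, c, hc, rfl⟩ ⟨B, d, hd, rfl⟩
          refine ⟨A * B, c * d, mul_mem hc hd, ?_⟩
          have h1 := mem_cK.1 hc B
          calc ι A * c * (ι B * d) = ι A * (c * ι B) * d := by group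
            _ = _ := by rw [← h1, map_mul]; group
        inv_mem' := by
          rintro _ ⟨A, c, hc, rfl⟩
          refine ⟨A⁻¹, c⁻¹, inv_mem hc, ?_⟩
          have h1 := mem_cK.1 (inv_mem hc) A⁻¹
          rw [mul_inv_rev, ← map_inv, h1] }
    have hle : ι.range ⊔ centralizer (ι.range : Set G) ≤ D := by
      refine sup_le ?_ fun c hc => ⟨1, c, hc, by rw [map_one, one_mul]⟩
      rintro _ ⟨A, rfl⟩
      exact ⟨A, 1, one_mem _, (mul_one _).symm⟩
    exact hle hg
  · rintro ⟨A, c, hc, rfl⟩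
    exact mul_mem (mem_sup_left ⟨A, rfl⟩) (mem_sup_right hc)

theorem iota_inv_mul {g : G} {A : Sy n F} {s : Equiv.Perm (Ix n → F)} (hA : rho n F A = s) (ha : Acts ι g s) :
    (ι A)⁻¹ * g ∈ centralizer (ι.range : Set G) := by
  rw [mem_cK]
  intro B
  have h1 := ha.eq (A := B) (B := A * B * A⁻¹) (by rw [map_mul, map_mul, map_inv, hA])
  rw [map_mul, map_mul, map_inv, mul_inv_eq_iff_eq_mul] at h1
  calc ι B * ((ι A)⁻¹ * g) = (ι A)⁻¹ * (ι A * ι B * (ι A)⁻¹ * g) := by group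
    _ = _ := by rw [← h1]; group

/-- an element acting linearly -/
theorem mem_KC {g : G} {s : Equiv.Perm (Ix n → F)} (hs : SI s 1) (ha : Acts ι g s) :
    g ∈ ι.range ⊔ centralizer (ι.range : Set G) := by
  obtain ⟨A, hA⟩ := hs.exists_rho
  exact mem_KC_iff.2 ⟨A, _, iota_inv_mul hA ha, by group⟩

theorem acts_cK {c : G} (hc : c ∈ centralizer (ι.range : Set G)) : Acts ι c 1 := fun A =>
  ⟨A, by rw [← mem_cK.1 hc A, mul_inv_cancel_right], by group⟩

theorem phi_of_KC (hn : 3 ≤ n) (hι : Function.Injective ι) {g : G} {s : Equiv.Perm (Ix n → F)} {φ : F ≃+* F}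
    (hs : SI s φ) (ha : Acts ι g s) (hg : g ∈ ι.range ⊔ centralizer (ι.range : Set G)) : φ = 1 := by
  obtain ⟨A, c, hc, rfl⟩ := mem_KC_iff.1 hg
  have h1 := (Acts.iota A).mul (acts_cK hc)
  rw [mul_one] at h1
  have h2 := Acts.unique hι hs (SI.of_rho A) ha h1
  rw [h2] at hs
  exact SI.phi_eq (by omega) hs (SI.of_rho A)

/-- `Z(K) = 1` -/
theorem ctr (hn : 3 ≤ n) (hι : Function.Injective ι) : ∀ x ∈ ι.range, x ∈ centralizer (ι.range : Set G) → x = 1 := by
  rintro _ ⟨A, rfl⟩ h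
  have h1 : A ∈ center (Sy n F) := by
    rw [mem_center_iff]
    intro B
    apply hι
    rw [map_mul, map_mul]
    exact mem_cK.1 h B
  rw [center_Sy (by omega), mem_bot] at h1
  rw [h1, map_one]

/-- `Sp_2n(F)` is simple -/
theorem simple_Sy (hn : 3 ≤ n) : IsSimpleGroup (Sy n F) := by
  have := Fintype.ofFinite F
  have h := Cfsg.Agent.S0270.result (F := F) n (by omega) (fun h2 => by omega)
  have e : Sy n F ≃* Cfsg.PSp n F := by
    have hc : center (Sy n F) = ⊥ := center_Sy (by omega)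
    exact (QuotientGroup.quotientBot.symm).trans (QuotientGroup.quotientMulEquivOfEq hc.symm)
  exact MulEquiv.isSimpleGroup e

theorem simp (hn : 3 ≤ n) : ∀ N : Subgroup G, N ≤ ι.range → (∀ k ∈ ι.range, ∀ y ∈ N, k * y * k⁻¹ ∈ N) →
    N = ⊥ ∨ N = ι.range := by
  intro N hN hk
  have := simple_Sy (F := F) hn
  have hnorm : (N.comap ι).Normal := ⟨fun A hA B => by
    show ι (B * A * B⁻¹) ∈ N
    rw [map_mul, map_mul, map_inv]
    exact hk _ ⟨B, rfl⟩ _ hA⟩
  have hNe : (N.comap ι).map ι = N := map_comap_eq_self hN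
  rcases hnorm.eq_bot_or_eq_top with h | h
  · left; rw [← hNe, h, Subgroup.map_bot]
  · right; rw [← hNe, h, MonoidHom.range_eq_map]

theorem comm_aut (φ ψ : F ≃+* F) : φ * ψ = ψ * φ := by
  have : IsCyclic (F ≃+* F) := Cfsg.Agent.LieRecognition.FieldSemilinear.isCyclic_ringAut F
  exact IsCyclic.commGroup.mul_comm φ ψ

theorem out (hn : 3 ≤ n) (hι : Function.Injective ι) : ∀ a ∈ normalizer (ι.range : Set G),
    ∀ b ∈ normalizer (ι.range : Set G), a * b * a⁻¹ * b⁻¹ ∈ ι.range ⊔ centralizer (ι.range : Set G) := by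
  intro a ha b hb
  obtain ⟨s, φ, hs, hs'⟩ := exists_acts hn hι ha
  obtain ⟨t, ψ, ht, ht'⟩ := exists_acts hn hι hb
  have h1 := ((hs'.mul ht').mul (hs'.inv hs)).mul (ht'.inv ht)
  have h2 := ((hs.mul' ht).mul' hs.inv').mul' ht.inv'
  have e : φ * ψ * φ⁻¹ * ψ⁻¹ = 1 := by rw [comm_aut φ ψ]; group
  rw [e] at h2
  exact mem_KC h2 h1

/-- `Aut F` has at most one involution -/
theorem aut_invol {φ ψ : F ≃+* F} (h1 : φ * φ = 1) (h2 : ψ * ψ = 1) : φ = 1 ∨ ψ = 1 ∨ φ * ψ = 1 := by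
  classical
  have : IsCyclic (F ≃+* F) := Cfsg.Agent.LieRecognition.FieldSemilinear.isCyclic_ringAut F
  by_contra hcon
  push Not at hcon
  obtain ⟨n1, n2, n3⟩ := hcon
  have hfin : Finite (F ≃+* F) := Finite.of_injective (fun φ : F ≃+* F => (φ : F → F)) DFunLike.coe_injective
  have := Fintype.ofFinite (F ≃+* F)
  have hle := IsCyclic.card_pow_eq_one_le (α := F ≃+* F) (n := 2) (by norm_num)
  have hsub : ({1, φ, ψ} : Finset (F ≃+* F)) ⊆ Finset.univ.filter fun a => a ^ 2 = 1 := by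
    intro x hx
    simp only [Finset.mem_insert, Finset.mem_singleton] at hx
    rw [Finset.mem_filter]
    refine ⟨Finset.mem_univ _, ?_⟩
    rcases hx with rfl | rfl | rfl
    · exact one_pow _
    · rw [pow_two]; exact h1
    · rw [pow_two]; exact h2
  have hne : φ ≠ ψ := by rintro rfl; exact n3 h1
  have hc : ({1, φ, ψ} : Finset (F ≃+* F)).card = 3 := by
    rw [Finset.card_insert_of_notMem, Finset.card_insert_of_notMem, Finset.card_singleton]
    · simpa using hne
    · simp only [Finset.mem_insert, Finset.mem_singleton, not_or]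
      exact ⟨Ne.symm n1, Ne.symm n2⟩
  have h3 := Finset.card_le_card hsub
  rw [hc] at h3
  omega

theorem cyc (hn : 3 ≤ n) (hι : Function.Injective ι) : ∀ a ∈ normalizer (ι.range : Set G),
    ∀ b ∈ normalizer (ι.range : Set G), a * a ∈ ι.range ⊔ centralizer (ι.range : Set G) →
    b * b ∈ ι.range ⊔ centralizer (ι.range : Set G) → a ∈ ι.range ⊔ centralizer (ι.range : Set G) ∨
      b ∈ ι.range ⊔ centralizer (ι.range : Set G) ∨ a * b ∈ ι.range ⊔ centralizer (ι.range : Set G) := by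
  intro a ha b hb haa hbb
  obtain ⟨s, φ, hs, hs'⟩ := exists_acts hn hι ha
  obtain ⟨t, ψ, ht, ht'⟩ := exists_acts hn hι hb
  have h1 := phi_of_KC hn hι (hs.mul' hs) (hs'.mul hs') haa
  have h2 := phi_of_KC hn hι (ht.mul' ht) (ht'.mul ht') hbb
  rcases aut_invol h1 h2 with h | h | h
  · left; rw [h] at hs; exact mem_KC hs hs'
  · right; left; rw [h] at ht; exact mem_KC ht ht'
  · right; right
    have h3 := hs.mul' ht
    rw [h] at h3
    exact mem_KC h3 (hs'.mul ht')

/-- the field automorphism of an element commuting with a long root group is trivial -/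
theorem phi_eq_one {g : G} (hι : Function.Injective ι) {s : Equiv.Perm (Ix n → F)} {φ : F ≃+* F} (hs : SI s φ)
    (ha : Acts ι g s) {i : Ix n} (hc : ∀ b, g * ι (sy i b) = ι (sy i b) * g) : φ = 1 := by
  have key : ∀ b, transv (be n F i) b = transv (s (be n F i)) (φ b) := by
    intro b
    apply rho_injective
    have h1 := ha.rho_eq hι (A := sy i b) (B := sy i b) (by rw [hc b, mul_inv_cancel_right])
    have h2 := hs.conj_transv (be n F i) b
    exact h1.trans h2
  have h1 := key 1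
  rw [map_one] at h1
  have h2 : be n F i = s (be n F i) := transv_inj h1
  obtain ⟨x, hx⟩ := exists_form_one (be_ne (F := F) i)
  ext b
  have h3 := congrArg (fun A => rho n F A x) (key b)
  simp only [← h2, rho_transv, hx, mul_one] at h3
  have h4 := add_left_cancel h3
  rw [← sub_eq_zero, ← sub_smul, smul_eq_zero] at h4
  exact (sub_eq_zero.1 (h4.resolve_right (be_ne i))).symm

/-- an element of `N(K)` commuting with a long root group -/
theorem KC_of_sy (hn : 3 ≤ n) (hι : Function.Injective ι) {g : G} (hg : g ∈ normalizer (ι.range : Set G)) {i : Ix n}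
    (hc : ∀ b, g * ι (sy i b) = ι (sy i b) * g) : g ∈ ι.range ⊔ centralizer (ι.range : Set G) := by
  obtain ⟨s, φ, hs, hs'⟩ := exists_acts hn hι hg
  have h := phi_eq_one hι hs hs' hc
  rw [h] at hs
  exact mem_KC hs hs'

theorem sy_Y1 (hn : 3 ≤ n) (b : F) : sy (Sum.inl (c0 hn)) b ∈ (Y1 hn : Subgroup (Sy n F)) :=
  ⟨b, by rw [zz, sx_zero, one_mul]⟩

theorem KC_of_Y1 (hn : 3 ≤ n) (hι : Function.Injective ι) {g : G} (hg : g ∈ normalizer (ι.range : Set G))
    (hc : ∀ z ∈ (Y1 hn : Subgroup (Sy n F)), g * ι z = ι z * g) : g ∈ ι.range ⊔ centralizer (ι.range : Set G) :=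
  KC_of_sy hn hι hg (i := Sum.inl (c0 hn)) fun b => hc _ (sy_Y1 hn b)

/-- an element of `N(K)` commuting with `ι Z` lies in `K C(K)` -/
theorem KC_of_Zz (hn : 3 ≤ n) (hι : Function.Injective ι) {g : G} (hg : g ∈ normalizer (ι.range : Set G))
    (hc : ∀ z ∈ (Zz hn : Subgroup (Sy n F)), g * ι z = ι z * g) : g ∈ ι.range ⊔ centralizer (ι.range : Set G) :=
  KC_of_Y1 hn hι hg fun z hz => hc z (Y1_le hn hz)

/-- the `K`-part -/
theorem exists_of_Y1 (hn : 3 ≤ n) (hι : Function.Injective ι) {g : G} (hg : g ∈ normalizer (ι.range : Set G))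
    (hc : ∀ z ∈ (Y1 hn : Subgroup (Sy n F)), g * ι z = ι z * g) :
    ∃ (A : Sy n F) (c : G), c ∈ centralizer (ι.range : Set G) ∧ g = ι A * c :=
  mem_KC_iff.1 (KC_of_Y1 hn hι hg hc)

/-- **(F1)** -/
theorem cen (hn : 3 ≤ n) (hι : Function.Injective ι) : ∀ y ∈ normalizer (ι.range : Set G), (∃ m : ℕ, y ^ 2 ^ m = 1) →
    (∀ s ∈ (Up n F).map ι, s * y = y * s) →
    ∃ c ∈ centralizer (ι.range : Set G), ∃ x ∈ (Zz hn).map ι, y = c * x := by
  intro y hy _ hc
  obtain ⟨A, c, hcK, rfl⟩ := exists_of_Y1 hn hι hy fun z hz => (hc _ ⟨z, Zz_le hn (Y1_le hn hz), rfl⟩).symm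
  have hA : A ∈ Zz hn := by
    rw [mem_Zz_iff]
    intro B hB
    apply hι
    rw [map_mul, map_mul]
    have h1 := hc _ ⟨B, hB, rfl⟩
    have h2 := mem_cK.1 hcK B
    have h3 : ι B * ι A * c = ι A * ι B * c := by
      calc ι B * ι A * c = ι B * (ι A * c) := by group
        _ = ι A * (c * ι B) := by rw [h1]; group
        _ = _ := by rw [← h2]; group
    exact mul_right_cancel h3
  exact ⟨c, hcK, ι A, ⟨A, hA, rfl⟩, mem_cK.1 hcK A⟩

end Cfsg.Agent.OddHalf.D4.SpN.Amb
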