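import Cfsg.Agent.OddHalf.D4.SpN.LocGen

/-!
# `Sp_2n(q)`, `q` even: the largest perfect subgroups of the centralizers are directly indecomposable (helper297)

`WT F T = ⟨e_j : j ∈ T⟩`, `PT T u` : `u ⊥ e_j` for `j ∈ T`, `QT F T` : trivial on `WT` and `WT^⊥ / WT`.

* `ind_of` : a perfect subgroup `H` preserving `WT` which contains the root elements with indices outside `± T` and those
  of `j₀ k`, `j₀ ∈ T`, `k ∉ ± T`, is directly indecomposable.
-/

set_option autoImplicit false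
set_option linter.unusedSectionVars false

namespace Cfsg.Agent.OddHalf.D4.SpN.Loc

open Cfsg Cfsg.Agent.ClassicalGeometry.SympBasic Cfsg.Agent.ClassicalGeometry.SympAutSemi
open Cfsg.Agent.OddHalf.SpN Cfsg.Agent.OddHalf.SpN.Out
open scoped Matrix commutatorElement

/-! ### direct products -/

section grp

variable {G : Type*} [Group G] {H A B : Subgroup G}

theorem norm_left (hc : ∀ a ∈ A, ∀ b ∈ B, a * b = b * a) (h : ∀ y ∈ H, ∃ a ∈ A, ∃ b ∈ B, y = a * b) {y x : G}
    (hy : y ∈ H) (hx : x ∈ A) : y * x * y⁻¹ ∈ A := by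
  obtain ⟨a, ha, b, hb, rfl⟩ := h y hy
  have e : a * b * x * (a * b)⁻¹ = a * x * a⁻¹ := by
    calc a * b * x * (a * b)⁻¹ = a * (b * x) * b⁻¹ * a⁻¹ := by group
      _ = a * (x * b) * b⁻¹ * a⁻¹ := by rw [hc x hx b hb]
      _ = _ := by group
  rw [e]; exact mul_mem (mul_mem ha hx) (inv_mem ha)

theorem norm_right (hc : ∀ a ∈ A, ∀ b ∈ B, a * b = b * a) (h : ∀ y ∈ H, ∃ a ∈ A, ∃ b ∈ B, y = a * b) {y x : G}
    (hy : y ∈ H) (hx : x ∈ B) : y * x * y⁻¹ ∈ B := by
  obtain ⟨a, ha, b, hb, rfl⟩ := h y hy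
  have e : a * b * x * (a * b)⁻¹ = b * x * b⁻¹ := by
    calc a * b * x * (a * b)⁻¹ = a * (b * x * b⁻¹) * a⁻¹ := by group
      _ = (b * x * b⁻¹) * a * a⁻¹ := by rw [hc a ha _ (mul_mem (mul_mem hb hx) (inv_mem hb))]
      _ = _ := by group
  rw [e]; exact mul_mem (mul_mem hb hx) (inv_mem hb)

/-- a factor of a perfect group is perfect -/
theorem perf_right (hp : H ≤ ⁅H, H⁆) (hB : B ≤ H) (hc : ∀ a ∈ A, ∀ b ∈ B, a * b = b * a) (hd : A ⊓ B = ⊥)
    (h : ∀ y ∈ H, ∃ a ∈ A, ∃ b ∈ B, y = a * b) : B ≤ ⁅B, B⁆ := by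
  let S : Subgroup G :=
    { carrier := {x | ∃ a ∈ A, ∃ b ∈ ⁅B, B⁆, x = a * b}
      one_mem' := ⟨1, one_mem _, 1, one_mem _, by rw [mul_one]⟩
      mul_mem' := by
        rintro _ _ ⟨a, ha, b, hb, rfl⟩ ⟨a', ha', b', hb', rfl⟩
        refine ⟨a * a', A.mul_mem ha ha', b * b', Subgroup.mul_mem _ hb hb', ?_⟩
        have hbB : b ∈ B := Subgroup.commutator_le_self B hb
        calc a * b * (a' * b') = a * (b * a') * b' := by group
          _ = a * (a' * b) * b' := by rw [hc a' ha' b hbB]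
          _ = _ := by group
      inv_mem' := by
        rintro _ ⟨a, ha, b, hb, rfl⟩
        refine ⟨a⁻¹, A.inv_mem ha, b⁻¹, Subgroup.inv_mem _ hb, ?_⟩
        have hbB : b ∈ B := Subgroup.commutator_le_self B hb
        rw [mul_inv_rev, hc a⁻¹ (A.inv_mem ha) b⁻¹ (B.inv_mem hbB)] }
  have h1 : H ≤ S := by
    refine hp.trans ?_
    rw [Subgroup.commutator_le]
    intro x hx y hy
    obtain ⟨a, ha, b, hb, rfl⟩ := h x hx
    obtain ⟨a', ha', b', hb', rfl⟩ := h y hy
    refine ⟨⁅a, a'⁆, ?_, ⁅b, b'⁆, Subgroup.commutator_mem_commutator hb hb', ?_⟩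
    · rw [commutatorElement_def]
      exact mul_mem (mul_mem (mul_mem ha ha') (inv_mem ha)) (inv_mem ha')
    · rw [commutatorElement_def, commutatorElement_def, commutatorElement_def]
      have c1 : Commute b a' := (hc a' ha' b hb).symm
      have c2 : Commute b' a := (hc a ha b' hb').symm
      have c3 : Commute b a := (hc a ha b hb).symm
      have c4 : Commute b' a' := (hc a' ha' b' hb').symm
      have e1 : a * b * (a' * b') = (a * a') * (b * b') := by
        calc a * b * (a' * b') = a * (b * a') * b' := by group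
          _ = a * (a' * b) * b' := by rw [c1.eq]
          _ = _ := by group
      have e2 : a' * b' * (a * b) = (a' * a) * (b' * b) := by
        calc a' * b' * (a * b) = a' * (b' * a) * b := by group
          _ = a' * (a * b') * b := by rw [c2.eq]
          _ = _ := by group
      have c5 : Commute (b * b' * (b' * b)⁻¹) (a' * a)⁻¹ := by
        refine Commute.mul_left ?_ ?_
        · exact ((c1.mul_left c4).mul_right (c3.mul_left c2)).inv_right
        · exact (((c4.mul_left c1).mul_right (c2.mul_left c3)).inv_right).inv_left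
      calc a * b * (a' * b') * (a * b)⁻¹ * (a' * b')⁻¹ = (a * b * (a' * b')) * (a' * b' * (a * b))⁻¹ := by group
        _ = a * a' * ((b * b' * (b' * b)⁻¹) * (a' * a)⁻¹) := by rw [e1, e2]; group
        _ = a * a' * ((a' * a)⁻¹ * (b * b' * (b' * b)⁻¹)) := by rw [c5.eq]
        _ = _ := by group
  intro x hx
  obtain ⟨a, ha, b, hb, e⟩ := h1 (hB hx)
  have h2 : a ∈ A ⊓ B := ⟨ha, by
    have : a = x * b⁻¹ := by rw [e]; group
    rw [this]; exact B.mul_mem hx (B.inv_mem (Subgroup.commutator_le_self B hb))⟩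
  rw [hd, Subgroup.mem_bot] at h2
  rw [e, h2, one_mul]; exact hb

/-- a perfect `p`-group is trivial -/
theorem eq_bot_of_perf [Finite G] {p : ℕ} [Fact p.Prime] (hp : IsPGroup p B) (h : B ≤ ⁅B, B⁆) : B = ⊥ := by
  by_contra hB
  have : Nontrivial B := (Subgroup.nontrivial_iff_ne_bot B).2 hB
  have : Group.IsNilpotent B := hp.isNilpotent
  have h1 := Group.IsSolvable.commutator_lt_top_of_nontrivial B
  apply h1.ne
  rw [eq_top_iff]
  intro x _
  have h2 : (x : G) ∈ (commutator B).map B.subtype := by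
    rw [commutator_def, Subgroup.map_commutator, ← MonoidHom.range_eq_map, Subgroup.range_subtype]
    exact h x.2
  obtain ⟨y, hy, e⟩ := h2
  have : y = x := Subtype.ext e
  rw [← this]; exact hy

end grp

variable {n : ℕ} {F : Type*} [Field F]

/-- `⟨e_j : j ∈ T⟩` -/
def WT (F : Type*) [Field F] (T : Fin n → Prop) : Submodule F (Ix n → F) where
  carrier := {v | ∀ k, (∀ j, T j → k ≠ Sum.inl j) → v k = 0}
  zero_mem' := fun _ _ => rfl
  add_mem' {v w} hv hw k hk := by rw [Pi.add_apply, hv k hk, hw k hk, add_zero]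
  smul_mem' c v hv k hk := by rw [Pi.smul_apply, hv k hk, smul_zero]

theorem mem_WT {T : Fin n → Prop} {v : Ix n → F} : v ∈ WT F T ↔ ∀ k, (∀ j, T j → k ≠ Sum.inl j) → v k = 0 := Iff.rfl

/-- `u ⊥ e_j`, `j ∈ T` -/
def PT (T : Fin n → Prop) (u : Ix n → F) : Prop := ∀ j, T j → u (Sum.inr j) = 0

/-- the indices outside `± T` -/
def Ik (T : Fin n → Prop) (k : Ix n) : Prop := ∀ j, T j → k ≠ Sum.inl j ∧ k ≠ Sum.inr j

theorem Ik.neg {T : Fin n → Prop} {k : Ix n} (h : Ik T k) : Ik T (neg k) := fun j hj =>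
  ⟨fun e => (h j hj).2 (by rw [neg_eq_iff] at e; exact e), fun e => (h j hj).1 (by rw [neg_eq_iff] at e; exact e)⟩

variable {T : Fin n → Prop}

theorem WT_inr {w : Ix n → F} (hw : w ∈ WT F T) (j : Fin n) : w (Sum.inr j) = 0 := hw _ fun _ _ => by simp

theorem WT_Ik {w : Ix n → F} (hw : w ∈ WT F T) {k : Ix n} (hk : Ik T k) : w k = 0 := hw _ fun j hj => (hk j hj).1

theorem PT_of_WT {w : Ix n → F} (hw : w ∈ WT F T) : PT T w := fun j _ => WT_inr hw j

theorem be_WT {j : Fin n} (hj : T j) : be n F (Sum.inl j) ∈ WT F T := fun k hk => by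
  rw [be_apply, if_neg (hk j hj)]

theorem PT_be {k : Ix n} (hk : ∀ j, T j → k ≠ Sum.inr j) : PT T (be n F k) := fun j hj => by
  rw [be_apply, if_neg (Ne.symm (hk j hj))]

theorem PT_Ik {k : Ix n} (hk : Ik T k) : PT T (be n F k) := PT_be fun j hj => (hk j hj).2

theorem PT_add {u v : Ix n → F} (hu : PT T u) (hv : PT T v) : PT T (u + v) := fun j hj => by
  rw [Pi.add_apply, hu j hj, hv j hj, add_zero]

theorem PT_smul {u : Ix n → F} (c : F) (hu : PT T u) : PT T (c • u) := fun j hj => by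
  rw [Pi.smul_apply, hu j hj, smul_zero]

/-- `WT ⊥ PT` -/
theorem form_WT {u w : Ix n → F} (hu : PT T u) (hw : w ∈ WT F T) : sympForm n F u w = 0 := by
  rw [sympForm_eq_sum]
  refine Finset.sum_eq_zero fun i _ => ?_
  rw [WT_inr hw i]
  by_cases hi : T i
  · rw [hu i hi]; ring
  · rw [hw (Sum.inl i) fun j hj e => hi (by rw [Sum.inl_injective e]; exact hj)]; ring

theorem form_WT' {u w : Ix n → F} (hu : PT T u) (hw : w ∈ WT F T) : sympForm n F w u = 0 := by
  rw [sympForm_swap, form_WT hu hw, neg_zero]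

theorem act_sub (A : Sy n F) (u v : Ix n → F) : rho n F A (u - v) = rho n F A u - rho n F A v := (SI.of_rho A).sub u v

theorem act_add (A : Sy n F) (u v : Ix n → F) : rho n F A (u + v) = rho n F A u + rho n F A v := (SI.of_rho A).add u v

theorem act_smul (A : Sy n F) (c : F) (v : Ix n → F) : rho n F A (c • v) = c • rho n F A v := (SI.of_rho A).smul c v

/-- trivial on `WT` and on `WT^⊥ / WT` -/
def QT (F : Type*) [Field F] (T : Fin n → Prop) : Subgroup (Sy n F) where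
  carrier := {A | (∀ w ∈ WT F T, rho n F A w = w) ∧ ∀ u, PT T u → rho n F A u - u ∈ WT F T}
  mul_mem' := by
    rintro A B ⟨hA1, hA2⟩ ⟨hB1, hB2⟩
    refine ⟨fun w hw => ?_, fun u hu => ?_⟩
    · rw [act_mul, hB1 w hw, hA1 w hw]
    · rw [act_mul]
      have h1 := hA1 _ (hB2 u hu)
      rw [act_sub] at h1
      have h2 : rho n F A (rho n F B u) - u = (rho n F B u - u) + (rho n F A u - u) := by
        rw [← h1]; abel
      rw [h2]
      exact add_mem (hB2 u hu) (hA2 u hu)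
  one_mem' := ⟨fun w _ => act_one w, fun u _ => by
    rw [act_one, sub_self]; exact zero_mem _⟩
  inv_mem' := by
    rintro A ⟨hA1, hA2⟩
    refine ⟨fun w hw => act_inv (hA1 w hw), fun u hu => ?_⟩
    have h3 : rho n F A⁻¹ (rho n F A u - u) = rho n F A u - u := act_inv (hA1 _ (hA2 u hu))
    rw [act_sub, act_inv rfl] at h3
    have h4 : rho n F A⁻¹ u - u = -(rho n F A u - u) := by rw [← h3]; abel
    rw [h4]; exact neg_mem (hA2 u hu)

variable [CharP F 2]

theorem sub_eq_add' (u v : Ix n → F) : u - v = u + v := by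
  ext k; rw [Pi.sub_apply, Pi.add_apply, CharTwo.sub_eq_add]

theorem QT_four {A : Sy n F} (hA : A ∈ QT F T) : A ^ 2 ^ 2 = 1 := by
  obtain ⟨h1, h2⟩ := hA
  have e1 : ∀ u, PT T u → rho n F (A * A) u = u := by
    intro u hu
    obtain ⟨w, hw, e⟩ : ∃ w ∈ WT F T, rho n F A u = u + w := ⟨_, h2 u hu, by abel⟩
    rw [act_mul, e, act_add, e, h1 w hw]
    ext k
    simp only [Pi.add_apply]
    linear_combination CharTwo.add_self_eq_zero (w k)
  have e2 : ∀ v, rho n F (A * A) v - v ∈ WT F T := by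
    intro v k hk
    rw [Pi.sub_apply, coord_of_fix (e1 _ (PT_be fun j hj e => hk j hj ?_)), sub_self]
    rw [neg_eq_iff] at e; exact e
  have e3 : A ^ 2 ^ 2 = (A * A) * (A * A) := by
    rw [show 2 ^ 2 = 2 + 2 by norm_num, pow_add, pow_two]
  rw [e3]
  apply rho_injective
  ext1 v
  rw [act_mul, map_one]
  obtain ⟨w, hw, e⟩ : ∃ w ∈ WT F T, rho n F (A * A) v = v + w := ⟨_, e2 v, by abel⟩
  have e4 : rho n F (A * A) w = w := by rw [act_mul, h1 w hw, h1 w hw]
  rw [e, act_add, e, e4]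
  ext k
  simp only [Pi.add_apply, Equiv.Perm.one_apply]
  linear_combination CharTwo.add_self_eq_zero (w k)

theorem QT_pgroup {B : Subgroup (Sy n F)} (hB : B ≤ QT F T) : IsPGroup 2 B := fun b =>
  ⟨2, Subtype.ext (by rw [Subgroup.coe_pow, QT_four (hB b.2)]; rfl)⟩

theorem sx_QT {j : Fin n} (hj : T j) {k : Ix n} (hk : Ik T k) (a : F) : sx (Sum.inl j) k a ∈ QT F T := by
  have hd : Dj (Sum.inl j) k := ⟨Ne.symm (hk j hj).1, Ne.symm (hk.neg j hj).1⟩
  refine ⟨fun w hw => ?_, fun u hu => ?_⟩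
  · rw [rho_sx hd, neg_inl, WT_inr hw, WT_Ik hw hk.neg, mul_zero, zero_smul, zero_smul, add_zero, add_zero]
  · rw [rho_sx hd, neg_inl, hu j hj, mul_zero, zero_smul, add_zero, add_sub_cancel_left]
    exact Submodule.smul_mem _ _ (be_WT hj)

section H

variable {H : Subgroup (Sy n F)} (hW : ∀ h ∈ H, ∀ w ∈ WT F T, rho n F h w ∈ WT F T)

include hW

theorem presP {h : Sy n F} (hh : h ∈ H) {u : Ix n → F} (hu : PT T u) : PT T (rho n F h u) := fun j hj => by
  rw [coord_act, neg_inr]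
  exact form_WT hu (hW _ (inv_mem hh) _ (be_WT hj))

theorem norm_QT {h A : Sy n F} (hh : h ∈ H) (hA : A ∈ QT F T) : h * A * h⁻¹ ∈ QT F T := by
  obtain ⟨h1, h2⟩ := hA
  refine ⟨fun w hw => ?_, fun u hu => ?_⟩
  · rw [act_mul, act_mul, h1 _ (hW _ (inv_mem hh) w hw), ← act_mul, mul_inv_cancel, act_one]
  · have h3 := hW _ hh _ (h2 _ (presP hW (inv_mem hh) hu))
    rw [act_sub, ← act_mul, ← act_mul, ← act_mul, mul_inv_cancel, act_one] at h3
    exact h3

/-- an element of `A ∩ QT` which moves `e_k` : the other factor is in `QT` -/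
theorem step {A B : Subgroup (Sy n F)} (hB : B ≤ H) (hc : ∀ a ∈ A, ∀ b ∈ B, a * b = b * a)
    (nA : ∀ y ∈ H, ∀ x ∈ A, y * x * y⁻¹ ∈ A) (nB : ∀ y ∈ H, ∀ x ∈ B, y * x * y⁻¹ ∈ B)
    (hI1 : ∀ k, Ik T k → ∀ a : F, sy k a ∈ H) (hI2 : ∀ k l, Ik T k → Ik T l → ∀ a : F, sx k l a ∈ H)
    (hfix : ∀ β ∈ H, ∀ w ∈ WT F T, w ≠ 0 → (∀ h ∈ H, rho n F β (rho n F h w) = rho n F h w) →
      ∀ w' ∈ WT F T, rho n F β w' = w')
    {y : Sy n F} (hyA : y ∈ A) (hyQ : y ∈ QT F T) {k : Ix n} (hk : Ik T k)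
    (hne : rho n F y (be n F k) ≠ be n F k) : B ≤ QT F T := by
  have hRI : RI F (Ik T) ≤ H := RG_le hI1 fun i j hij a => hI2 i j hij.1 hij.2 a
  obtain ⟨w, hw, ew⟩ : ∃ w ∈ WT F T, rho n F y (be n F k) = be n F k + w := ⟨_, hyQ.2 _ (PT_Ik hk), by abel⟩
  have hw0 : w ≠ 0 := by
    rintro rfl
    exact hne (by rw [ew, add_zero])
  -- a rank one element
  set t : Sy n F := sy k 1 with ht
  have htH : t ∈ H := hI1 k hk 1
  have tinv : t⁻¹ = t := inv_eq_of_mul_eq_one_left (sy_sq k 1)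
  set z := t * y * t⁻¹ * y⁻¹ with hz
  have hzA : z ∈ A := mul_mem (nA t htH y hyA) (inv_mem hyA)
  have zact : ∀ u, PT T u → rho n F z u = u + u (neg k) • w := by
    intro u hu
    obtain ⟨p, hp, ep⟩ : ∃ p ∈ WT F T, rho n F y⁻¹ u = u + p := ⟨_, (inv_mem hyQ).2 u hu, by abel⟩
    have e1 : rho n F y u = u + p := by
      have e2 : rho n F y (rho n F y⁻¹ u) = u := by rw [← act_mul, mul_inv_cancel, act_one]
      rw [ep, act_add, hyQ.1 p hp] at e2
      rw [← sub_eq_add']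
      exact eq_sub_of_add_eq e2
    have t1 : rho n F t (u + p) = u + p + u (neg k) • be n F k := by
      rw [ht, rho_sy, Pi.add_apply, WT_Ik hp hk.neg, add_zero, one_mul]
    have t2 : rho n F y (u + p + u (neg k) • be n F k) = u + p + p + u (neg k) • (be n F k + w) := by
      rw [act_add, act_add, act_smul, e1, hyQ.1 p hp, ew]
    rw [hz, act_mul, act_mul, act_mul, ep, tinv, t1, t2, ht, rho_sy]
    ext l
    simp only [Pi.add_apply, Pi.smul_apply, smul_eq_mul, be_apply, neg_ne, if_false, WT_Ik hp hk.neg, WT_Ik hw hk.neg,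
      one_mul, add_zero, mul_zero]
    linear_combination CharTwo.add_self_eq_zero (p l) +
      CharTwo.add_self_eq_zero (u (neg k) * (if l = k then (1 : F) else 0))
  -- the action of `B` on `e_k`, up to scalars
  have key : ∀ β ∈ B, ∃ c : F, w = c • rho n F β w ∧ rho n F β (be n F k) - c • be n F k ∈ WT F T := by
    have k1 : ∀ β ∈ B, ∃ c : F, rho n F β w = c • w ∧ ∀ u, PT T u → rho n F β u (neg k) = c * u (neg k) := by
      intro β hβ
      have k2 : ∀ u, PT T u → u (neg k) • rho n F β w = rho n F β u (neg k) • w := by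
        intro u hu
        have e1 : rho n F β (rho n F z u) = rho n F z (rho n F β u) := by
          rw [← act_mul, ← act_mul, hc z hzA β hβ]
        rw [zact u hu, zact _ (presP hW (hB hβ) hu), act_add, act_smul] at e1
        exact add_left_cancel e1
      have k3 := k2 _ (PT_Ik hk.neg)
      rw [be_apply, if_pos rfl, one_smul] at k3
      refine ⟨_, k3, fun u hu => ?_⟩
      have k4 := k2 u hu
      rw [k3, smul_smul] at k4
      have k5 := smul_left_injective F hw0 k4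
      rw [mul_comm]
      exact k5.symm
    intro β hβ
    obtain ⟨c, h1, h2⟩ := k1 _ (inv_mem hβ)
    refine ⟨c, ?_, fun l hl => ?_⟩
    · have := act_inv h1
      rw [inv_inv, act_smul] at this
      exact this.symm
    · have hl' : PT T (be n F (neg l)) := PT_be fun j hj e => hl j hj (by rw [neg_eq_iff] at e; exact e)
      rw [Pi.sub_apply, Pi.smul_apply, coord_act, form_be_left, h2 _ hl', be_apply, be_apply, smul_eq_mul]
      by_cases hlk : l = k
      · subst hlk; rw [if_pos rfl, if_pos rfl, sub_self]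
      · rw [if_neg hlk, if_neg (fun e => hlk (neg_inj.1 e).symm), sub_self]
  have hneg := hk.neg
  -- the scalar is `1`
  have one : ∀ β ∈ B, rho n F β w = w ∧ rho n F β (be n F k) - be n F k ∈ WT F T := by
    intro β hβ
    have conj : ∀ h ∈ H, ∀ u, rho n F h (be n F k) = u → ∃ c : F, rho n F β u - c • u ∈ WT F T := by
      intro h hh u hu
      obtain ⟨c, -, h2⟩ := key _ (nB h⁻¹ (inv_mem hh) β hβ)
      refine ⟨c, ?_⟩
      have h3 := hW h hh _ h2
      rw [act_sub, act_smul, ← act_mul, inv_inv] at h3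
      have e : h * (h⁻¹ * β * h) = β * h := by group
      rwa [e, act_mul, hu] at h3
    obtain ⟨c, c1, c2⟩ := key β hβ
    obtain ⟨r, hr, er⟩ := exists_tr (F := F) (I := Ik T) (fun k hk => hk.neg) hk hneg
    obtain ⟨c', c3⟩ := conj r (hRI hr) _ er
    have e2 : rho n F (sy (neg k) 1) (be n F k) = be n F k + be n F (neg k) := by
      rw [rho_sy, neg_neg, be_apply, if_pos rfl, one_mul, one_smul]
    obtain ⟨c'', c4⟩ := conj _ (hI1 _ hneg 1) _ e2
    have g1 := WT_Ik c2 hk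
    have g2 := WT_Ik c2 hneg
    have g3 := WT_Ik c3 hk
    have g4 := WT_Ik c3 hneg
    have g5 := WT_Ik c4 hk
    have g6 := WT_Ik c4 hneg
    rw [act_add] at g5 g6
    simp only [Pi.sub_apply, Pi.smul_apply, Pi.add_apply, smul_eq_mul, be_apply, if_true, neg_ne, ne_neg, if_false,
      mul_zero, mul_one, sub_zero, add_zero, zero_add] at g1 g2 g3 g4 g5 g6
    have h1 : c = c'' := by linear_combination g5 - g1 - g3
    have h2 : c' = c'' := by linear_combination g6 - g2 - g4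
    obtain ⟨w1, hw1, f1⟩ : ∃ w1 ∈ WT F T, rho n F β (be n F k) = c • be n F k + w1 := ⟨_, c2, by abel⟩
    obtain ⟨w2, hw2, f2⟩ : ∃ w2 ∈ WT F T, rho n F β (be n F (neg k)) = c' • be n F (neg k) + w2 := ⟨_, c3, by abel⟩
    have f3 := sympForm_rho β (be n F k) (be n F (neg k))
    rw [f1, f2, sympForm_add_left, sympForm_add_right, sympForm_add_right, form_WT (PT_of_WT hw1) hw2,
      form_WT (PT_smul c (PT_Ik hk)) hw2, form_WT' (PT_smul c' (PT_Ik hneg)) hw1, sympForm_smul_left,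
      sympForm_smul_right, form_be, neg_neg, be_apply, if_pos rfl] at f3
    have h3 : c * c = 1 := by
      rw [h2, ← h1] at f3
      linear_combination f3
    have h4 := eq_one_of_sq h3
    rw [h4, one_smul] at c1 c2
    exact ⟨c1.symm, c2⟩
  have conj : ∀ β ∈ B, ∀ h ∈ H, rho n F β (rho n F h w) = rho n F h w ∧
      rho n F β (rho n F h (be n F k)) - rho n F h (be n F k) ∈ WT F T := by
    intro β hβ h hh
    obtain ⟨h1, h2⟩ := one _ (nB h⁻¹ (inv_mem hh) β hβ)
    have e : h * (h⁻¹ * β * h) = β * h := by group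
    constructor
    · have h3 := congrArg (rho n F h) h1
      rwa [← act_mul, inv_inv, e, act_mul] at h3
    · have h3 := hW h hh _ h2
      rwa [act_sub, ← act_mul, inv_inv, e, act_mul] at h3
  intro β hβ
  have fixW := hfix β (hB hβ) w hw hw0 fun h hh => (conj β hβ h hh).1
  refine ⟨fixW, fun u hu => ?_⟩
  have e1 : rho n F β u - u = ∑ l, u l • (rho n F β (be n F l) - be n F l) := by
    have e2 : u = ∑ l, u l • be n F l := expand u
    have e3 : rho n F β u = ∑ l, u l • rho n F β (be n F l) := by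
      conv_lhs => rw [e2]
      rw [(SI.of_rho β).sum]
      exact Finset.sum_congr rfl fun l _ => act_smul β _ _
    rw [e3]
    conv_lhs => rw [e2]
    rw [← Finset.sum_sub_distrib]
    exact Finset.sum_congr rfl fun l _ => by rw [smul_sub, ← e2]
  rw [e1]
  refine Submodule.sum_mem _ fun l _ => ?_
  by_cases hl : Ik T l
  · obtain ⟨r, hr, er⟩ := exists_tr (F := F) (I := Ik T) (fun k hk => hk.neg) hk hl
    have h3 := (conj β hβ r (hRI hr)).2
    rw [er] at h3
    exact Submodule.smul_mem _ _ h3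
  · unfold Ik at hl
    push Not at hl
    obtain ⟨j, hj, h1⟩ := hl
    by_cases h2 : l = Sum.inl j
    · subst h2
      rw [fixW _ (be_WT hj), sub_self, smul_zero]
      exact zero_mem _
    · rw [h1 h2, hu j hj, zero_smul]
      exact zero_mem _

/-- an element of `A ∩ QT` or `B ∩ QT` which moves `e_{-k}` -/
theorem exists_step {A B : Subgroup (Sy n F)} (hc : ∀ a ∈ A, ∀ b ∈ B, a * b = b * a)
    (hA : A ≤ H) (hB : B ≤ H) (h : ∀ y ∈ H, ∃ a ∈ A, ∃ b ∈ B, y = a * b)
    (nA : ∀ y ∈ H, ∀ x ∈ A, y * x * y⁻¹ ∈ A) (nB : ∀ y ∈ H, ∀ x ∈ B, y * x * y⁻¹ ∈ B)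
    {j : Fin n} (hj : T j) {k : Ix n} (hk : Ik T k) (hs : sy k (1 : F) ∈ H)
    (hx : sx (Sum.inl j) (neg k) (1 : F) ∈ H) :
    ∃ y ∈ QT F T, (y ∈ A ∨ y ∈ B) ∧ rho n F y (be n F (neg k)) ≠ be n F (neg k) := by
  obtain ⟨a, ha, b, hb, e⟩ := h _ hs
  set x := sx (Sum.inl j) (neg k) (1 : F) with hxd
  have hxQ : x ∈ QT F T := sx_QT hj hk.neg 1
  have q : ∀ g ∈ H, g * x * g⁻¹ * x⁻¹ ∈ QT F T := fun g hg => mul_mem (norm_QT hW hg hxQ) (inv_mem hxQ)
  have ya : a * x * a⁻¹ * x⁻¹ ∈ A := by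
    have e1 : a * x * a⁻¹ * x⁻¹ = a * (x * a⁻¹ * x⁻¹) := by group
    rw [e1]; exact mul_mem ha (nA x hx _ (inv_mem ha))
  have yb : b * x * b⁻¹ * x⁻¹ ∈ B := by
    have e1 : b * x * b⁻¹ * x⁻¹ = b * (x * b⁻¹ * x⁻¹) := by group
    rw [e1]; exact mul_mem hb (nB x hx _ (inv_mem hb))
  by_contra hcon
  push Not at hcon
  have fa := hcon _ (q a (hA ha)) (Or.inl ya)
  have fb := hcon _ (q b (hB hb)) (Or.inr yb)
  have e2 : sy k (1 : F) * x * (sy k (1 : F))⁻¹ * x⁻¹ = (b * x * b⁻¹ * x⁻¹) * (a * x * a⁻¹ * x⁻¹) := by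
    rw [e]
    calc a * b * x * (a * b)⁻¹ * x⁻¹ = a * (b * x * b⁻¹ * x⁻¹) * (x * a⁻¹ * x⁻¹) := by group
      _ = (b * x * b⁻¹ * x⁻¹) * a * (x * a⁻¹ * x⁻¹) := by rw [hc a ha _ yb]
      _ = _ := by group
  have f1 : rho n F (sy k (1 : F) * x * (sy k (1 : F))⁻¹ * x⁻¹) (be n F (neg k)) = be n F (neg k) := by
    rw [e2, act_mul, fa, fb]
  have hd : Dj (Sum.inl j) (neg k) := ⟨Ne.symm (hk.neg j hj).1, by rw [neg_neg]; exact Ne.symm (hk j hj).1⟩
  have m1 : (Sum.inr j : Ix n) ≠ neg k := Ne.symm (hk.neg j hj).2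
  have m2 : (Sum.inr j : Ix n) ≠ k := Ne.symm (hk j hj).2
  have m3 : neg k ≠ Sum.inl j := (hk.neg j hj).1
  have f2 : rho n F x⁻¹ (be n F (neg k)) = be n F (neg k) := by
    refine act_inv ?_
    rw [hxd, rho_sx hd, neg_inl, neg_neg, be_apply, be_apply, if_neg (ne_neg k), if_neg m1, mul_zero, zero_smul,
      zero_smul, add_zero, add_zero]
  have f3 : rho n F (sy k (1 : F))⁻¹ (be n F (neg k)) = be n F (neg k) + be n F k := by
    rw [inv_eq_of_mul_eq_one_left (sy_sq k (1 : F)), rho_sy, be_apply, if_pos rfl, one_mul, one_smul]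
  have f4 : rho n F x (be n F (neg k) + be n F k) = be n F (neg k) + be n F k + be n F (Sum.inl j) := by
    rw [hxd, rho_sx hd, neg_inl, neg_neg, Pi.add_apply, Pi.add_apply, be_apply, be_apply, be_apply, be_apply,
      if_neg (ne_neg k), if_neg m1, if_pos rfl, if_neg m2, zero_add, mul_one, add_zero, mul_zero, zero_smul, add_zero,
      one_smul]
  rw [act_mul, act_mul, act_mul, f2, f3, f4, rho_sy] at f1
  have f5 := congrFun f1 (Sum.inl j)
  have m4 : (Sum.inl j : Ix n) ≠ neg k := Ne.symm m3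
  have m5 : (Sum.inl j : Ix n) ≠ k := Ne.symm (hk j hj).1
  simp [be_apply, m4, m5] at f5

/-- **the group is directly indecomposable** -/
theorem ind_of [Finite F] (hI1 : ∀ k, Ik T k → ∀ a : F, sy k a ∈ H) (hI2 : ∀ k l, Ik T k → Ik T l → ∀ a : F, sx k l a ∈ H)
    (hfix : ∀ β ∈ H, ∀ w ∈ WT F T, w ≠ 0 → (∀ h ∈ H, rho n F β (rho n F h w) = rho n F h w) →
      ∀ w' ∈ WT F T, rho n F β w' = w')
    (hp : H ≤ ⁅H, H⁆) {j : Fin n} (hj : T j) {k : Ix n} (hk : Ik T k)
    (hx : sx (Sum.inl j) (neg k) (1 : F) ∈ H) (A B : Subgroup (Sy n F)) (hA : A ≤ H) (hB : B ≤ H)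
    (hc : ∀ a ∈ A, ∀ b ∈ B, a * b = b * a) (hd : A ⊓ B = ⊥) (h : ∀ y ∈ H, ∃ a ∈ A, ∃ b ∈ B, y = a * b) :
    A = ⊥ ∨ B = ⊥ := by
  have nA : ∀ y ∈ H, ∀ x ∈ A, y * x * y⁻¹ ∈ A := fun y hy x hx => norm_left hc h hy hx
  have nB : ∀ y ∈ H, ∀ x ∈ B, y * x * y⁻¹ ∈ B := fun y hy x hx => norm_right hc h hy hx
  have hc' : ∀ b ∈ B, ∀ a ∈ A, b * a = a * b := fun b hb a ha => (hc a ha b hb).symm
  have h' : ∀ y ∈ H, ∃ b ∈ B, ∃ a ∈ A, y = b * a := fun y hy => by
    obtain ⟨a, ha, b, hb, e⟩ := h y hy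
    exact ⟨b, hb, a, ha, by rw [e, hc a ha b hb]⟩
  obtain ⟨y, hyQ, hy, hne⟩ := exists_step hW hc hA hB h nA nB hj hk (hI1 k hk 1) hx
  rcases hy with hy | hy
  · right
    exact eq_bot_of_perf (QT_pgroup (step hW hB hc nA nB hI1 hI2 hfix hy hyQ hk.neg hne)) (perf_right hp hB hc hd h)
  · left
    exact eq_bot_of_perf (QT_pgroup (step hW hA hc' nB nA hI1 hI2 hfix hy hyQ hk.neg hne))
      (perf_right hp hA hc' (by rw [inf_comm]; exact hd) h')

end H

end Cfsg.Agent.OddHalf.D4.SpN.Loc
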