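import Cfsg.Agent.OddHalf.D4.SpN.Kf
import Cfsg.Agent.OddHalf.D4.SpN.LocInd

/-!
# ODD, D4, row `Sp_2n(q)`, `n ≥ 3`, `q ≥ 4` even: the centralizers of the elements of `Z(S)` (helper297)

`locA`, `locB`, `locM` : `LA`, `LB`, `LM` are the largest perfect subgroups of the centralizers of `y_1(b)`, `x_12(a)`,
`x_12(a) y_1(b)`.
-/

set_option autoImplicit false
set_option linter.unusedSectionVars false

namespace Cfsg.Agent.OddHalf.D4.SpN.Loc

open Cfsg Cfsg.Agent.ClassicalGeometry.SympBasic Cfsg.Agent.ClassicalGeometry.SympAutSemi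
open Cfsg.Agent.OddHalf.SpN Cfsg.Agent.OddHalf.SpN.Out Cfsg.Agent.OddHalf.D4.SpN.Kf
open scoped Matrix commutatorElement

variable {n : ℕ} {F : Type*} [Field F]

theorem exists_ne_one [Finite F] (h : 4 ≤ Nat.card F) : ∃ c : F, c ≠ 0 ∧ c ≠ 1 := by
  by_contra hc
  push Not at hc
  have h1 : (Set.univ : Set F) ⊆ {0, 1} := fun c _ => by
    by_cases h : c = 0
    · left; exact h
    · right; exact hc c h
  have h2 := Set.ncard_le_ncard h1 (Set.toFinite _)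
  rw [Set.ncard_univ] at h2
  have h3 : ({0, 1} : Set F).ncard ≤ 2 := (Set.ncard_insert_le _ _).trans (by rw [Set.ncard_singleton])
  omega

variable [CharP F 2]

theorem LM_fix (hn : 3 ≤ n) {A : Sy n F} (hA : A ∈ LM F hn) :
    rho n F A (be n F (Sum.inl (c0 hn))) = be n F (Sum.inl (c0 hn)) ∧
      rho n F A (be n F (Sum.inl (c1 hn))) = be n F (Sum.inl (c1 hn)) := by
  have e0 : ∀ i, PM hn i → be n F (Sum.inl (c0 hn)) (neg i) = 0 := fun i hi => by
    rw [be_apply, if_neg]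
    intro e
    rw [neg_eq_iff] at e
    exact hi.1 e
  have e1 : ∀ i, PM hn i → be n F (Sum.inl (c1 hn)) (neg i) = 0 := fun i hi => by
    rw [be_apply, if_neg]
    intro e
    rw [neg_eq_iff] at e
    exact hi.2 e
  exact ⟨fix_RG e0 (fun i j h => ⟨e0 i h.1, e0 j h.2⟩) hA, fix_RG e1 (fun i j h => ⟨e1 i h.1, e1 j h.2⟩) hA⟩

theorem LA_fix (hn : 3 ≤ n) {A : Sy n F} (hA : A ∈ LA F hn) :
    rho n F A (be n F (Sum.inl (c0 hn))) = be n F (Sum.inl (c0 hn)) := by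
  have e0 : ∀ i, PA hn i → be n F (Sum.inl (c0 hn)) (neg i) = 0 := fun i hi => by
    rw [be_apply, if_neg]
    intro e
    rw [neg_eq_iff] at e
    exact hi e
  exact fix_RG e0 (fun i j h => ⟨e0 i h.1, e0 j h.2⟩) hA

/-- generated by involutions -/
theorem RG_two {P : Ix n → Prop} {Q : Ix n → Ix n → Prop} :
    RG F P Q ≤ Subgroup.closure {x | x ∈ RG F P Q ∧ ∃ k : ℕ, x ^ 2 ^ k = 1} := by
  refine RG_le (fun i hi a => ?_) fun i j hij a => ?_
  · exact Subgroup.subset_closure ⟨sy_mem hi a, 1, by rw [pow_one, pow_two, sy_sq]⟩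
  · exact Subgroup.subset_closure ⟨sx_mem hij a, 1, by rw [pow_one, pow_two, sx_sq]⟩

/-- `LA` and `LB` generate -/
theorem top_le (hn : 3 ≤ n) (hq : ∃ c : F, c ≠ 0 ∧ c ≠ 1) {J : Subgroup (Sy n F)} (hA : LA F hn ≤ J)
    (hB : LB F hn ≤ J) : ⊤ ≤ J := by
  have h01 := c01 hn
  have a1 : ∀ i, i ≠ Sum.inr (c0 hn) → ∀ a : F, sy i a ∈ J := fun i hi a => hA (sy_mem (P := PA hn) hi a)
  have a2 : ∀ i j, i ≠ Sum.inr (c0 hn) → j ≠ Sum.inr (c0 hn) → ∀ a : F, sx i j a ∈ J := fun i j hi hj a =>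
    hA (sx_mem (P := PA hn) (Q := QA hn) ⟨hi, hj⟩ a)
  have b1 : ∀ a : F, sx (Sum.inr (c0 hn)) (Sum.inl (c1 hn)) a ∈ J := fun a => hB (sm_mem_LB hn a)
  have hJ : ⁅J, J⁆ ≤ J := Subgroup.commutator_le_self J
  have ne10 : (Sum.inr (c1 hn) : Ix n) ≠ Sum.inr (c0 hn) := by simpa using h01.symm
  have hd : Dj (Sum.inr (c1 hn) : Ix n) (Sum.inr (c0 hn)) := ⟨ne10, by simp⟩
  have c := long_of (L := J) hd (fun a => a1 _ ne10 a) (fun a => by
    rw [neg_inr, sx_symm]; exact b1 a) hq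
  have key : ∀ j, ∀ a : F, sx (Sum.inr (c0 hn)) j a ∈ J := by
    intro j a
    by_cases hdj : Dj (Sum.inr (c0 hn)) j
    · by_cases j1 : j = Sum.inl (c1 hn)
      · rw [j1]; exact b1 a
      by_cases j2 : j = Sum.inr (c1 hn)
      · rw [j2, sx_symm]; exact hJ (c.2 a)
      · refine hJ (short_of (i := Sum.inr (c0 hn)) (j := Sum.inl (c1 hn)) ⟨by simp, by simpa using h01⟩
          ⟨Ne.symm j1, fun e => j2 ?_⟩ hdj b1 (a2 _ _ ne10 (Ne.symm hdj.1) 1) a)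
        rw [← neg_eq_iff] at e
        exact e.symm
    · rw [sx_of_not hdj]; exact one_mem _
  rw [← RI_top (n := n) (F := F)]
  refine RG_le (fun i _ a => ?_) fun i j _ a => ?_
  · by_cases hi : i = Sum.inr (c0 hn)
    · rw [hi]; exact hJ (c.1 a)
    · exact a1 i hi a
  · by_cases hi : i = Sum.inr (c0 hn)
    · rw [hi]; exact key j a
    by_cases hj : j = Sum.inr (c0 hn)
    · rw [hj, sx_symm]; exact key i a
    · exact a2 i j hi hj a

theorem zz_sq (hn : 3 ≤ n) (a b : F) : zz hn a b * zz hn a b = 1 := by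
  rw [zz_mul, CharTwo.add_self_eq_zero, CharTwo.add_self_eq_zero, zz_zero]

theorem zz_ne_one (hn : 3 ≤ n) {a b : F} (h : a ≠ 0 ∨ b ≠ 0) : zz hn a b ≠ 1 := by
  intro e
  rw [← zz_zero hn] at e
  obtain ⟨e1, e2⟩ := zz_inj hn e
  rcases h with h | h
  · exact h e1
  · exact h e2

/-- the centralizers of the involutions of `H ≥ LM` generate -/
theorem gen_of (hn : 3 ≤ n) (hq : ∃ c : F, c ≠ 0 ∧ c ≠ 1) {H : Subgroup (Sy n F)} (hH : LM F hn ≤ H)
    (J : Subgroup (Sy n F))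
    (hJ : ∀ x ∈ H, x * x = 1 → x ≠ 1 → ∀ k ∈ (⊤ : Subgroup (Sy n F)), k * x = x * k → k ∈ J) :
    (⊤ : Subgroup (Sy n F)) ≤ J :=
  top_le hn hq (fun A hA => hJ _ (hH (zz_mem_LM hn 0 1)) (zz_sq hn 0 1) (zz_ne_one hn (Or.inr one_ne_zero)) A trivial
      (LA_comm hn hA 1).eq)
    fun A hA => hJ _ (hH (zz_mem_LM hn 1 0)) (zz_sq hn 1 0) (zz_ne_one hn (Or.inl one_ne_zero)) A trivial
      (LB_comm hn hA 1).eq

/-! ### the sets `T` -/

/-- `{1}` -/
def T1 (hn : 3 ≤ n) (j : Fin n) : Prop := j = c0 hn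
/-- `{1, 2}` -/
def T2 (hn : 3 ≤ n) (j : Fin n) : Prop := j = c0 hn ∨ j = c1 hn

theorem WT_T1 (hn : 3 ≤ n) {w : Ix n → F} (hw : w ∈ WT F (T1 hn)) :
    w = w (Sum.inl (c0 hn)) • be n F (Sum.inl (c0 hn)) := by
  ext k
  rw [Pi.smul_apply, be_apply, smul_eq_mul]
  by_cases hk : k = Sum.inl (c0 hn)
  · rw [hk, if_pos rfl, mul_one]
  · rw [if_neg hk, mul_zero]
    refine hw k fun j hj => ?_
    rw [T1] at hj
    rw [hj]; exact hk

theorem WT_T2 (hn : 3 ≤ n) {w : Ix n → F} : w ∈ WT F (T2 hn) ↔ w ∈ W2 F hn := by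
  constructor
  · intro hw
    refine mem_W2_of hn fun k h0 h1 => hw k fun j hj => ?_
    rcases hj with rfl | rfl
    · exact h0
    · exact h1
  · intro hw k hk
    exact W2_coord hn hw (hk _ (Or.inl rfl)) (hk _ (Or.inr rfl))

theorem PM_of_Ik (hn : 3 ≤ n) {k : Ix n} (hk : Ik (T2 hn) k) : PM hn k :=
  ⟨(hk _ (Or.inl rfl)).2, (hk _ (Or.inr rfl)).2⟩

theorem Ik_two (hn : 3 ≤ n) : Ik (T2 hn) (Sum.inl (c2 hn)) := by
  have h02 := c02 hn
  have h12 := c12 hn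
  rintro j (rfl | rfl)
  · exact ⟨by simpa using h02.symm, by simp⟩
  · exact ⟨by simpa using h12.symm, by simp⟩

theorem Ik_one (hn : 3 ≤ n) : Ik (T1 hn) (Sum.inl (c2 hn)) := fun j hj => Ik_two hn j (Or.inl hj)

theorem x_mem_LM (hn : 3 ≤ n) : sx (Sum.inl (c0 hn)) (neg (Sum.inl (c2 hn))) (1 : F) ∈ LM F hn :=
  sx_mem (P := PM hn) (Q := QM hn) ⟨by simp [PM], PM_of_Ik hn (Ik_two hn).neg⟩ 1

variable [Finite F]

/-- **`LA` is the largest perfect subgroup of `C(y_1(b))`** -/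
theorem locA (hn : 3 ≤ n) (hq : ∃ c : F, c ≠ 0 ∧ c ≠ 1) {b : F} (hb : b ≠ 0) : LocX ⊤ (zz hn 0 b) (LA F hn) where
  HK := le_top
  Hw y hy := (LA_comm hn hy b).eq
  mem := LM_le_LA hn (zz_mem_LM hn 0 b)
  perf := (LA_perfect hn hq).ge
  two := RG_two
  res P _ _ hP y hy := mem_LA hn ((comm_b_iff hn hb).1 (hP y hy))
  ind := by
    have fixW : ∀ h ∈ LA F hn, ∀ w ∈ WT F (T1 hn), rho n F h w = w := fun h hh w hw => by
      rw [WT_T1 hn hw, act_smul, LA_fix hn hh]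
    exact ind_of (T := T1 hn) (fun h hh w hw => by rw [fixW h hh w hw]; exact hw)
      (fun k hk a => sy_mem (P := PA hn) (hk _ rfl).2 a)
      (fun k l hk hl a => sx_mem (P := PA hn) (Q := QA hn) ⟨(hk _ rfl).2, (hl _ rfl).2⟩ a)
      (fun β hβ w _ _ _ w' hw' => fixW β hβ w' hw')
      (LA_perfect hn hq).ge (j := c0 hn) rfl (Ik_one hn) (LM_le_LA hn (x_mem_LM hn))
  gen := gen_of hn hq (LM_le_LA hn)

/-- **`LB` is the largest perfect subgroup of `C(x_12(a))`** -/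
theorem locB (hn : 3 ≤ n) (hq : ∃ c : F, c ≠ 0 ∧ c ≠ 1) {a : F} (ha : a ≠ 0) : LocX ⊤ (zz hn a 0) (LB F hn) where
  HK := le_top
  Hw y hy := (LB_comm hn hy a).eq
  mem := LM_le_LB hn (zz_mem_LM hn a 0)
  perf := (LB_perfect hn hq).ge
  two := RG_two
  res P _ _ hP y hy := mem_LB hn ((comm_a_iff hn ha).1 (hP y hy))
  ind := by
    refine ind_of (fun h hh w hw => ?_) (fun k hk a => sy_mem (P := PM hn) (PM_of_Ik hn hk) a)
      (fun k l hk hl a => sx_mem (P := PM hn) (Q := QB hn) (Or.inl ⟨PM_of_Ik hn hk, PM_of_Ik hn hl⟩) a)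
      (fun β hβ w hw hw0 hfix w' hw' => ?_) (LB_perfect hn hq).ge (j := c0 hn) (Or.inl rfl) (Ik_two hn)
      (LM_le_LB hn (x_mem_LM hn))
    · rw [WT_T2] at hw ⊢
      exact (pres_W2 hn (LB_comm hn hh 1)).1 w hw
    · obtain ⟨g, hg, eg⟩ := exists_LB hn ((WT_T2 hn).1 hw) hw0
      have h1 := hfix g hg
      rw [eg] at h1
      have h2 := hfix _ (mul_mem (sm_mem_LB hn 1) hg)
      have e1 := sm_act (F := F) hn 1 1 0
      rw [zero_smul, add_zero, mul_one, zero_add, one_smul, one_smul] at e1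
      rw [act_mul, eg, e1, act_add, h1] at h2
      have h3 := add_left_cancel h2
      obtain ⟨x, y, rfl⟩ := (mem_W2 hn).1 ((WT_T2 hn).1 hw')
      rw [act_add, act_smul, act_smul, h1, h3]
  gen := gen_of hn hq (LM_le_LB hn)

/-- **`LM` is the largest perfect subgroup of `C(x_12(a) y_1(b))`** -/
theorem locM (hn : 3 ≤ n) (hq : ∃ c : F, c ≠ 0 ∧ c ≠ 1) {a b : F} (ha : a ≠ 0) (hb : b ≠ 0) :
    LocX ⊤ (zz hn a b) (LM F hn) where
  HK := le_top
  Hw y hy := (LM_comm hn hy a b).eq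
  mem := zz_mem_LM hn a b
  perf := (LM_perfect hn hq).ge
  two := RG_two
  res P _ hp hP := by
    refine hp.trans ?_
    rw [Subgroup.commutator_le]
    have key : ∀ x ∈ P, rho n F x (be n F (Sum.inl (c0 hn))) = be n F (Sum.inl (c0 hn)) ∧
        ∃ c : F, rho n F x (be n F (Sum.inl (c1 hn))) =
          c • be n F (Sum.inl (c0 hn)) + (1 : F) • be n F (Sum.inl (c1 hn)) := by
      intro x hx
      obtain ⟨h1, h2⟩ := (comm_ab_iff hn ha hb).1 (hP x hx)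
      have h0 := (comm_b_iff hn one_ne_zero).1 h2
      exact ⟨h0, exists_e1 hn h0 h1⟩
    intro x hx y hy
    obtain ⟨x0, c, xc⟩ := key x hx
    obtain ⟨y0, d, yd⟩ := key y hy
    rw [one_smul] at xc yd
    rw [commutatorElement_def]
    have e : x * y * x⁻¹ * y⁻¹ = (x * y) * (y * x)⁻¹ := by group
    rw [e]
    have i0 : rho n F (y * x)⁻¹ (be n F (Sum.inl (c0 hn))) = be n F (Sum.inl (c0 hn)) := by
      apply act_inv
      rw [act_mul, x0, y0]
    have i1 : rho n F (y * x)⁻¹ ((c + d) • be n F (Sum.inl (c0 hn)) + be n F (Sum.inl (c1 hn))) =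
        be n F (Sum.inl (c1 hn)) := by
      apply act_inv
      rw [act_mul, xc, act_add, act_smul, y0, yd, ← add_assoc, ← add_smul]
    have j1 : rho n F (x * y) (be n F (Sum.inl (c1 hn))) =
        (c + d) • be n F (Sum.inl (c0 hn)) + be n F (Sum.inl (c1 hn)) := by
      rw [act_mul, yd, act_add, act_smul, x0, xc, ← add_assoc, ← add_smul, add_comm d]
    have k0 : rho n F ((x * y) * (y * x)⁻¹) (be n F (Sum.inl (c0 hn))) = be n F (Sum.inl (c0 hn)) := by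
      rw [act_mul, i0, act_mul, y0, x0]
    refine mem_LM' hn k0 ?_
    have k1 : rho n F ((x * y) * (y * x)⁻¹) ((c + d) • be n F (Sum.inl (c0 hn)) + be n F (Sum.inl (c1 hn))) =
        (c + d) • be n F (Sum.inl (c0 hn)) + be n F (Sum.inl (c1 hn)) := by rw [act_mul, i1, j1]
    rw [act_add, act_smul, k0] at k1
    exact add_left_cancel k1
  ind := by
    have fixW : ∀ h ∈ LM F hn, ∀ w ∈ WT F (T2 hn), rho n F h w = w := fun h hh w hw => by
      obtain ⟨x, y, rfl⟩ := (mem_W2 hn).1 ((WT_T2 hn).1 hw)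
      rw [act_add, act_smul, act_smul, (LM_fix hn hh).1, (LM_fix hn hh).2]
    exact ind_of (fun h hh w hw => by rw [fixW h hh w hw]; exact hw)
      (fun k hk a => sy_mem (P := PM hn) (PM_of_Ik hn hk) a)
      (fun k l hk hl a => sx_mem (P := PM hn) (Q := QM hn) ⟨PM_of_Ik hn hk, PM_of_Ik hn hl⟩ a)
      (fun β hβ w _ _ _ w' hw' => fixW β hβ w' hw')
      (LM_perfect hn hq).ge (j := c0 hn) (Or.inl rfl) (Ik_two hn) (x_mem_LM hn)
  gen := gen_of hn hq le_rfl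

theorem Up_le_LA (hn : 3 ≤ n) : Up n F ≤ LA F hn := fun _ hA =>
  mem_LA hn ((comm_b_iff hn one_ne_zero).1 (comm_Z hn hA 0 1))

theorem Up_le_LB (hn : 3 ≤ n) : Up n F ≤ LB F hn := fun _ hA => mem_LB hn (comm_Z hn hA 1 0)

end Cfsg.Agent.OddHalf.D4.SpN.Loc
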