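import Cfsg.Agent.OddHalf.SpN.WFrame
import Cfsg.Agent.StdRank2.B2Std
import Cfsg.Agent.TitsThree.StdData
import Cfsg.Agent.S0765

/-!
# ODD, D4, row `spe`: the standard root elements of `Sp₄(F) ≤ Sp_2n(F)` as a `B₂` package (helper48)

* `maps i j : B2Maps (stdSp F) (Sy n F)` : `x = X_{i-j}`, `y = X_{i+j}` (short), `z₁ = Y_i`, `z₂ = Y_j` (long);
* `maps_rel` : it satisfies `B2Rel`;
* `S2 : Std (stdSp F) (Sy 2 F)` : for `n = 2` it generates.
-/

set_option autoImplicit false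
set_option linter.unusedSectionVars false

namespace Cfsg.Agent.OddHalf.D4.SpN.FourStd

open Cfsg Cfsg.Agent.ClassicalGeometry.SympBasic Cfsg.Agent.ClassicalGeometry.SympAutSemi
  Cfsg.Agent.OddHalf.SpN
open Cfsg.Agent.TitsThree.B2Pkg Cfsg.Agent.TitsThree.StdData Cfsg.Agent.TitsThree.RankTwoIdentB2
  Cfsg.Agent.StdRank2.B2Std
open scoped Matrix commutatorElement

variable {n : ℕ} {F : Type*} [Field F] {i j : Ix n}

/-- the root elements on `±i, ±j` -/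
noncomputable def maps (F : Type*) [Field F] (i j : Ix n) : B2Maps (stdSp F) (Sy n F) where
  x a := sx i (neg j) a
  x' a := sx (neg i) j a
  y a := sx i j a
  y' a := sx (neg i) (neg j) a
  z₁ p := sy i p.c
  z₂ p := sy j p.c
  z₁' p := sy (neg i) p.c
  z₂' p := sy (neg j) p.c

variable [CharP F 2]

omit [CharP F 2] in
theorem ev_inv' (lam : Fin n → Fˣ) (k : Ix n) : ev lam⁻¹ k = (ev lam k)⁻¹ := map_inv (evM k) lam

/-- conjugation by `h w h⁻¹` -/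
theorem cj_sx (lam : Fin n → Fˣ) (s : W n) (k l : Ix n) (a : F) :
    (sh lam * sw s * (sh lam)⁻¹) * sx k l a * (sh lam * sw s * (sh lam)⁻¹)⁻¹ =
      sx (s.1 k) (s.1 l) (ev lam (s.1 k) * ev lam (s.1 l) * (((ev lam k)⁻¹ : Fˣ) * ((ev lam l)⁻¹ : Fˣ) * a)) := by
  have h1 : (sh lam)⁻¹ * sx k l a * ((sh lam)⁻¹)⁻¹ = sx k l (((ev lam k)⁻¹ : Fˣ) * ((ev lam l)⁻¹ : Fˣ) * a) := by
    rw [← map_inv, sh_sx, ev_inv', ev_inv']
  calc _ = sh lam * (sw s * ((sh lam)⁻¹ * sx k l a * ((sh lam)⁻¹)⁻¹) * (sw s)⁻¹) * (sh lam)⁻¹ := by group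
    _ = _ := by rw [h1, sw_sx, sh_sx]

theorem cj_sy (lam : Fin n → Fˣ) (s : W n) (k : Ix n) (a : F) :
    (sh lam * sw s * (sh lam)⁻¹) * sy k a * (sh lam * sw s * (sh lam)⁻¹)⁻¹ =
      sy (s.1 k) ((ev lam (s.1 k) : F) ^ 2 * ((((ev lam k)⁻¹ : Fˣ) : F) ^ 2 * a)) := by
  have h1 : (sh lam)⁻¹ * sy k a * ((sh lam)⁻¹)⁻¹ = sy k ((((ev lam k)⁻¹ : Fˣ) : F) ^ 2 * a) := by
    rw [← map_inv, sh_sy, ev_inv']
  calc _ = sh lam * (sw s * ((sh lam)⁻¹ * sy k a * ((sh lam)⁻¹)⁻¹) * (sw s)⁻¹) * (sh lam)⁻¹ := by group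
    _ = _ := by rw [h1, sw_sy, sh_sy]

theorem cjs_sx (lam : Fin n → Fˣ) {e : Equiv.Perm (Ix n)} (he : e ∈ W n) (k l : Ix n) (a : F) :
    (sh lam * sw ⟨e, he⟩ * (sh lam)⁻¹) * sx k l a * (sh lam * sw ⟨e, he⟩ * (sh lam)⁻¹)⁻¹ =
      sx (e k) (e l) (ev lam (e k) * ev lam (e l) * (((ev lam k)⁻¹ : Fˣ) * ((ev lam l)⁻¹ : Fˣ) * a)) :=
  cj_sx lam ⟨e, he⟩ k l a

theorem cjs_sy (lam : Fin n → Fˣ) {e : Equiv.Perm (Ix n)} (he : e ∈ W n) (k : Ix n) (a : F) :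
    (sh lam * sw ⟨e, he⟩ * (sh lam)⁻¹) * sy k a * (sh lam * sw ⟨e, he⟩ * (sh lam)⁻¹)⁻¹ =
      sy (e k) ((ev lam (e k) : F) ^ 2 * ((((ev lam k)⁻¹ : Fˣ) : F) ^ 2 * a)) :=
  cj_sy lam ⟨e, he⟩ k a

theorem sws_sx {e : Equiv.Perm (Ix n)} (he : e ∈ W n) (k l : Ix n) (a : F) :
    sw ⟨e, he⟩ * sx k l a * (sw ⟨e, he⟩)⁻¹ = sx (e k) (e l) a := sw_sx ⟨e, he⟩ k l a

theorem sws_sy {e : Equiv.Perm (Ix n)} (he : e ∈ W n) (k : Ix n) (a : F) :
    sw ⟨e, he⟩ * sy k a * (sw ⟨e, he⟩)⁻¹ = sy (e k) a := sw_sy ⟨e, he⟩ k a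

omit [CharP F 2] in
theorem sg_neg' (j : Ix n) : sg (neg j) j = neg j := by
  rw [sg, neg_neg]; exact Equiv.swap_apply_right _ _

theorem nI_eq (h : Dj i j) : (maps F i j).nI = sw ⟨tr i j, tr_mem h⟩ := by
  rw [sw_tr h, B2Maps.nI]
  show sx i (neg j) 1 * sx (neg i) j (-1) * sx i (neg j) 1 = _
  rw [CharTwo.neg_eq]

theorem nII_eq (p : (stdSp F).T) {d : Fˣ} (hd : (d : F) ^ 2 = p.c) :
    (maps F i j).nII p = sh (one j d) * sw ⟨sg (neg j), sg_mem (neg j)⟩ * (sh (one j d))⁻¹ := by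
  have h0 : p.c ≠ 0 := by rw [← hd]; exact pow_ne_zero 2 d.ne_zero
  have e1 : ((stdSp F).sc (-((stdSp F).σ p.c)⁻¹) p).c = (((d⁻¹ : Fˣ) : F)) ^ 2 * 1 := by
    show -(p.c)⁻¹ * -(p.c)⁻¹ * p.c = _
    rw [← hd, Units.val_inv_eq_inv_val]
    have := d.ne_zero
    field_simp
  have e2 : ((stdSp F).sc (-((stdSp F).ε * p.c⁻¹)) p).c = (((d⁻¹ : Fˣ) : F)) ^ 2 * 1 := by
    show -(-1 * (p.c)⁻¹) * -(-1 * (p.c)⁻¹) * p.c = _
    rw [← hd, Units.val_inv_eq_inv_val]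
    have := d.ne_zero
    field_simp
  have h1 : sy (neg j) ((((d⁻¹ : Fˣ) : F)) ^ 2 * 1) = sh (one j d) * sy (neg j) 1 * (sh (one j d))⁻¹ := by
    rw [sh_sy, ev_one_neg]
  have h2 : sy j p.c = sh (one j d) * sy j 1 * (sh (one j d))⁻¹ := by
    rw [sh_sy, ev_one_self, mul_one, hd]
  rw [B2Maps.nII, sw_sg, neg_neg]
  show sy (neg j) _ * sy j p.c * sy (neg j) _ = _
  rw [e1, e2, h1, h2]
  group

set_option maxHeartbeats 1000000 in
theorem maps_rel [Finite F] (h : Dj i j) : B2Rel (maps F i j) := by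
  have hsq : ∀ c : F, c ≠ 0 → ∃ d : Fˣ, (d : F) ^ 2 = c := fun c hc => by
    obtain ⟨d, hd⟩ := (Finite.injective_iff_surjective.1 (frobenius_inj F 2)) c
    have hd' : d ^ 2 = c := hd
    refine ⟨Units.mk0 d ?_, hd'⟩
    rintro rfl
    exact hc (by rw [← hd']; simp)
  have nn : ∀ a : F, -a = a := fun a => CharTwo.neg_eq a
  have ti : tr i j i = j := tr_left h
  have tj : tr i j j = i := by
    rw [tr, Equiv.Perm.mul_apply, Equiv.swap_apply_of_ne_of_ne (fun e => h.2 (by rw [e, neg_neg])) (ne_neg j),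
      Equiv.swap_apply_right]
  have tni : tr i j (neg i) = neg j := by
    have := tr_mem h i
    rw [this, ti]
  have tnj : tr i j (neg j) = neg i := by
    have := tr_mem h j
    rw [this, tj]
  have si : sg (neg j) i = i := sg_fix (dj_neg_right.2 h)
  have sni : sg (neg j) (neg i) = neg i := sg_fix (dj_neg_left.2 (dj_neg_right.2 h))
  have sj : sg (neg j) j = neg j := sg_neg' j
  have snj : sg (neg j) (neg j) = j := by rw [sg_left, neg_neg]
  have oi : ∀ d : Fˣ, ev (one j d) i = 1 := fun d => ev_one_ne h d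
  have oni : ∀ d : Fˣ, ev (one j d) (neg i) = 1 := fun d => ev_one_ne (dj_neg_left.2 h) d
  exact
  { x_add := fun a b => sx_add _ _ a b
    x'_add := fun a b => sx_add _ _ a b
    y_add := fun a b => sx_add _ _ a b
    y'_add := fun a b => sx_add _ _ a b
    z₁_mul := fun p q => by
      show sy i (p.c + q.c - 0) = _
      rw [sub_zero, sy_add]; rfl
    z₂_mul := fun p q => by
      show sy j (p.c + q.c - 0) = _
      rw [sub_zero, sy_add]; rfl
    z₁'_mul := fun p q => by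
      show sy (neg i) (p.c + q.c - 0) = _
      rw [sub_zero, sy_add]; rfl
    z₂'_mul := fun p q => by
      show sy (neg j) (p.c + q.c - 0) = _
      rw [sub_zero, sy_add]; rfl
    x_z₂ := fun a p => by
      show ⁅sx i (neg j) a, sy j p.c⁆ = sy i (a * a * p.c) * sx i j (-(-1 * a * p.c))
      have h1 := sy_rel h.symm p.c a
      have e1 : sx i (neg j) a = sx (neg j) i a := sx_symm _ _ _
      have hc : Commute (sx i j (p.c * a)) (sy i (p.c * a ^ 2)) :=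
        (sy_sx_comm (ne_neg i) (fun e => h.2 (by rw [e, neg_neg])) _ _).symm
      have i1 : (sx i j (p.c * a))⁻¹ = sx i j (p.c * a) := inv_eq_of_mul_eq_one_left (sx_sq _ _ _)
      have i2 : (sy i (p.c * a ^ 2))⁻¹ = sy i (p.c * a ^ 2) := inv_eq_of_mul_eq_one_left (sy_sq _ _)
      have e2 : a * a * p.c = p.c * a ^ 2 := by ring
      have e3 : -(-1 * a * p.c) = p.c * a := by ring
      rw [e2, e3, e1, commutatorElement_def]
      rw [sx_symm j i] at h1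
      calc sx (neg j) i a * sy j p.c * (sx (neg j) i a)⁻¹ * (sy j p.c)⁻¹
          = (sx i j (p.c * a) * sy i (p.c * a ^ 2))⁻¹ *
            (sx i j (p.c * a) * sy i (p.c * a ^ 2) * (sx (neg j) i a * sy j p.c)) *
            (sx (neg j) i a)⁻¹ * (sy j p.c)⁻¹ := by group
        _ = (sx i j (p.c * a) * sy i (p.c * a ^ 2))⁻¹ * (sy j p.c * sx (neg j) i a) *
            (sx (neg j) i a)⁻¹ * (sy j p.c)⁻¹ := by rw [h1]
        _ = (sx i j (p.c * a) * sy i (p.c * a ^ 2))⁻¹ := by group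
        _ = _ := by rw [mul_inv_rev, i1, i2]
    z₁_z₂ := fun p q => by
      show ⁅sy i p.c, sy j q.c⁆ = sx i j (-0)
      rw [neg_zero, sx_zero, commutatorElement_eq_one_iff_commute]
      exact sy_comm (fun e => h.2 (by rw [e, neg_neg])) _ _
    x_y := fun a b => by
      show ⁅sx i (neg j) a, sx i j b⁆ = sy i (a * b - -1 * a * b)
      have e : a * b - -1 * a * b = 0 := by
        have := two0 (F := F)
        linear_combination (a * b) * this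
      rw [e, sy_zero, commutatorElement_eq_one_iff_commute, sx_symm i (neg j), sx_symm i j]
      exact (sx_comm' b a).symm
    x_z₁ := fun a p => (sy_sx_comm (ne_neg i) (fun e => h.1 (by rw [← neg_neg j, e, neg_neg])) _ _).symm
    y_z₁ := fun a p => (sy_sx_comm (ne_neg i) (fun e => h.2 (by rw [e, neg_neg])) _ _).symm
    y_z₂ := fun a p => (sy_sx_comm h.2 (ne_neg j) _ _).symm
    nI_x := fun a => by
      rw [nI_eq h]
      show sw ⟨tr i j, tr_mem h⟩ * sx i (neg j) a * (sw ⟨tr i j, tr_mem h⟩)⁻¹ = sx (neg i) j (-a)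
      rw [sws_sx, nn, ti, tnj, sx_symm]
    nI_x' := fun a => by
      rw [nI_eq h]
      show sw ⟨tr i j, tr_mem h⟩ * sx (neg i) j a * (sw ⟨tr i j, tr_mem h⟩)⁻¹ = sx i (neg j) (-a)
      rw [sws_sx, nn, tni, tj, sx_symm]
    nI_y := fun a => by
      rw [nI_eq h]
      show sw ⟨tr i j, tr_mem h⟩ * sx i j a * (sw ⟨tr i j, tr_mem h⟩)⁻¹ = sx i j (-1 * a)
      rw [sws_sx, neg_one_mul, nn, ti, tj, sx_symm]
    nI_y' := fun a => by
      rw [nI_eq h]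
      show sw ⟨tr i j, tr_mem h⟩ * sx (neg i) (neg j) a * (sw ⟨tr i j, tr_mem h⟩)⁻¹ = sx (neg i) (neg j) ((-1)⁻¹ * a)
      have e : ((-1 : F)⁻¹) = 1 := by rw [nn, inv_one]
      rw [sws_sx, e, one_mul, tni, tnj, sx_symm]
    nI_z₁ := fun p => by
      rw [nI_eq h]
      show sw ⟨tr i j, tr_mem h⟩ * sy i p.c * (sw ⟨tr i j, tr_mem h⟩)⁻¹ = sy j (-1 * -1 * p.c)
      have e : (-1 * -1 * p.c : F) = p.c := by ring
      rw [sws_sy, e, ti]
    nI_z₂ := fun p => by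
      rw [nI_eq h]
      show sw ⟨tr i j, tr_mem h⟩ * sy j p.c * (sw ⟨tr i j, tr_mem h⟩)⁻¹ = sy i p.c
      rw [sws_sy, tj]
    nI_z₁' := fun p => by
      rw [nI_eq h]
      show sw ⟨tr i j, tr_mem h⟩ * sy (neg i) p.c * (sw ⟨tr i j, tr_mem h⟩)⁻¹ = sy (neg j) (-1 * -1 * p.c)
      have e : (-1 * -1 * p.c : F) = p.c := by ring
      rw [sws_sy, e, tni]
    nI_z₂' := fun p => by
      rw [nI_eq h]
      show sw ⟨tr i j, tr_mem h⟩ * sy (neg j) p.c * (sw ⟨tr i j, tr_mem h⟩)⁻¹ = sy (neg i) p.c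
      rw [sws_sy, tnj]
    nII_x := fun p hp a => by
      obtain ⟨d, hd⟩ := hsq p.c hp
      rw [nII_eq p hd]
      show sh (one j d) * sw ⟨sg (neg j), sg_mem (neg j)⟩ * (sh (one j d))⁻¹ * sx i (neg j) a *
        (sh (one j d) * sw ⟨sg (neg j), sg_mem (neg j)⟩ * (sh (one j d))⁻¹)⁻¹ = sx i j (-1 * p.c * a)
      rw [cjs_sx, si, snj, oi, ev_one_self, ev_one_neg, neg_one_mul, nn, ← hd]
      congr 1
      simp only [inv_one, Units.val_one, one_mul, inv_inv]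
      ring
    nII_y := fun p hp b => by
      obtain ⟨d, hd⟩ := hsq p.c hp
      rw [nII_eq p hd]
      show sh (one j d) * sw ⟨sg (neg j), sg_mem (neg j)⟩ * (sh (one j d))⁻¹ * sx i j b *
        (sh (one j d) * sw ⟨sg (neg j), sg_mem (neg j)⟩ * (sh (one j d))⁻¹)⁻¹ = sx i (neg j) (p.c⁻¹ * b)
      rw [cjs_sx, si, sj, oi, ev_one_self, ev_one_neg, ← hd]
      congr 1
      have := d.ne_zero
      simp only [inv_one, Units.val_one, one_mul, Units.val_inv_eq_inv_val]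
      field_simp
    nII_x' := fun p hp a => by
      obtain ⟨d, hd⟩ := hsq p.c hp
      rw [nII_eq p hd]
      show sh (one j d) * sw ⟨sg (neg j), sg_mem (neg j)⟩ * (sh (one j d))⁻¹ * sx (neg i) j a *
        (sh (one j d) * sw ⟨sg (neg j), sg_mem (neg j)⟩ * (sh (one j d))⁻¹)⁻¹ = sx (neg i) (neg j) (-(p.c⁻¹ * a))
      rw [cjs_sx, sni, sj, oni, ev_one_self, ev_one_neg, ← hd, nn]
      congr 1
      have := d.ne_zero
      simp only [inv_one, Units.val_one, one_mul, Units.val_inv_eq_inv_val]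
      field_simp
    nII_y' := fun p hp b => by
      obtain ⟨d, hd⟩ := hsq p.c hp
      rw [nII_eq p hd]
      show sh (one j d) * sw ⟨sg (neg j), sg_mem (neg j)⟩ * (sh (one j d))⁻¹ * sx (neg i) (neg j) b *
        (sh (one j d) * sw ⟨sg (neg j), sg_mem (neg j)⟩ * (sh (one j d))⁻¹)⁻¹ = sx (neg i) j (-((-1)⁻¹ * p.c * b))
      have e : ((-1 : F)⁻¹) = 1 := by rw [nn, inv_one]
      rw [cjs_sx, sni, snj, oni, ev_one_self, ev_one_neg, ← hd, e, nn]
      congr 1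
      simp only [inv_one, Units.val_one, one_mul, inv_inv]
      ring
    nII_z₁ := fun p hp q => by
      obtain ⟨d, hd⟩ := hsq p.c hp
      rw [nII_eq p hd]
      show sh (one j d) * sw ⟨sg (neg j), sg_mem (neg j)⟩ * (sh (one j d))⁻¹ * sy i q.c *
        (sh (one j d) * sw ⟨sg (neg j), sg_mem (neg j)⟩ * (sh (one j d))⁻¹)⁻¹ = sy i q.c
      rw [cjs_sy, si, oi]
      simp
    nII_z₁' := fun p hp q => by
      obtain ⟨d, hd⟩ := hsq p.c hp
      rw [nII_eq p hd]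
      show sh (one j d) * sw ⟨sg (neg j), sg_mem (neg j)⟩ * (sh (one j d))⁻¹ * sy (neg i) q.c *
        (sh (one j d) * sw ⟨sg (neg j), sg_mem (neg j)⟩ * (sh (one j d))⁻¹)⁻¹ = sy (neg i) q.c
      rw [cjs_sy, sni, oni]
      simp
    nII_z₂ := fun p hp q => by
      obtain ⟨d, hd⟩ := hsq p.c hp
      rw [nII_eq p hd]
      show sh (one j d) * sw ⟨sg (neg j), sg_mem (neg j)⟩ * (sh (one j d))⁻¹ * sy j q.c *
        (sh (one j d) * sw ⟨sg (neg j), sg_mem (neg j)⟩ * (sh (one j d))⁻¹)⁻¹ = sy (neg j) (p.c⁻¹ * p.c⁻¹ * q.c)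
      rw [cjs_sy, sj, ev_one_self, ev_one_neg, ← hd]
      congr 1
      have := d.ne_zero
      simp only [Units.val_inv_eq_inv_val]
      field_simp
    nII_z₂' := fun p hp q => by
      obtain ⟨d, hd⟩ := hsq p.c hp
      rw [nII_eq p hd]
      show sh (one j d) * sw ⟨sg (neg j), sg_mem (neg j)⟩ * (sh (one j d))⁻¹ * sy (neg j) q.c *
        (sh (one j d) * sw ⟨sg (neg j), sg_mem (neg j)⟩ * (sh (one j d))⁻¹)⁻¹ = sy j ((-1)⁻¹ * p.c * ((-1)⁻¹ * p.c) * q.c)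
      have e : ((-1 : F)⁻¹) = 1 := by rw [nn, inv_one]
      rw [cjs_sy, snj, ev_one_self, ev_one_neg, ← hd, e]
      congr 1
      simp only [inv_inv]
      ring }

/-! ### Nondegeneracy -/

theorem be_ne' (k : Ix n) : be n F k ≠ 0 := fun h => by
  have := congrFun h k
  rw [be_apply, if_pos rfl] at this
  exact one_ne_zero this

/-- the positive part preserves `e_i` and `e_j + ⟨e_i⟩` -/
theorem pos_fix (h : Dj i j) {g : Sy n F} (hg : g ∈ UU (maps F i j)) :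
    rho n F g (be n F i) = be n F i ∧ ∃ a : F, rho n F g (be n F j) = be n F j + a • be n F i := by
  have hij : neg i ≠ j := fun e => h.2 (by rw [← e, neg_neg])
  have hji : neg j ≠ i := fun e => h.2 e.symm
  refine Subgroup.closure_induction (p := fun g _ => rho n F g (be n F i) = be n F i ∧
    ∃ a : F, rho n F g (be n F j) = be n F j + a • be n F i) ?_ ?_ ?_ ?_ hg
  · rintro g (⟨a, rfl | rfl⟩ | ⟨p, rfl | rfl⟩)
    · show rho n F (sx i (neg j) a) _ = _ ∧ ∃ b : F, rho n F (sx i (neg j) a) _ = _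
      have hd : Dj i (neg j) := dj_neg_right.2 h
      refine ⟨?_, a, ?_⟩
      · rw [rho_sx hd, be_apply, be_apply, neg_neg, if_neg h.1.symm, if_neg (neg_ne i)]; simp
      · rw [rho_sx hd, be_apply, be_apply, neg_neg, if_pos rfl, if_neg hij]; simp
    · show rho n F (sx i j a) _ = _ ∧ ∃ b : F, rho n F (sx i j a) _ = _
      refine ⟨?_, 0, ?_⟩
      · rw [rho_sx h, be_apply, be_apply, if_neg hji, if_neg (neg_ne i)]; simp
      · rw [rho_sx h, be_apply, be_apply, if_neg (neg_ne j), if_neg hij]; simp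
    · show rho n F (sy i p.c) _ = _ ∧ ∃ b : F, rho n F (sy i p.c) _ = _
      refine ⟨?_, 0, ?_⟩
      · rw [rho_sy, be_apply, if_neg (neg_ne i)]; simp
      · rw [rho_sy, be_apply, if_neg hij]; simp
    · show rho n F (sy j p.c) _ = _ ∧ ∃ b : F, rho n F (sy j p.c) _ = _
      refine ⟨?_, 0, ?_⟩
      · rw [rho_sy, be_apply, if_neg hji]; simp
      · rw [rho_sy, be_apply, if_neg (neg_ne j)]; simp
  · rw [map_one]
    exact ⟨rfl, 0, by rw [zero_smul, add_zero]; rfl⟩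
  · rintro g k - - ⟨h1, a, h2⟩ ⟨h3, b, h4⟩
    rw [map_mul, Equiv.Perm.mul_apply, Equiv.Perm.mul_apply, h3, h4]
    refine ⟨h1, a + b, ?_⟩
    rw [rho_add, rho_smul, h1, h2, add_smul, add_assoc]
  · rintro g - ⟨h1, a, h2⟩
    rw [map_inv]
    have h3 : (rho n F g)⁻¹ (be n F i) = be n F i := by
      rw [Equiv.Perm.inv_eq_iff_eq]; exact h1.symm
    refine ⟨h3, a, ?_⟩
    rw [Equiv.Perm.inv_eq_iff_eq, rho_add, rho_smul, h1, h2, add_assoc, ← add_smul, CharTwo.add_self_eq_zero,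
      zero_smul, add_zero]

theorem ndI (h : Dj i j) : ∃ a, (maps F i j).x' a ∉ UU (maps F i j) := by
  refine ⟨1, fun hm => ?_⟩
  have h1 := (pos_fix h hm).1
  change rho n F (sx (neg i) j 1) _ = _ at h1
  have hij : neg i ≠ j := fun e => h.2 (by rw [← e, neg_neg])
  have hji : neg j ≠ i := fun e => h.2 e.symm
  rw [rho_sx (dj_neg_left.2 h), be_apply, be_apply, neg_neg, if_neg hji, if_pos rfl, mul_zero, zero_smul, add_zero,
    mul_one, one_smul] at h1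
  exact be_ne' j (left_eq_add.1 h1.symm)

theorem ndJ (h : Dj i j) : ∃ p, (maps F i j).z₂' p ∉ UU (maps F i j) := by
  refine ⟨⟨(), 1, trivial⟩, fun hm => ?_⟩
  obtain ⟨a, h1⟩ := (pos_fix h hm).2
  change rho n F (sy (neg j) 1) _ = _ at h1
  have hij : neg i ≠ j := fun e => h.2 (by rw [← e, neg_neg])
  have hji : neg j ≠ i := fun e => h.2 e.symm
  rw [rho_sy, be_apply, neg_neg, if_pos rfl, mul_one, one_smul] at h1
  have h2 := add_left_cancel h1
  have h3 := congrFun h2 (neg j)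
  rw [be_apply, if_pos rfl, Pi.smul_apply, be_apply, if_neg hji, smul_zero] at h3
  exact one_ne_zero h3

/-! ### Generation for `n = 2` -/

section gen

/-- the subgroup generated by the negative and positive root elements -/
def Cg (F : Type*) [Field F] : Subgroup (Sy 2 F) :=
  Subgroup.closure (genSet (maps F (Sum.inl 0 : Ix 2) (Sum.inl 1)))

omit [CharP F 2] in
theorem ij : Dj (Sum.inl 0 : Ix 2) (Sum.inl 1) := ⟨by decide, by decide⟩

theorem x_mem (a : F) : sx (Sum.inl 0 : Ix 2) (neg (Sum.inl 1)) a ∈ Cg F :=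
  Subgroup.subset_closure (Or.inl ⟨a, Or.inl rfl⟩)

theorem x'_mem (a : F) : sx (neg (Sum.inl 0 : Ix 2)) (Sum.inl 1) a ∈ Cg F :=
  Subgroup.subset_closure (Or.inl ⟨a, Or.inr rfl⟩)

theorem z₂_mem (a : F) : sy (Sum.inl 1 : Ix 2) a ∈ Cg F :=
  Subgroup.subset_closure (Or.inr ⟨⟨(), a, trivial⟩, Or.inl rfl⟩)

theorem z₂'_mem (a : F) : sy (neg (Sum.inl 1 : Ix 2)) a ∈ Cg F :=
  Subgroup.subset_closure (Or.inr ⟨⟨(), a, trivial⟩, Or.inr rfl⟩)

theorem nI_mem : sw (F := F) ⟨tr (Sum.inl 0 : Ix 2) (Sum.inl 1), tr_mem ij⟩ ∈ Cg F := by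
  rw [sw_tr ij]
  exact mul_mem (mul_mem (x_mem 1) (x'_mem 1)) (x_mem 1)

theorem z₁_mem (a : F) : sy (Sum.inl 0 : Ix 2) a ∈ Cg F := by
  have h := sws_sy (F := F) (tr_mem (ij)) (Sum.inl 1 : Ix 2) a
  have e : tr (Sum.inl 0 : Ix 2) (Sum.inl 1) (Sum.inl 1) = Sum.inl 0 := by decide
  rw [e] at h
  rw [← h]
  exact mul_mem (mul_mem nI_mem (z₂_mem a)) (inv_mem nI_mem)

theorem z₁'_mem (a : F) : sy (neg (Sum.inl 0 : Ix 2)) a ∈ Cg F := by
  have h := sws_sy (F := F) (tr_mem (ij)) (neg (Sum.inl 1 : Ix 2)) a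
  have e : tr (Sum.inl 0 : Ix 2) (Sum.inl 1) (neg (Sum.inl 1)) = neg (Sum.inl 0) := by decide
  rw [e] at h
  rw [← h]
  exact mul_mem (mul_mem nI_mem (z₂'_mem a)) (inv_mem nI_mem)

/-- kill the coordinate `-k` -/
theorem kill {k : Ix 2} (hk : ∀ a : F, sy k a ∈ Cg F) (hk' : ∀ a : F, sy (neg k) a ∈ Cg F) (v : Ix 2 → F) :
    ∃ g ∈ Cg F, rho 2 F g v (neg k) = 0 ∧ (∀ l, l ≠ k → l ≠ neg k → rho 2 F g v l = v l) := by
  by_cases h1 : v (neg k) = 0
  · exact ⟨1, one_mem _, by rw [map_one]; exact h1, fun l _ _ => by rw [map_one]; rfl⟩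
  have key : ∀ w : Ix 2 → F, w k ≠ 0 → ∃ g ∈ Cg F, rho 2 F g w (neg k) = 0 ∧
      (∀ l, l ≠ k → l ≠ neg k → rho 2 F g w l = w l) := by
    intro w hw
    refine ⟨sy (neg k) (w (neg k) / w k), hk' _, ?_, ?_⟩
    · rw [rho_sy, neg_neg, Pi.add_apply, Pi.smul_apply, be_apply, if_pos rfl, div_mul_cancel₀ _ hw, smul_eq_mul,
        mul_one, CharTwo.add_self_eq_zero]
    · intro l _ h3
      rw [rho_sy, Pi.add_apply, Pi.smul_apply, be_apply, if_neg h3, smul_zero, add_zero]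
  by_cases h2 : v k = 0
  · obtain ⟨g, hg, h3, h4⟩ := key (rho 2 F (sy k 1) v) (by
      rw [rho_sy, Pi.add_apply, Pi.smul_apply, be_apply, if_pos rfl, h2, zero_add, one_mul, smul_eq_mul, mul_one]
      exact h1)
    refine ⟨g * sy k 1, mul_mem hg (hk 1), ?_, ?_⟩
    · rw [map_mul, Equiv.Perm.mul_apply]; exact h3
    · intro l h5 h6
      rw [map_mul, Equiv.Perm.mul_apply, h4 l h5 h6, rho_sy, Pi.add_apply, Pi.smul_apply, be_apply, if_neg h5,
        smul_zero, add_zero]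
  · exact key v h2

theorem exists_move (v : Ix 2 → F) : ∃ g ∈ Cg F, ∃ a : F, rho 2 F g v = a • be 2 F (Sum.inl 0) := by
  obtain ⟨g, hg, h1, h2⟩ := kill z₁_mem z₁'_mem v
  obtain ⟨k, hk, h3, h4⟩ := kill z₂_mem z₂'_mem (rho 2 F g v)
  obtain ⟨w, hw⟩ : ∃ w, w = rho 2 F k (rho 2 F g v) := ⟨_, rfl⟩
  have w0 : w (Sum.inr 0) = 0 := by
    have h5 := h4 (Sum.inr 0) (by decide) (by decide)
    rw [hw, h5]; exact h1
  have w1 : w (Sum.inr 1) = 0 := by rw [hw]; exact h3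
  have hkg : k * g ∈ Cg F := mul_mem hk hg
  have hw' : rho 2 F (k * g) v = w := by rw [hw, map_mul]; rfl
  by_cases ha : w (Sum.inl 0) = 0
  · refine ⟨sw ⟨tr (Sum.inl 0 : Ix 2) (Sum.inl 1), tr_mem ij⟩ * (k * g), mul_mem nI_mem hkg, w (Sum.inl 1), ?_⟩
    rw [map_mul, Equiv.Perm.mul_apply, hw']
    ext l
    rw [rho_sw, Pi.smul_apply, be_apply]
    have e : ∀ l : Ix 2, (tr (Sum.inl 0 : Ix 2) (Sum.inl 1))⁻¹ l = tr (Sum.inl 0 : Ix 2) (Sum.inl 1) l := by decide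
    change w ((tr (Sum.inl 0 : Ix 2) (Sum.inl 1))⁻¹ l) = _
    rw [e]
    have e0 : tr (Sum.inl 0 : Ix 2) (Sum.inl 1) (Sum.inl 0) = Sum.inl 1 := by decide
    have e1 : tr (Sum.inl 0 : Ix 2) (Sum.inl 1) (Sum.inl 1) = Sum.inl 0 := by decide
    have e2 : tr (Sum.inl 0 : Ix 2) (Sum.inl 1) (Sum.inr 0) = Sum.inr 1 := by decide
    have e3 : tr (Sum.inl 0 : Ix 2) (Sum.inl 1) (Sum.inr 1) = Sum.inr 0 := by decide
    rcases l with l | l <;> fin_cases l
    · show w (tr (Sum.inl 0 : Ix 2) (Sum.inl 1) (Sum.inl 0)) = _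
      rw [e0]; simp
    · show w (tr (Sum.inl 0 : Ix 2) (Sum.inl 1) (Sum.inl 1)) = _
      rw [e1, ha]; simp
    · show w (tr (Sum.inl 0 : Ix 2) (Sum.inl 1) (Sum.inr 0)) = _
      rw [e2, w1]; simp
    · show w (tr (Sum.inl 0 : Ix 2) (Sum.inl 1) (Sum.inr 1)) = _
      rw [e3, w0]; simp
  · refine ⟨sx (neg (Sum.inl 0 : Ix 2)) (Sum.inl 1) (w (Sum.inl 1) / w (Sum.inl 0)) * (k * g),
      mul_mem (x'_mem _) hkg, w (Sum.inl 0), ?_⟩
    rw [map_mul, Equiv.Perm.mul_apply, hw', rho_sx (dj_neg_left.2 ij), neg_neg]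
    have n1 : neg (Sum.inl 1 : Ix 2) = Sum.inr 1 := rfl
    rw [n1, w1, mul_zero, zero_smul, add_zero, div_mul_cancel₀ _ ha]
    ext l
    rw [Pi.add_apply, Pi.smul_apply, Pi.smul_apply, be_apply, be_apply]
    rcases l with l | l <;> fin_cases l
    · simp
    · simp [CharTwo.add_self_eq_zero]
    · simpa using w0
    · simpa using w1

theorem gen_top : Cg F = ⊤ := by
  rw [eq_top_iff, ← Cfsg.Agent.S0765.result 2, Subgroup.closure_le]
  rintro A ⟨w, c, hA⟩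
  have hA' : A = transv w c := Subtype.ext hA
  show A ∈ Cg F
  obtain ⟨g, hg, a, h1⟩ := exists_move w
  have h2 : g * A * g⁻¹ = sy (Sum.inl 0) (a ^ 2 * c) := by
    rw [hA', Cfsg.Agent.ClassicalGeometry.SympSiegel.conj_transv, sy,
      ← Cfsg.Agent.ClassicalGeometry.SympSiegel.transv_smul_vec]
    congr 1
  have h3 : A = g⁻¹ * (g * A * g⁻¹) * g := by group
  rw [h3, h2]
  exact mul_mem (mul_mem (inv_mem hg) (z₁_mem _)) hg

end gen

theorem mem_UU_of {Z : Type*} [Group Z] {f : Sy 2 F →* Z} (hf : Function.Injective f) {m : B2Maps (stdSp F) (Sy 2 F)}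
    {g : Sy 2 F} (h : f.rangeRestrict g ∈ UU (m.map f.rangeRestrict)) : g ∈ UU m := by
  have h1 : UU (m.map f.rangeRestrict) = (UU m).map f.rangeRestrict := by
    rw [UU, UU, MonoidHom.map_closure]
    congr 1
    ext g
    constructor
    · rintro (⟨a, rfl | rfl⟩ | ⟨p, rfl | rfl⟩)
      · exact ⟨_, Or.inl ⟨a, Or.inl rfl⟩, rfl⟩
      · exact ⟨_, Or.inl ⟨a, Or.inr rfl⟩, rfl⟩
      · exact ⟨_, Or.inr ⟨p, Or.inl rfl⟩, rfl⟩
      · exact ⟨_, Or.inr ⟨p, Or.inr rfl⟩, rfl⟩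
    · rintro ⟨_, ⟨a, rfl | rfl⟩ | ⟨p, rfl | rfl⟩, rfl⟩
      · exact Or.inl ⟨a, Or.inl rfl⟩
      · exact Or.inl ⟨a, Or.inr rfl⟩
      · exact Or.inr ⟨p, Or.inl rfl⟩
      · exact Or.inr ⟨p, Or.inr rfl⟩
  rw [h1] at h
  obtain ⟨k, hk, e⟩ := h
  have h2 : k = g := hf (congrArg Subtype.val e)
  rwa [← h2]

/-- **The standard datum of `Sp₄(F)`.** -/
noncomputable def S2 (F : Type*) [Field F] [CharP F 2] [Finite F] : Std (stdSp F) (Sy 2 F) where
  m := maps F (Sum.inl 0) (Sum.inl 1)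
  rel := maps_rel ij
  p₀ := ⟨(), 1, trivial⟩
  hp₀ := one_ne_zero
  gen := gen_top
  ndI := ndI ij
  ndJ := ndJ ij

/-- transport to the range of an injective homomorphism -/
noncomputable def ofInj [Finite F] {Z : Type*} [Group Z] {f : Sy 2 F →* Z} (hf : Function.Injective f) :
    Std (stdSp F) ↥f.range where
  m := (S2 F).m.map f.rangeRestrict
  rel := (S2 F).rel.map f.rangeRestrict
  p₀ := (S2 F).p₀
  hp₀ := (S2 F).hp₀
  gen := by
    have h1 : genSet ((S2 F).m.map f.rangeRestrict) = f.rangeRestrict '' genSet (S2 F).m := by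
      ext g
      constructor
      · rintro (⟨a, rfl | rfl⟩ | ⟨p, rfl | rfl⟩)
        · exact ⟨_, Or.inl ⟨a, Or.inl rfl⟩, rfl⟩
        · exact ⟨_, Or.inl ⟨a, Or.inr rfl⟩, rfl⟩
        · exact ⟨_, Or.inr ⟨p, Or.inl rfl⟩, rfl⟩
        · exact ⟨_, Or.inr ⟨p, Or.inr rfl⟩, rfl⟩
      · rintro ⟨_, ⟨a, rfl | rfl⟩ | ⟨p, rfl | rfl⟩, rfl⟩
        · exact Or.inl ⟨a, Or.inl rfl⟩
        · exact Or.inl ⟨a, Or.inr rfl⟩
        · exact Or.inr ⟨p, Or.inl rfl⟩
        · exact Or.inr ⟨p, Or.inr rfl⟩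
    rw [h1, ← MonoidHom.map_closure, (S2 F).gen, ← MonoidHom.range_eq_map, MonoidHom.range_eq_top]
    exact f.rangeRestrict_surjective
  ndI := by
    obtain ⟨a, ha⟩ := (S2 F).ndI
    exact ⟨a, fun h => ha (mem_UU_of hf h)⟩
  ndJ := by
    obtain ⟨p, hp⟩ := (S2 F).ndJ
    exact ⟨p, fun h => hp (mem_UU_of hf h)⟩

end Cfsg.Agent.OddHalf.D4.SpN.FourStd
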