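import Cfsg.Agent.OddHalf.D4.Input
import Cfsg.Agent.OddHalf.SpN.OutPar

/-!
# ODD, D4, row `Sp_2n(q)`, `n ≥ 3`, `q ≥ 4` even: the facts on `K` (helper550; bb ODD #14529)

`S` is a Sylow 2-subgroup of `K`, `X = Z(S) = X_l × X_s`; `P_l`, `P_s` the largest perfect subgroups of the centralizers
of `X_l`, `X_s`; `H` the largest perfect subgroup of `C_K(X)` (it does not contain `S`); `A ≤ H` a `p`-group, `p` odd.

* `LocX K w H` : `H` is the largest perfect subgroup of `C_K(w)`;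
* `Rt K S X Xr Pr A` : the facts on one of the two root groups;
* `SpX K S X H Xl Xs Pl Ps A p` : all facts used in the K-free part (`D4/SpN/Mover.lean`);
* `A0 hn F p` : the elements `h(1, 1, t₃, …, tₙ)`, `tᵢ ^ p = 1`.

For `K = ι(Sp_2n(F))`: `S = ι(Up)`, `X = ι(Zz)`, `X_l = ι(Y1)`, `X_s = ι(X12)`, `P_l = ι(LA)`, `P_s = ι(LB)`, `H = ι(LM)`,
`A = ι(A0)`.
-/

set_option autoImplicit false

namespace Cfsg.Agent.OddHalf.D4.SpN.Kf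

open Cfsg Subgroup Cfsg.Agent.OddHalf.D4 Cfsg.Agent.OddHalf.D4.Basic
open Cfsg.Agent.OddHalf.SpN Cfsg.Agent.OddHalf.SpN.Out
open Cfsg.Agent.OddHalf.D4.CommConj (cj)

variable {G : Type*} [Group G]

/-- `H` is the largest perfect subgroup of `C_K(w)`, and contains `w`. -/
structure LocX (K : Subgroup G) (w : G) (H : Subgroup G) : Prop where
  HK : H ≤ K
  Hw : ∀ y ∈ H, y * w = w * y
  mem : w ∈ H
  perf : H ≤ ⁅H, H⁆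
  two : H ≤ closure {x | x ∈ H ∧ ∃ k : ℕ, x ^ 2 ^ k = 1}
  res : ∀ P : Subgroup G, P ≤ K → P ≤ ⁅P, P⁆ → (∀ y ∈ P, y * w = w * y) → P ≤ H
  /-- `H` is directly indecomposable -/
  ind : ∀ A B : Subgroup G, A ≤ H → B ≤ H → (∀ a ∈ A, ∀ b ∈ B, a * b = b * a) → A ⊓ B = ⊥ →
    (∀ y ∈ H, ∃ a ∈ A, ∃ b ∈ B, y = a * b) → A = ⊥ ∨ B = ⊥
  /-- the centralizers of the involutions of `H` generate `K` -/
  gen : ∀ J : Subgroup G, (∀ x ∈ H, x * x = 1 → x ≠ 1 → ∀ k ∈ K, k * x = x * k → k ∈ J) → K ≤ J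

/-- The facts on one of the two root groups `X_r` of `X = Z(S)`. -/
structure Rt (K S X Xr Pr A : Subgroup G) : Prop where
  XX : Xr ≤ X
  ne : Xr ≠ ⊥
  SP : S ≤ Pr
  loc : ∀ w ∈ Xr, w ≠ 1 → LocX K w Pr
  AP : A ≤ Pr
  /-- a torus element of `P_r` centralises only `X_r` in `X` -/
  tor : ∃ y ∈ Pr, (∀ x ∈ X, y * x * y⁻¹ ∈ X) ∧ ∀ x ∈ X, y * x = x * y → x ∈ Xr
  /-- a torus element `h` of `K` centralises `P_r` modulo a normal 2-subgroup `V`, and acts fixed point freely on `X_r` -/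
  mov : ∃ h ∈ K, ∃ V ≤ Pr, IsPGroup 2 ↥V ∧ (∀ y ∈ Pr, ∀ v ∈ V, y * v * y⁻¹ ∈ V) ∧
    (∀ y ∈ Pr, h * y * h⁻¹ * y⁻¹ ∈ V) ∧ (∀ x ∈ Xr, h * x * h⁻¹ ∈ Xr) ∧ ∀ x ∈ Xr, h * x = x * h → x = 1

/-- All facts on `K` used in the K-free part. -/
structure SpX (K S X H Xl Xs Pl Ps A : Subgroup G) (p : ℕ) : Prop where
  syl : IsSyl S K
  tight : TightAt K
  even : Even (Nat.card ↥(centralizer (K : Set G)))
  ctr : ∀ x ∈ K, x ∈ centralizer (K : Set G) → x = 1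
  /-- `K` does not commute with its conjugates -/
  std : ∀ g : G, ¬ ∀ k ∈ K, ∀ l ∈ cj g K, k * l = l * k
  simp : ∀ N : Subgroup G, N ≤ K → (∀ k ∈ K, ∀ y ∈ N, k * y * k⁻¹ ∈ N) → N = ⊥ ∨ N = K
  XS : X ≤ S
  Xc : ∀ s ∈ S, ∀ x ∈ X, s * x = x * s
  sq : ∀ x ∈ X, x * x = 1
  /-- (F1) -/
  cen : ∀ y ∈ normalizer (K : Set G), (∃ n : ℕ, y ^ 2 ^ n = 1) → (∀ s ∈ S, s * y = y * s) →
    ∃ c ∈ centralizer (K : Set G), ∃ x ∈ X, y = c * x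
  /-- `N(K) / K C(K)` is abelian -/
  out : ∀ a ∈ normalizer (K : Set G), ∀ b ∈ normalizer (K : Set G), a * b * a⁻¹ * b⁻¹ ∈ K ⊔ centralizer (K : Set G)
  /-- `N(K) / K C(K)` contains at most one involution -/
  cyc : ∀ a ∈ normalizer (K : Set G), ∀ b ∈ normalizer (K : Set G), a * a ∈ K ⊔ centralizer (K : Set G) →
    b * b ∈ K ⊔ centralizer (K : Set G) → a ∈ K ⊔ centralizer (K : Set G) ∨ b ∈ K ⊔ centralizer (K : Set G) ∨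
      a * b ∈ K ⊔ centralizer (K : Set G)
  /-- `|S : C_S(x)| ≥ 4` for `x ∈ S`, `x ∉ X` -/
  line : ∀ x ∈ S, x * x = 1 → x ∉ X → ∃ a ∈ S, ∃ b ∈ S, a * x ≠ x * a ∧ b * x ≠ x * b ∧ a⁻¹ * b * x ≠ x * (a⁻¹ * b)
  XH : X ≤ H
  HX : ∀ y ∈ H, ∀ x ∈ X, y * x = x * y
  loc : ∀ w ∈ X, w ∉ Xl → w ∉ Xs → LocX K w H
  /-- `S / (S ∩ H)` is elementary abelian -/
  ele : ∀ s ∈ S, s * s ∈ H
  Hn : ∀ s ∈ S, ∀ y ∈ H, s * y * s⁻¹ ∈ H
  l : Rt K S X Xl Pl A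
  s : Rt K S X Xs Ps A
  disj : ∀ x ∈ Xl, x ∈ Xs → x = 1
  /-- the torus of `K` is transitive on the mixed elements of `X` -/
  mix : ∀ x ∈ X, ∀ y ∈ X, x ∉ Xl → x ∉ Xs → y ∉ Xl → y ∉ Xs → ∃ k ∈ K, cj k S = S ∧ k * x * k⁻¹ = y
  prime : p.Prime
  odd : p ≠ 2
  pgrp : IsPGroup p ↥A

variable {n : ℕ}

/-- the elements `h(1, 1, t₃, …, tₙ)`, `tᵢ ^ p = 1` -/
noncomputable def A0 (hn : 3 ≤ n) (F : Type*) [Field F] (p : ℕ) : Subgroup (Sy n F) where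
  carrier := {A | ∃ lam : Fin n → Fˣ, lam (c0 hn) = 1 ∧ lam (c1 hn) = 1 ∧ (∀ i, lam i ^ p = 1) ∧ A = sh lam}
  one_mem' := ⟨1, rfl, rfl, fun i => one_pow _, (map_one _).symm⟩
  mul_mem' := by
    rintro _ _ ⟨l, h0, h1, hp, rfl⟩ ⟨m, h0', h1', hp', rfl⟩
    refine ⟨l * m, ?_, ?_, fun i => ?_, (map_mul _ _ _).symm⟩
    · rw [Pi.mul_apply, h0, h0', one_mul]
    · rw [Pi.mul_apply, h1, h1', one_mul]
    · rw [Pi.mul_apply, mul_pow, hp, hp', one_mul]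
  inv_mem' := by
    rintro _ ⟨l, h0, h1, hp, rfl⟩
    refine ⟨l⁻¹, ?_, ?_, fun i => ?_, (map_inv _ _).symm⟩
    · rw [Pi.inv_apply, h0, inv_one]
    · rw [Pi.inv_apply, h1, inv_one]
    · rw [Pi.inv_apply, inv_pow, hp, inv_one]

end Cfsg.Agent.OddHalf.D4.SpN.Kf
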