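import Cfsg.Agent.OddHalf.D4.SpN.Blk
import Cfsg.Agent.OddHalf.D4.SpN.FourStd
import Cfsg.Agent.OddHalf.D4.SpN.Kf
import Cfsg.Agent.OddHalf.D4.SpFourSetup
import Cfsg.Agent.OddHalf.D4.SpFourEnd
import Cfsg.Agent.OddHalf.SpN.Red

/-!
# ODD, D4, row `Sp_2n(q)`, `n ≥ 3`, `q ≥ 4` even: the reduction to `Sp₄(q)` (helper48; bb ODD #14529, (6))

`K = ι(Sp_2n(F))`, `Q` a Sylow 2-subgroup of `C(K)`, elementary abelian of order `> 2`; `A0` the elements `h(1,1,t₃,…,tₙ)`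
of `K` with `tᵢ ^ p = 1`; `y ∈ C(A0)` moves every `q ∈ Q`, `q ≠ 1`, to `q z`, `z ≠ 1` in a fixed root group of `Z(S)`.
In `Y = C(A0)` the subgroup `K₁ = ι(Sp₄(F))` satisfies the hypotheses of `SpFourEnd.endS`, `endL`.

* **`red`**
-/

set_option autoImplicit false
set_option linter.unusedSectionVars false

namespace Cfsg.Agent.OddHalf.D4.SpN.RedFour

open Cfsg Subgroup Cfsg.Agent.ClassicalGeometry.SympBasic Cfsg.Agent.ClassicalGeometry.SympAutSemi
  Cfsg.Agent.OddHalf.SpN Cfsg.Agent.OddHalf.SpN.Out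
open Cfsg.Agent.OddHalf.D4 Cfsg.Agent.OddHalf.D4.Basic
open Cfsg.Agent.OddHalf.D4.SpN.Blk Cfsg.Agent.OddHalf.D4.SpN.Kf

universe u

variable {n : ℕ} {F : Type*} [Field F]

/-! ### Facts on `Sp_2n(F)` -/

theorem one_pow_eq {k : Ix n} {c : Fˣ} {p : ℕ} (hc : c ^ p = 1) (i : Fin n) : one k c i ^ p = 1 := by
  have hc' : (c⁻¹) ^ p = 1 := by rw [inv_pow, hc, inv_one]
  rcases k with k | k
  · by_cases h : i = k
    · subst h
      show (Function.update (1 : Fin n → Fˣ) i c i) ^ p = 1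
      rw [Function.update_self, hc]
    · show (Function.update (1 : Fin n → Fˣ) k c i) ^ p = 1
      rw [Function.update_of_ne h, Pi.one_apply, one_pow]
  · by_cases h : i = k
    · subst h
      show (Function.update (1 : Fin n → Fˣ) i c⁻¹ i) ^ p = 1
      rw [Function.update_self, hc']
    · show (Function.update (1 : Fin n → Fˣ) k c⁻¹ i) ^ p = 1
      rw [Function.update_of_ne h, Pi.one_apply, one_pow]

/-- the indices -/
theorem dj01 (hn : 3 ≤ n) : Dj (Sum.inl (c0 hn) : Ix n) (Sum.inl (c1 hn)) := dj_ll (c01 hn)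

/-- the embedding of `Sp₄(F)` -/
noncomputable def bl (hn : 3 ≤ n) [CharP F 2] : Sy 2 F →* Sy n F := blk (dj01 hn)

variable [CharP F 2]

theorem bl_comm {hn : 3 ≤ n} {p : ℕ} {a : Sy n F} (ha : a ∈ A0 hn F p) (B : Sy 2 F) : bl hn B * a = a * bl hn B := by
  obtain ⟨lam, h0, h1, -, rfl⟩ := ha
  have hev : ∀ l : Ix 2, ev lam (em (Sum.inl (c0 hn)) (Sum.inl (c1 hn)) l) = 1 := by
    intro l
    rcases l with l | l <;> fin_cases l
    · exact h0
    · exact h1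
    · show (lam (c0 hn))⁻¹ = 1
      rw [h0, inv_one]
    · show (lam (c1 hn))⁻¹ = 1
      rw [h1, inv_one]
  apply rho_injective
  ext v k
  rw [map_mul, map_mul, Equiv.Perm.mul_apply, Equiv.Perm.mul_apply]
  rcases em_or (Sum.inl (c0 hn)) (Sum.inl (c1 hn)) k with ⟨l, rfl⟩ | ⟨h1, h2⟩
  · rw [rho_sh, hev, Units.val_one, one_mul, bl, rho_blk_em, rho_blk_em]
    have e : rs (Sum.inl (c0 hn)) (Sum.inl (c1 hn)) (rho n F (sh lam) v) = rs (Sum.inl (c0 hn)) (Sum.inl (c1 hn)) v := by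
      ext m
      rw [rs, rs, rho_sh, hev, Units.val_one, one_mul]
    rw [e]
  · rw [rho_sh, bl, rho_blk_of _ h1 h2, rho_blk_of _ h1 h2, rho_sh]

/-- an element commuting with `A0` is diagonal outside `±c₀, ±c₁` -/
theorem diag_of {hn : 3 ≤ n} {p : ℕ} {ζ : Fˣ} (hζ : ζ ≠ 1) (hζp : ζ ^ p = 1) {A : Sy n F}
    (hA : ∀ a ∈ A0 hn F p, A * a = a * A) {k : Ix n} (h1 : Dj (Sum.inl (c0 hn)) k) (h2 : Dj (Sum.inl (c1 hn)) k) :
    rho n F A (be n F k) = ent A k k • be n F k := by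
  have hm : sh (one k ζ) ∈ A0 hn F p :=
    ⟨one k ζ, ev_one_ne h1 ζ, ev_one_ne h2 ζ, one_pow_eq hζp, rfl⟩
  have hc : Commute A (sh (one k ζ)) := hA _ hm
  ext l
  rw [Pi.smul_apply, be_apply, smul_eq_mul]
  by_cases hl : l = k
  · rw [if_pos hl, mul_one, hl]; rfl
  · rw [if_neg hl, mul_zero]
    exact (ent_off hζ hc hl).1

theorem fix_of_comm {A : Sy n F} {k : Ix n} (h : Commute A (sy k 1)) : rho n F A (be n F k) = be n F k := by
  have cy := cy_of_comm h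
  ext l
  rw [be_apply]
  by_cases hl : l = k
  · rw [if_pos hl, hl]; exact cy.diag
  · rw [if_neg hl]; exact cy.col l hl

/-- an element commuting with `Sp₄(F)` and `A0` has odd order -/
theorem pow_eq_one [Finite F] {hn : 3 ≤ n} {p : ℕ} {ζ : Fˣ} (hζ : ζ ≠ 1) (hζp : ζ ^ p = 1) {A : Sy n F}
    (hA : ∀ a ∈ A0 hn F p, A * a = a * A) (hB : ∀ B : Sy 2 F, A * bl hn B = bl hn B * A) :
    A ^ (Nat.card F - 1) = 1 := by
  have := Fintype.ofFinite F
  have h1 : ∀ k, rho n F A (be n F k) = ent A k k • be n F k := by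
    intro k
    rcases em_or (Sum.inl (c0 hn)) (Sum.inl (c1 hn)) k with ⟨l, rfl⟩ | ⟨h1, h2⟩
    · have h3 : Commute A (sy (em (Sum.inl (c0 hn)) (Sum.inl (c1 hn)) l) 1) := by
        rw [← blk_sy (dj01 hn)]; exact hB _
      have h4 := fix_of_comm h3
      rw [h4, ent, h4, be_apply, if_pos rfl, one_smul]
    · exact diag_of hζ hζp hA h1 h2
  have h2 : ∀ k, ent A k k ≠ 0 := by
    intro k h
    have h3 := h1 k
    rw [h, zero_smul] at h3
    have h4 : rho n F A (be n F k) = rho n F A 0 := by rw [h3, rho_zero]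
    exact be_ne k ((rho n F A).injective h4)
  have h3 : ∀ (m : ℕ) k, rho n F (A ^ m) (be n F k) = (ent A k k) ^ m • be n F k := by
    intro m k
    induction m with
    | zero => rw [pow_zero, map_one, pow_zero, one_smul]; rfl
    | succ m ih => rw [pow_succ, map_mul, Equiv.Perm.mul_apply, h1, rho_smul, ih, smul_smul, pow_succ']
  apply rho_injective
  ext1 v
  rw [map_one, Equiv.Perm.one_apply, eq_sum_be v, rho_sum]
  refine Finset.sum_congr rfl fun k _ => ?_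
  rw [rho_smul, h3, Nat.card_eq_fintype_card, FiniteField.pow_card_sub_one_eq_one _ (h2 k), one_smul]

/-- the commutators of `C(A0)` lie in `Sp₄(F)` -/
theorem comm_mem {hn : 3 ≤ n} {p : ℕ} {ζ : Fˣ} (hζ : ζ ≠ 1) (hζp : ζ ^ p = 1) {A B : Sy n F}
    (hA : ∀ a ∈ A0 hn F p, A * a = a * A) (hB : ∀ a ∈ A0 hn F p, B * a = a * B) :
    A * B * A⁻¹ * B⁻¹ ∈ (bl (F := F) hn).range := by
  apply exists_blk (dj01 hn)
  intro k h1 h2
  have hA' := diag_of hζ hζp hA h1 h2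
  have hB' := diag_of hζ hζp hB h1 h2
  have e1 : rho n F (A * B) (be n F k) = rho n F (B * A) (be n F k) := by
    rw [map_mul, map_mul, Equiv.Perm.mul_apply, Equiv.Perm.mul_apply, hB', rho_smul, hA', rho_smul, hB', smul_smul,
      smul_smul, mul_comm]
  have hne : ent A k k * ent B k k ≠ 0 := by
    intro h
    have h3 : rho n F (A * B) (be n F k) = 0 := by
      rw [map_mul, Equiv.Perm.mul_apply, hB', rho_smul, hA', smul_smul, mul_comm, h, zero_smul]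
    have h4 : rho n F (A * B) (be n F k) = rho n F (A * B) 0 := by rw [h3, rho_zero]
    exact be_ne k ((rho n F (A * B)).injective h4)
  have e2 : rho n F (B * A) (be n F k) = (ent A k k * ent B k k) • be n F k := by
    rw [map_mul, Equiv.Perm.mul_apply, hA', rho_smul, hB', smul_smul]
  have e3 : rho n F (A * B * A⁻¹ * B⁻¹) (rho n F (B * A) (be n F k)) = rho n F (B * A) (be n F k) := by
    rw [← Equiv.Perm.mul_apply, ← map_mul]
    have e : A * B * A⁻¹ * B⁻¹ * (B * A) = A * B := by group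
    rw [e, e1]
  rw [e2, rho_smul] at e3
  exact smul_right_injective _ hne e3

/-! ### Facts on `Sp₄(F)` -/

theorem simple_two [Finite F] (hF : 3 ≤ Nat.card F) : IsSimpleGroup (Sy 2 F) := by
  have := Fintype.ofFinite F
  have h1 : IsSimpleGroup (PSp 2 F) := Cfsg.Agent.S0270.result 2 le_rfl fun _ => by
    rw [← Nat.card_eq_fintype_card]; exact hF
  have hZ : center (Sy 2 F) = ⊥ := center_Sy (by norm_num)
  let e : PSp 2 F ≃* Sy 2 F := (QuotientGroup.quotientMulEquivOfEq hZ).trans QuotientGroup.quotientBot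
  have := e.toEquiv.symm.nontrivial
  exact IsSimpleGroup.isSimpleGroup_of_surjective e.toMonoidHom e.surjective

theorem sch_two [Finite F] (hF : 3 ≤ Nat.card F) : Cfsg.Agent.Schreier.Basic.Sch (Sy 2 F) := by
  have hZ : center (Sy 2 F) = ⊥ := center_Sy (by norm_num)
  let e : PSp 2 F ≃* Sy 2 F := (QuotientGroup.quotientMulEquivOfEq hZ).trans QuotientGroup.quotientBot
  exact Cfsg.Agent.Schreier.Basic.Sch.of_equiv e (Cfsg.Agent.Schreier.ClassPSp.sch le_rfl fun _ => hF)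

theorem nc_two [Finite F] : ¬ ∀ a b : Sy 2 F, a * b = b * a := by
  intro h
  obtain ⟨a, ha⟩ := (FourStd.S2 F).ndI
  apply ha
  have h1 := (FourStd.S2 F).rel.nI_x (-a)
  rw [h, inv_mul_cancel_left, _root_.neg_neg] at h1
  rw [← h1]
  exact Cfsg.Agent.StdRank2.B2Std.x_mem _

theorem perf_two [Finite F] (hF : 3 ≤ Nat.card F) : ⁅(⊤ : Subgroup (Sy 2 F)), (⊤ : Subgroup (Sy 2 F))⁆ = ⊤ := by
  have hs := simple_two (F := F) hF
  have hn : (⁅(⊤ : Subgroup (Sy 2 F)), (⊤ : Subgroup (Sy 2 F))⁆).Normal := inferInstance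
  rcases hn.eq_bot_or_eq_top with h | h
  · exfalso
    apply nc_two (F := F)
    intro a b
    rw [commutator_eq_bot_iff_le_centralizer] at h
    exact mem_centralizer_iff.1 (h (mem_top b)) a (mem_top a)
  · exact h

/-! ### Automorphisms of `K` induced by `N(K)` -/

variable {G : Type u} [Group G] {ι : Sy n F →* G}

/-- conjugation by `x ∈ N(K)` -/
theorem exists_aut (hi : Function.Injective ι) {x : G} (hx : x ∈ normalizer (ι.range : Set G)) :
    ∃ α : MulAut (Sy n F), ∀ A, ι (α A) = x * ι A * x⁻¹ := by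
  let e : Sy n F ≃* ↥ι.range := MonoidHom.ofInjective hi
  let φ : MulAut ↥ι.range := ι.range.normalizerMonoidHom ⟨x, hx⟩
  refine ⟨(e.trans φ).trans e.symm, fun A => ?_⟩
  have h1 : ((e (e.symm (φ (e A))) : ↥ι.range) : G) = x * ι A * x⁻¹ := by
    rw [e.apply_symm_apply]; rfl
  exact h1

/-- elements of `N(K)` commuting with a long root group are in `K C(K)` -/
theorem exists_inner [Finite F] (hn : 3 ≤ n) (hi : Function.Injective ι) {x : G}
    (hx : x ∈ normalizer (ι.range : Set G)) {k : Ix n} (hc : ∀ b, x * ι (sy k b) = ι (sy k b) * x) :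
    ∃ A : Sy n F, (ι A)⁻¹ * x ∈ centralizer (ι.range : Set G) := by
  obtain ⟨α, hα⟩ := exists_aut hi hx
  obtain ⟨s, hs⟩ := exists_semi_Sy hn α
  obtain ⟨φ, l, hl, hφ⟩ := s.2
  have h1 : φ = RingEquiv.refl F := phi_eq_refl hφ (isRoot_y k) fun b => by
    apply hi
    rw [← hs, hα, hc, mul_inv_cancel_right]
  subst h1
  obtain ⟨A, hA⟩ := inner_of_sim hl hφ
  refine ⟨A, ?_⟩
  rw [mem_centralizer_iff]
  rintro _ ⟨B, rfl⟩
  have h2 := hα B
  rw [hs, hA, map_mul, map_mul, map_inv] at h2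
  calc ι B * ((ι A)⁻¹ * x) = (ι A)⁻¹ * (ι A * ι B * (ι A)⁻¹) * x := by group
    _ = (ι A)⁻¹ * (x * ι B * x⁻¹) * x := by rw [h2]
    _ = _ := by group

/-- 2-elements of `N(K)` commuting with `Sp₄(F)` and `A0` are in `C(K)` -/
theorem mem_cent [Finite F] {hn : 3 ≤ n} (hi : Function.Injective ι)
    (ctr : ∀ x ∈ ι.range, x ∈ centralizer (ι.range : Set G) → x = 1) {p : ℕ} {ζ : Fˣ} (hζ : ζ ≠ 1) (hζp : ζ ^ p = 1)
    {x : G} (hx : x ∈ normalizer (ι.range : Set G)) (h2 : ∃ m : ℕ, x ^ 2 ^ m = 1)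
    (hA : ∀ a ∈ A0 hn F p, x * ι a = ι a * x) (hB : ∀ B : Sy 2 F, x * ι (bl hn B) = ι (bl hn B) * x) :
    x ∈ centralizer (ι.range : Set G) := by
  obtain ⟨A, hc⟩ := exists_inner hn hi hx (k := Sum.inl (c0 hn)) fun b => by
    have h := hB (sy (Sum.inl 0) b)
    rwa [bl, blk_sy] at h
  have hcc : ∀ B : Sy n F, ι B * ((ι A)⁻¹ * x) = ((ι A)⁻¹ * x) * ι B := fun B => mem_centralizer_iff.1 hc _ ⟨B, rfl⟩
  have tr : ∀ B : Sy n F, x * ι B = ι B * x → A * B = B * A := by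
    intro B hB
    apply hi
    rw [map_mul, map_mul]
    have h3 := hcc B
    calc ι A * ι B = ι A * (ι B * ((ι A)⁻¹ * x)) * x⁻¹ * ι A := by group
      _ = ι A * (((ι A)⁻¹ * x) * ι B) * x⁻¹ * ι A := by rw [h3]
      _ = (x * ι B) * x⁻¹ * ι A := by group
      _ = ι B * ι A := by rw [hB]; group
  have hq := pow_eq_one hζ hζp (A := A) (fun a ha => tr a (hA a ha)) (fun B => tr _ (hB B))
  obtain ⟨m, hm⟩ := h2
  have hcomm : Commute (ι A) ((ι A)⁻¹ * x) := hcc A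
  have h3 : x = ι A * ((ι A)⁻¹ * x) := by group
  have h4 : (ι A) ^ 2 ^ m * ((ι A)⁻¹ * x) ^ 2 ^ m = 1 := by rw [← hcomm.mul_pow, ← h3, hm]
  have h5 : (ι A) ^ 2 ^ m = 1 := by
    apply ctr
    · exact ι.range.pow_mem (MonoidHom.mem_range.2 ⟨A, rfl⟩) _
    · have : (ι A) ^ 2 ^ m = (((ι A)⁻¹ * x) ^ 2 ^ m)⁻¹ := eq_inv_of_mul_eq_one_left h4
      rw [this]
      exact inv_mem (pow_mem hc _)
  have h6 : A ^ 2 ^ m = 1 := hi (by rw [map_pow, h5, map_one])
  have h7 : orderOf A ∣ 2 ^ m := orderOf_dvd_of_pow_eq_one h6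
  have h8 : orderOf A ∣ Nat.card F - 1 := orderOf_dvd_of_pow_eq_one hq
  have hcop : Nat.Coprime (2 ^ m) (Nat.card F - 1) := by
    have := Fintype.ofFinite F
    rw [Nat.card_eq_fintype_card]
    have heven : 2 ∣ Fintype.card F := by
      obtain ⟨k, hp, hc⟩ := FiniteField.card F 2
      rw [hc]; exact dvd_pow_self 2 k.pos.ne'
    have hpos : 0 < Fintype.card F := Fintype.card_pos
    have hodd : Odd (Fintype.card F - 1) := by
      obtain ⟨m, hm⟩ := heven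
      exact ⟨m - 1, by omega⟩
    exact Nat.Coprime.pow_left _ (Nat.coprime_two_left.mpr hodd)
  have h9 : orderOf A = 1 := Nat.eq_one_of_dvd_coprimes hcop h7 h8
  rw [orderOf_eq_one_iff] at h9
  rw [h9, map_one, inv_one, one_mul] at hc
  exact hc

/-! ### `N(K) ∩ C(A0)` normalises `K₁` -/

theorem conj_mem [Finite F] (hF : 3 ≤ Nat.card F) {hn : 3 ≤ n} (hi : Function.Injective ι) {p : ℕ} {ζ : Fˣ}
    (hζ : ζ ≠ 1) (hζp : ζ ^ p = 1) {x : G} (hx : x ∈ normalizer (ι.range : Set G))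
    (hA : ∀ a ∈ A0 hn F p, x * ι a = ι a * x) (B : Sy 2 F) : ∃ B' : Sy 2 F, x * ι (bl hn B) * x⁻¹ = ι (bl hn B') := by
  obtain ⟨α, hα⟩ := exists_aut hi hx
  let C : Subgroup (Sy n F) := centralizer (A0 hn F p : Set (Sy n F))
  let R : Subgroup (Sy n F) := (bl (F := F) hn).range
  have hRC : R.map α.toMonoidHom ≤ C := by
    rintro _ ⟨_, ⟨B, rfl⟩, rfl⟩
    rw [mem_centralizer_iff]
    intro a ha
    apply hi
    rw [map_mul, map_mul]
    show ι a * ι (α (bl hn B)) = ι (α (bl hn B)) * ι a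
    rw [hα]
    have h1 := hA a ha
    have h2 : ι (bl hn B) * ι a = ι a * ι (bl hn B) := by rw [← map_mul, ← map_mul, bl_comm ha]
    have h3 : x⁻¹ * ι a = ι a * x⁻¹ := by
      calc x⁻¹ * ι a = x⁻¹ * (ι a * x) * x⁻¹ := by group
        _ = x⁻¹ * (x * ι a) * x⁻¹ := by rw [h1]
        _ = _ := by group
    calc ι a * (x * ι (bl hn B) * x⁻¹) = (ι a * x) * ι (bl hn B) * x⁻¹ := by group
      _ = x * (ι a * ι (bl hn B)) * x⁻¹ := by rw [← h1]; group
      _ = x * ι (bl hn B) * (ι a * x⁻¹) := by rw [← h2]; group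
      _ = _ := by rw [← h3]; group
  have hRR : ⁅R, R⁆ = R := by
    show ⁅(bl (F := F) hn).range, (bl (F := F) hn).range⁆ = (bl (F := F) hn).range
    rw [MonoidHom.range_eq_map, ← map_commutator, perf_two hF]
  have hCC : ⁅C, C⁆ ≤ R := by
    rw [commutator_le]
    intro a ha b hb
    rw [mem_centralizer_iff] at ha hb
    exact comm_mem hζ hζp (fun z hz => (ha z hz).symm) (fun z hz => (hb z hz).symm)
  have h1 : R.map α.toMonoidHom ≤ R := by
    calc R.map α.toMonoidHom = ⁅R.map α.toMonoidHom, R.map α.toMonoidHom⁆ := by rw [← map_commutator, hRR]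
      _ ≤ ⁅C, C⁆ := commutator_mono hRC hRC
      _ ≤ R := hCC
  obtain ⟨B', hB'⟩ := h1 ⟨bl hn B, ⟨B, rfl⟩, rfl⟩
  refine ⟨B', ?_⟩
  rw [hB']
  exact (hα _).symm

/-! ### The subgroup `K₁` of `Y = C(A0)` -/

section Y

/-- `C(A0)` -/
def Y (ι : Sy n F →* G) (hn : 3 ≤ n) (p : ℕ) : Subgroup G := centralizer ((A0 hn F p).map ι : Set G)

theorem mem_Y {hn : 3 ≤ n} {p : ℕ} {x : G} : x ∈ Y ι hn p ↔ ∀ a ∈ A0 hn F p, x * ι a = ι a * x := by
  rw [Y, mem_centralizer_iff]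
  constructor
  · intro h a ha
    exact (h _ ⟨a, ha, rfl⟩).symm
  · rintro h _ ⟨a, ha, rfl⟩
    exact (h a ha).symm

theorem bl_mem_Y {hn : 3 ≤ n} {p : ℕ} (B : Sy 2 F) : ι (bl hn B) ∈ Y ι hn p :=
  mem_Y.2 fun a ha => by rw [← map_mul, ← map_mul, bl_comm ha]

/-- `Sp₄(F) → C(A0)` -/
noncomputable def fY (ι : Sy n F →* G) (hn : 3 ≤ n) (p : ℕ) : Sy 2 F →* ↥(Y ι hn p) :=
  (ι.comp (bl hn)).codRestrict (Y ι hn p) fun B => bl_mem_Y B

theorem fY_coe {hn : 3 ≤ n} {p : ℕ} (B : Sy 2 F) : ((fY ι hn p B : ↥(Y ι hn p)) : G) = ι (bl hn B) := rfl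

theorem fY_inj (hi : Function.Injective ι) {hn : 3 ≤ n} {p : ℕ} : Function.Injective (fY ι hn p) := by
  intro a b h
  have h1 := congrArg (fun z : ↥(Y ι hn p) => (z : G)) h
  exact blk_injective (dj01 hn) (hi h1)

theorem cen_Y {Q : Subgroup G} (hQ : Q ≤ centralizer (ι.range : Set G)) {hn : 3 ≤ n} {p : ℕ} : Q ≤ Y ι hn p := by
  intro q hq
  rw [mem_Y]
  intro a _
  exact (mem_centralizer_iff.1 (hQ hq) _ ⟨a, rfl⟩).symm

end Y

/-- The hypotheses. -/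
structure Hy (ι : Sy n F →* G) (Q : Subgroup G) (hn : 3 ≤ n) (p : ℕ) (ζ : Fˣ) : Prop where
  inj : Function.Injective ι
  tight : TightAt ι.range
  ctr : ∀ x ∈ ι.range, x ∈ centralizer (ι.range : Set G) → x = 1
  syl : IsSyl Q (centralizer (ι.range : Set G))
  sq : ∀ q ∈ Q, q * q = 1
  four : ∃ a ∈ Q, ∃ b ∈ Q, a ≠ 1 ∧ b ≠ 1 ∧ a ≠ b
  ne : ζ ≠ 1
  pow : ζ ^ p = 1

theorem comm_of_sq {Q : Subgroup G} (h : ∀ q ∈ Q, q * q = 1) {a b : G} (ha : a ∈ Q) (hb : b ∈ Q) : a * b = b * a := by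
  have h1 : a⁻¹ = a := inv_eq_of_mul_eq_one_left (h a ha)
  have h2 : b⁻¹ = b := inv_eq_of_mul_eq_one_left (h b hb)
  have h3 : (a * b)⁻¹ = a * b := inv_eq_of_mul_eq_one_left (h _ (Q.mul_mem ha hb))
  rw [mul_inv_rev, h1, h2] at h3
  exact h3.symm

namespace Hy

variable [Finite G] [Finite F] {Q : Subgroup G} {hn : 3 ≤ n} {p : ℕ} {ζ : Fˣ} (h : Hy ι Q hn p ζ)
include h

theorem QY : Q ≤ Y ι hn p := cen_Y h.syl.le

/-- `Q` is a Sylow 2-subgroup of `C_Y(K₁)` -/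
theorem sylY : IsSyl (Q.subgroupOf (Y ι hn p)) (centralizer ((fY ι hn p).range : Set ↥(Y ι hn p))) := by
  refine ⟨h.syl.two.comap_subtype, ?_, ?_⟩
  · intro q hq
    rw [mem_subgroupOf] at hq
    rw [mem_centralizer_iff]
    rintro _ ⟨B, rfl⟩
    apply Subtype.ext
    exact mem_centralizer_iff.1 (h.syl.le hq) _ ⟨bl hn B, rfl⟩
  · intro P hP hQP hPC
    -- elements of `P` in `N(K)` are in `Q`
    have key : ∀ x ∈ P, (x : G) ∈ normalizer (ι.range : Set G) → x ∈ Q.subgroupOf (Y ι hn p) := by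
      intro x hx hxN
      have h2 : ∃ m : ℕ, (x : G) ^ 2 ^ m = 1 := by
        obtain ⟨m, hm⟩ := hP ⟨x, hx⟩
        exact ⟨m, congrArg (fun z : ↥P => ((z : ↥(Y ι hn p)) : G)) hm⟩
      have hxC : (x : G) ∈ centralizer (ι.range : Set G) := by
        refine mem_cent h.inj h.ctr h.ne h.pow hxN h2 (mem_Y.1 x.2) fun B => ?_
        have h3 := mem_centralizer_iff.1 (hPC hx) _ ⟨B, rfl⟩
        exact (congrArg Subtype.val h3).symm
      have hmax : P.map (Y ι hn p).subtype ⊓ centralizer (ι.range : Set G) ≤ Q := by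
        apply h.syl.max
        · exact (hP.map _).to_le inf_le_left
        · intro q hq
          exact ⟨⟨⟨q, h.QY hq⟩, hQP (mem_subgroupOf.2 hq), rfl⟩, h.syl.le hq⟩
        · exact inf_le_right
      exact mem_subgroupOf.2 (hmax ⟨⟨x, hx, rfl⟩, hxC⟩)
    by_contra hne
    have hlt : (Q.subgroupOf (Y ι hn p)).subgroupOf P < ⊤ := by
      rw [lt_top_iff_ne_top]
      intro h
      exact hne (subgroupOf_eq_top.1 h)
    have : Fact (Nat.Prime 2) := ⟨Nat.prime_two⟩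
    have hnilp : Group.IsNilpotent ↥P := hP.isNilpotent
    have h1 := Group.normalizerCondition_of_isNilpotent _ hlt
    obtain ⟨x, hx, hxT⟩ := Set.exists_of_ssubset h1
    apply hxT
    rw [SetLike.mem_coe, mem_subgroupOf]
    apply key _ x.2
    obtain ⟨t, ht, -, -, ht1, -, -⟩ := h.four
    have ht2 : orderOf t = 2 := orderOf_eq_prime (by rw [pow_two, h.sq t ht]) ht1
    have htY : (⟨t, h.QY ht⟩ : ↥(Y ι hn p)) ∈ Q.subgroupOf (Y ι hn p) := mem_subgroupOf.2 ht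
    have h4 := (mem_normalizer_iff.1 hx ⟨⟨t, h.QY ht⟩, hQP htY⟩).1 (mem_subgroupOf.2 htY)
    have h5 : ((x : ↥(Y ι hn p)) : G) * t * ((x : ↥(Y ι hn p)) : G)⁻¹ ∈ Q := h4
    exact h.tight.tight _ t (h.syl.le ht) ht2 (h.syl.le h5)

/-- `N_G(K) ∩ Y ≤ N_Y(K₁)` -/
theorem norm_mem (hF : 3 ≤ Nat.card F) {g : ↥(Y ι hn p)} (hg : (g : G) ∈ normalizer (ι.range : Set G)) :
    g ∈ normalizer ((fY ι hn p).range : Set ↥(Y ι hn p)) := by
  have key : ∀ g : ↥(Y ι hn p), (g : G) ∈ normalizer (ι.range : Set G) → ∀ x ∈ (fY ι hn p).range,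
      g * x * g⁻¹ ∈ (fY ι hn p).range := by
    rintro g hg _ ⟨B, rfl⟩
    obtain ⟨B', e⟩ := conj_mem hF h.inj h.ne h.pow hg (mem_Y.1 g.2) B
    exact ⟨B', Subtype.ext e.symm⟩
  rw [mem_normalizer_iff]
  intro x
  constructor
  · exact key g hg x
  · intro hx
    have h1 := key g⁻¹ (by
      have : ((g⁻¹ : ↥(Y ι hn p)) : G) = (g : G)⁻¹ := rfl
      rw [this]; exact inv_mem hg) _ hx
    have e : g⁻¹ * (g * x * g⁻¹) * g⁻¹⁻¹ = x := by group
    rwa [e] at h1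

theorem tightY (hF : 3 ≤ Nat.card F) : TightAt (fY ι hn p).range where
  le := centralizer_le_normalizer _
  norm := fun m hm c hc => centralizer_conj_mem hm hc
  tight := by
    intro g x hx hx2 hgx
    have hp2 : ∀ z : ↥(Y ι hn p), orderOf z = 2 → IsPGroup 2 ↥(zpowers z) := fun z hz => by
      rw [IsPGroup.iff_card]; exact ⟨1, by rw [Nat.card_zpowers, hz]; norm_num⟩
    obtain ⟨m, hm, hmx⟩ := h.sylY.conj_into (hp2 x hx2) (by rw [zpowers_le]; exact hx)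
    obtain ⟨m', hm', hmx'⟩ := h.sylY.conj_into (hp2 (g * x * g⁻¹) (by rw [orderOf_conj, hx2]))
      (by rw [zpowers_le]; exact hgx)
    have h1 := mem_subgroupOf.1 (hmx x (mem_zpowers x))
    have h2 := mem_subgroupOf.1 (hmx' _ (mem_zpowers (g * x * g⁻¹)))
    have h3 : ((m' * g * m⁻¹ : ↥(Y ι hn p)) : G) ∈ normalizer (ι.range : Set G) := by
      apply h.tight.tight _ _ (h.syl.le h1)
      · have h4 : orderOf (m * x * m⁻¹) = 2 := by rw [orderOf_conj, hx2]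
        rw [← orderOf_coe] at h4
        exact h4
      · have e : ((m' * g * m⁻¹ : ↥(Y ι hn p)) : G) * ((m * x * m⁻¹ : ↥(Y ι hn p)) : G) *
            ((m' * g * m⁻¹ : ↥(Y ι hn p)) : G)⁻¹ = ((m' * (g * x * g⁻¹) * m'⁻¹ : ↥(Y ι hn p)) : G) := by
          have e' : (m' * g * m⁻¹) * (m * x * m⁻¹) * (m' * g * m⁻¹)⁻¹ = m' * (g * x * g⁻¹) * m'⁻¹ := by group
          rw [← e']; rfl
        rw [e]
        exact h.syl.le h2
    have h4 := h.norm_mem hF h3
    have h5 : g = m'⁻¹ * (m' * g * m⁻¹) * m := by group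
    rw [h5]
    exact mul_mem (mul_mem (inv_mem (centralizer_le_normalizer _ hm')) h4) (centralizer_le_normalizer _ hm)

theorem cen_eq_one {x : ↥(Y ι hn p)} (hx : x ∈ (fY ι hn p).range)
    (hc : x ∈ centralizer ((fY ι hn p).range : Set ↥(Y ι hn p))) : x = 1 := by
  obtain ⟨B, rfl⟩ := hx
  have h1 : B ∈ center (Sy 2 F) := by
    rw [mem_center_iff]
    intro C
    apply fY_inj h.inj (hn := hn) (p := p)
    rw [map_mul, map_mul]
    exact mem_centralizer_iff.1 hc _ ⟨C, rfl⟩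
  rw [center_Sy (by norm_num), mem_bot] at h1
  rw [h1, map_one]

theorem center_A : center ↥(fY ι hn p).range = ⊥ := by
  rw [eq_bot_iff_forall]
  rintro ⟨x, hx⟩ hc
  apply Subtype.ext
  apply h.cen_eq_one hx
  rw [mem_centralizer_iff]
  intro y hy
  exact congrArg Subtype.val (mem_center_iff.1 hc ⟨y, hy⟩)

/-- the coordinates of `K₁` -/
noncomputable def base {t : ↥(Y ι hn p)} (htt : t * t = 1)
    (htA : t ∈ centralizer ((fY ι hn p).range : Set ↥(Y ι hn p))) (htn : t ∉ (fY ι hn p).range) :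
    StdSpFour.Base F ↥(Y ι hn p) :=
  Cfsg.Agent.StdRank2.SpFrame.base (FourStd.ofInj (fY_inj h.inj)) h.center_A htt htA htn

section coord

variable {t : ↥(Y ι hn p)} (htt : t * t = 1)
    (htA : t ∈ centralizer ((fY ι hn p).range : Set ↥(Y ι hn p))) (htn : t ∉ (fY ι hn p).range)

theorem base_zs (a : F) : (h.base htt htA htn).zs a = fY ι hn p (sx (Sum.inl 0) (Sum.inl 1) a) := rfl

theorem base_zl (a : F) : (h.base htt htA htn).zl a = fY ι hn p (sy (Sum.inl 0) a) := rfl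

theorem kCent (hF : 4 ≤ Nat.card F) : SpFourCent.KCent (h.base htt htA htn) (fY ι hn p).range :=
  SpFourK.kCent _ _ _ _ _ hF

theorem kAut (hF : 4 ≤ Nat.card F) : SpFourDefs.KAut (h.base htt htA htn) (fY ι hn p).range :=
  SpFourK.kAut _ _ _ _ _ hF

end coord

/-- an involution of `Q` gives the coordinates -/
theorem exists_t {t : G} (ht : t ∈ Q) (ht1 : t ≠ 1) : ∃ t' : ↥(Y ι hn p), (t' : G) = t ∧ t' * t' = 1 ∧
    t' ∈ centralizer ((fY ι hn p).range : Set ↥(Y ι hn p)) ∧ t' ∉ (fY ι hn p).range := by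
  have h1 : (⟨t, h.QY ht⟩ : ↥(Y ι hn p)) ∈ centralizer ((fY ι hn p).range : Set ↥(Y ι hn p)) :=
    h.sylY.le (mem_subgroupOf.2 ht)
  refine ⟨⟨t, h.QY ht⟩, rfl, Subtype.ext (h.sq t ht), h1, fun h2 => ht1 ?_⟩
  exact congrArg Subtype.val (h.cen_eq_one h2 h1)

theorem env (hF : 4 ≤ Nat.card F) : SpFourFr.Env (fY ι hn p).range where
  tight := h.tightY (by omega)
  cen := fun x hx hc => h.cen_eq_one hx hc
  simple := by
    intro N hN hn'
    have hs := simple_two (F := F) (by omega)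
    have h1 : (N.comap (fY ι hn p)).Normal := ⟨fun B hB C => by
      rw [mem_comap] at hB ⊢
      rw [map_mul, map_mul, map_inv]
      exact hn' _ ⟨C, rfl⟩ _ hB⟩
    rcases h1.eq_bot_or_eq_top with h2 | h2
    · left
      rw [eq_bot_iff_forall]
      intro x hx
      obtain ⟨B, rfl⟩ := hN hx
      have h3 : B ∈ N.comap (fY ι hn p) := hx
      rw [h2, mem_bot] at h3
      rw [h3, map_one]
    · right
      apply le_antisymm hN
      rintro _ ⟨B, rfl⟩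
      have h3 : B ∈ N.comap (fY ι hn p) := by rw [h2]; exact mem_top _
      exact h3
  ne := by
    intro h1
    have hs := simple_two (F := F) (by omega)
    obtain ⟨B, hB⟩ := exists_ne (1 : Sy 2 F)
    apply hB
    apply fY_inj h.inj (hn := hn) (p := p)
    have h2 : fY ι hn p B ∈ (fY ι hn p).range := ⟨B, rfl⟩
    rw [h1, mem_bot] at h2
    rw [h2, map_one]
  nocomm := by
    intro g _ hcon
    obtain ⟨t, ht, -, -, ht1, -, -⟩ := h.four
    obtain ⟨t', -, htt, htA, htn⟩ := h.exists_t ht ht1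
    obtain ⟨B, hB⟩ : ∃ B, B = h.base htt htA htn := ⟨_, rfl⟩
    have hK := h.kCent htt htA htn hF
    rw [← hB] at hK
    obtain ⟨m, hm, hmq⟩ := h.sylY.conj_into (Q := CommConj.cj g (SpFourU.UU B)) (SpFourU.isPGroup_UU.map _) (by
      intro x hx
      rw [CommConj.mem_cj] at hx
      have hx' : g⁻¹ * x * g ∈ (fY ι hn p).range := SpFourTOne.isU_memK hK.toKBase hx
      rw [mem_centralizer_iff]
      intro a ha
      have h3 := hcon a ha _ hx'
      have e : g * (g⁻¹ * x * g) * g⁻¹ = x := by group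
      rwa [e] at h3)
    have key : ∀ u v, u ∈ SpFourU.UU B → v ∈ SpFourU.UU B → u * v = v * u := by
      intro u v hu hv
      have h1 := mem_subgroupOf.1 (hmq _ (CommConj.mem_cj_mul (g := g) hu))
      have h2 := mem_subgroupOf.1 (hmq _ (CommConj.mem_cj_mul (g := g) hv))
      have h3 : m * (g * u * g⁻¹) * m⁻¹ * (m * (g * v * g⁻¹) * m⁻¹) =
          m * (g * v * g⁻¹) * m⁻¹ * (m * (g * u * g⁻¹) * m⁻¹) := Subtype.ext (comm_of_sq h.sq h1 h2)
      calc u * v = (m * g)⁻¹ * (m * (g * u * g⁻¹) * m⁻¹ * (m * (g * v * g⁻¹) * m⁻¹)) * (m * g) := by group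
        _ = _ := by rw [h3]; group
    have h1 := key _ _ (SpFourU.isU_xa (B := B) 1) (SpFourU.isU_xb (B := B) 1)
    have h2 := B.xa_xb 1 1
    rw [h1] at h2
    have h3 : B.zs (1 * 1) * B.zl (1 ^ 2 * 1) = 1 := by
      have h4 : B.xb 1 * B.xa 1 * 1 = B.xb 1 * B.xa 1 * (B.zs (1 * 1) * B.zl (1 ^ 2 * 1)) := by
        rw [mul_one]; rw [← mul_assoc]; exact h2
      exact (mul_left_cancel h4).symm
    have h4 : B.xa 0 = 1 := by
      have := B.xa_add 0 0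
      rw [add_zero] at this
      exact left_eq_mul.1 this
    have h5 : B.xb 0 = 1 := by
      have := B.xb_add 0 0
      rw [add_zero] at this
      exact left_eq_mul.1 this
    obtain ⟨-, -, h6, -⟩ := B.inj 0 0 (1 * 1) (1 ^ 2 * 1) (by rw [h4, h5, one_mul, one_mul, h3])
    rw [one_mul] at h6
    exact one_ne_zero h6
  sch := by
    intro P hP hPP
    have hsch : Cfsg.Agent.Schreier.Basic.Sch ↥(fY ι hn p).range :=
      Cfsg.Agent.Schreier.Basic.Sch.of_equiv (MonoidHom.ofInjective (fY_inj h.inj)) (sch_two (by omega))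
    obtain ⟨K, hK⟩ : ∃ K, K = (fY ι hn p).range := ⟨_, rfl⟩
    rw [← hK] at hsch hP ⊢
    let f : ↥P →* MulAut ↥K := K.normalizerMonoidHom.comp (inclusion hP)
    have h1 : ⁅f.range, f.range⁆ = f.range := by
      rw [MonoidHom.range_eq_map, ← Subgroup.map_commutator]
      congr 1
      apply Subgroup.map_injective P.subtype_injective
      rw [Subgroup.map_commutator, ← MonoidHom.range_eq_map, Subgroup.range_subtype, hPP]
    have h2 := hsch f.range h1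
    intro q hq
    obtain ⟨k, hk⟩ := h2 ⟨⟨q, hq⟩, rfl⟩
    have h3 : ∀ x ∈ K, q * x * q⁻¹ = (k : ↥(Y ι hn p)) * x * (k : ↥(Y ι hn p))⁻¹ := by
      intro x hx
      have h4 := congrArg (fun f : MulAut ↥K => ((f ⟨x, hx⟩ : ↥K) : ↥(Y ι hn p))) hk
      exact h4.symm
    have h4 : (k : ↥(Y ι hn p))⁻¹ * q ∈ centralizer (K : Set ↥(Y ι hn p)) := by
      rw [mem_centralizer_iff]
      intro x hx
      have h5 := h3 x hx
      calc x * ((k : ↥(Y ι hn p))⁻¹ * q) = (k : ↥(Y ι hn p))⁻¹ * ((k : ↥(Y ι hn p)) * x * (k : ↥(Y ι hn p))⁻¹) * q := by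
            group
        _ = (k : ↥(Y ι hn p))⁻¹ * (q * x * q⁻¹) * q := by rw [h5]
        _ = _ := by group
    have e : q = (k : ↥(Y ι hn p)) * ((k : ↥(Y ι hn p))⁻¹ * q) := by group
    rw [e]
    exact mul_mem_sup k.2 h4
  four := by
    obtain ⟨a, ha, b, hb, ha1, hb1, hab⟩ := h.four
    have key : ∀ a : G, a ∈ Q → a ≠ 1 → ∃ a' : ↥(Y ι hn p), (a' : G) = a ∧
        a' ∈ centralizer ((fY ι hn p).range : Set ↥(Y ι hn p)) ∧ orderOf a' = 2 := by
      intro a ha ha1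
      obtain ⟨a', e, htt, htA, -⟩ := h.exists_t ha ha1
      refine ⟨a', e, htA, orderOf_eq_prime (by rw [pow_two, htt]) ?_⟩
      rintro rfl
      exact ha1 e.symm
    obtain ⟨a', e1, h1, h2⟩ := key a ha ha1
    obtain ⟨b', e2, h3, h4⟩ := key b hb hb1
    refine ⟨a', b', h1, h3, h2, h4, ?_, ?_⟩
    · apply Subtype.ext
      show (a' : G) * b' = b' * a'
      rw [e1, e2]
      exact comm_of_sq h.sq ha hb
    · rintro rfl
      exact hab (e1.symm.trans e2)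

theorem qc {t : ↥(Y ι hn p)} (htt : t * t = 1)
    (htA : t ∈ centralizer ((fY ι hn p).range : Set ↥(Y ι hn p))) (htn : t ∉ (fY ι hn p).range)
    (htQ : (t : G) ∈ Q) (hF : 4 ≤ Nat.card F) :
    SpFourDefs.QC (h.base htt htA htn) (Q.subgroupOf (Y ι hn p)) := by
  obtain ⟨B, hB⟩ : ∃ B, B = h.base htt htA htn := ⟨_, rfl⟩
  have hK := h.kCent htt htA htn hF
  have htB : (h.base htt htA htn).t = t := rfl
  rw [← hB] at hK htB ⊢
  have hc : ∀ q ∈ Q.subgroupOf (Y ι hn p), ∀ k ∈ (fY ι hn p).range, Commute q k := fun q hq k hk =>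
    (mem_centralizer_iff.1 (h.sylY.le hq) k hk).symm
  exact
  { t_mem := by rw [htB]; exact mem_subgroupOf.2 htQ
    sq := fun q hq => Subtype.ext (h.sq q (mem_subgroupOf.1 hq))
    xa := fun q hq u => hc q hq _ (hK.xa_mem u)
    xb := fun q hq u => hc q hq _ (hK.xb_mem u)
    zs := fun q hq u => hc q hq _ (hK.zs_mem u)
    zl := fun q hq u => hc q hq _ (hK.zl_mem u)
    h := fun q hq α β => hc q hq _ (hK.h_mem α β)
    na := fun q hq => hc q hq _ hK.na_mem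
    nb := fun q hq => hc q hq _ hK.nb_mem
    disj := fun q hq u s m r e => h.cen_eq_one (by
      rw [← e]
      exact mul_mem (mul_mem (mul_mem (hK.xa_mem u) (hK.xb_mem s)) (hK.zs_mem m)) (hK.zl_mem r)) (h.sylY.le hq) }

end Hy

/-- **The reduction to `Sp₄(q)`.** -/
theorem red' {n : ℕ} (hn : 3 ≤ n) {F : Type*} [Field F] [Fintype F] [CharP F 2] (hF : 4 ≤ Fintype.card F)
    {G : Type u} [Group G] [Finite G] {ι : Sy n F →* G} (hi : Function.Injective ι) (tight : TightAt ι.range)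
    (ctr : ∀ x ∈ ι.range, x ∈ centralizer (ι.range : Set G) → x = 1)
    {Q : Subgroup G} (hQ : IsSyl Q (centralizer (ι.range : Set G))) (hsq : ∀ q ∈ Q, q * q = 1)
    (h4 : ∃ a ∈ Q, ∃ b ∈ Q, a ≠ 1 ∧ b ≠ 1 ∧ a ≠ b) {p : ℕ} (hp : p.Prime) (hpF : p ∣ Fintype.card F - 1)
    {y : G} (hy : ∀ a ∈ (A0 hn F p).map ι, y * a = a * y)
    (h : (∀ q ∈ Q, q ≠ 1 → ∃ b, b ≠ 0 ∧ y * q * y⁻¹ = q * ι (zz hn 0 b)) ∨
      (∀ q ∈ Q, q ≠ 1 → ∃ a, a ≠ 0 ∧ y * q * y⁻¹ = q * ι (zz hn a 0))) : False := by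
  obtain ⟨ζ, hζ⟩ : ∃ ζ : Fˣ, orderOf ζ = p := by
    have : Fact p.Prime := ⟨hp⟩
    apply exists_prime_orderOf_dvd_card' p
    rw [Nat.card_units, Nat.card_eq_fintype_card]
    exact hpF
  have hζ1 : ζ ≠ 1 := by
    rintro rfl
    rw [orderOf_one] at hζ
    exact hp.one_lt.ne hζ
  have H : Hy ι Q hn p ζ := ⟨hi, tight, ctr, hQ, hsq, h4, hζ1, by rw [← hζ, pow_orderOf_eq_one]⟩
  have hF' : 4 ≤ Nat.card F := by rw [Nat.card_eq_fintype_card]; exact hF
  obtain ⟨t, ht, -, -, ht1, -, -⟩ := h4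
  obtain ⟨t', e, htt, htA, htn⟩ := H.exists_t ht ht1
  have hyY : y ∈ Y ι hn p := mem_Y.2 fun a ha => hy _ ⟨a, ha, rfl⟩
  have hK := H.kCent htt htA htn hF'
  have h4' : ∃ t1 ∈ Q.subgroupOf (Y ι hn p), ∃ t2 ∈ Q.subgroupOf (Y ι hn p), t1 ≠ 1 ∧ t2 ≠ 1 ∧ t1 ≠ t2 := by
    obtain ⟨a, ha, b, hb, ha1, hb1, hab⟩ := H.four
    exact ⟨⟨a, H.QY ha⟩, mem_subgroupOf.2 ha, ⟨b, H.QY hb⟩, mem_subgroupOf.2 hb, fun e => ha1 (congrArg Subtype.val e),
      fun e => hb1 (congrArg Subtype.val e), fun e => hab (congrArg Subtype.val e)⟩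
  have htQ : (t' : G) ∈ Q := by rw [e]; exact ht
  have hdisj : ∀ q ∈ Q.subgroupOf (Y ι hn p), q ∈ (fY ι hn p).range → q = 1 := fun q hq hqA =>
    H.cen_eq_one hqA (H.sylY.le hq)
  -- the general form
  have key : ∀ (g : F → Sy 2 F), g 0 = 1 → (∀ a, g a = 1 → a = 0) →
      (∀ q ∈ Q, q ≠ 1 → ∃ a, a ≠ 0 ∧ y * q * y⁻¹ = q * ι (bl hn (g a))) →
      (∀ t ∈ Q.subgroupOf (Y ι hn p), ∃ t' ∈ Q.subgroupOf (Y ι hn p), ∃ w,
        (⟨y, hyY⟩ : ↥(Y ι hn p)) * t * (⟨y, hyY⟩ : ↥(Y ι hn p))⁻¹ = t' * fY ι hn p (g w)) ∧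
      (∀ t ∈ Q.subgroupOf (Y ι hn p), ∀ w,
        (⟨y, hyY⟩ : ↥(Y ι hn p)) * t * (⟨y, hyY⟩ : ↥(Y ι hn p))⁻¹ = fY ι hn p (g w) → t = 1) ∧
      ∃ t ∈ Q.subgroupOf (Y ι hn p), (⟨y, hyY⟩ : ↥(Y ι hn p)) * t * (⟨y, hyY⟩ : ↥(Y ι hn p))⁻¹ ∉
        Q.subgroupOf (Y ι hn p) := by
    intro g g0 g1 hg
    have hg' : ∀ t ∈ Q.subgroupOf (Y ι hn p), t ≠ 1 → ∃ a, a ≠ 0 ∧
        (⟨y, hyY⟩ : ↥(Y ι hn p)) * t * (⟨y, hyY⟩ : ↥(Y ι hn p))⁻¹ = t * fY ι hn p (g a) := by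
      intro t ht ht1
      obtain ⟨a, ha, e⟩ := hg _ (mem_subgroupOf.1 ht) (fun e => ht1 (Subtype.ext e))
      exact ⟨a, ha, Subtype.ext e⟩
    refine ⟨?_, ?_, ?_⟩
    · intro t ht
      by_cases ht1 : t = 1
      · refine ⟨1, one_mem _, 0, ?_⟩
        rw [ht1, g0, map_one]; group
      · obtain ⟨a, -, e⟩ := hg' t ht ht1
        exact ⟨t, ht, a, e⟩
    · intro t ht w e
      by_contra ht1
      obtain ⟨a, -, e'⟩ := hg' t ht ht1
      apply ht1
      apply hdisj t ht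
      have h1 : t = fY ι hn p (g w) * (fY ι hn p (g a))⁻¹ := by
        rw [eq_mul_inv_iff_mul_eq, ← e', e]
      rw [h1]
      exact mul_mem ⟨_, rfl⟩ (inv_mem ⟨_, rfl⟩)
    · obtain ⟨t, ht, -, -, ht1, -, -⟩ := h4'
      refine ⟨t, ht, fun h1 => ?_⟩
      obtain ⟨a, ha, e⟩ := hg' t ht ht1
      rw [e] at h1
      have h2 : fY ι hn p (g a) ∈ Q.subgroupOf (Y ι hn p) := by
        have h3 := mul_mem (inv_mem ht) h1
        rwa [inv_mul_cancel_left] at h3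
      have h3 := hdisj _ h2 ⟨_, rfl⟩
      apply ha
      apply g1
      apply fY_inj hi (hn := hn) (p := p)
      rw [h3, map_one]
  rcases h with h | h
  · obtain ⟨k1, k2, k3⟩ := key (fun a => sy (Sum.inl 0) a) (sy_zero _)
      (fun a ha => sy_inj (ha.trans (sy_zero _).symm)) (by
        intro q hq hq1
        obtain ⟨b, hb, e⟩ := h q hq hq1
        refine ⟨b, hb, ?_⟩
        rw [e, zz_b, bl, blk_sy]; rfl)
    exact SpFourEnd.endL hF hK (H.kAut htt htA htn hF') (H.env hF') H.sylY (H.qc htt htA htn htQ hF') h4'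
      (g := ⟨y, hyY⟩) ⟨k1, k2, k3⟩
  · obtain ⟨k1, k2, k3⟩ := key (fun a => sx (Sum.inl 0) (Sum.inl 1) a) (sx_zero _ _)
      (fun a ha => sx_inj FourStd.ij (ha.trans (sx_zero _ _).symm)) (by
        intro q hq hq1
        obtain ⟨a, ha, e⟩ := h q hq hq1
        refine ⟨a, ha, ?_⟩
        rw [e, zz_a, bl, blk_sx _ FourStd.ij]; rfl)
    exact SpFourEnd.endS hF hK (H.kAut htt htA htn hF') (H.env hF') H.sylY (H.qc htt htA htn htQ hF') h4'
      (g := ⟨y, hyY⟩) ⟨k1, k2, k3⟩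

/-- **The reduction to `Sp₄(q)`**, with the hypotheses of the K-free part. -/
theorem red {n : ℕ} (hn : 3 ≤ n) {F : Type*} [Field F] [Fintype F] [CharP F 2] (hF : 4 ≤ Fintype.card F)
    {G : Type u} [Group G] [Finite G] {ι : Sy n F →* G} (hi : Function.Injective ι) (tight : TightAt ι.range)
    (ctr : ∀ x ∈ ι.range, x ∈ centralizer (ι.range : Set G) → x = 1)
    (_out : ∀ P ≤ normalizer (ι.range : Set G), ⁅P, P⁆ = P → P ≤ ι.range ⊔ centralizer (ι.range : Set G))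
    {Q : Subgroup G} (hQ : IsSyl Q (centralizer (ι.range : Set G))) (hsq : ∀ q ∈ Q, q * q = 1)
    (h4 : ∃ a ∈ Q, ∃ b ∈ Q, a ≠ 1 ∧ b ≠ 1 ∧ a ≠ b) {p : ℕ} (hp : p.Prime) (_hp2 : p ≠ 2)
    (hpF : p ∣ Fintype.card F - 1) {y : G} (hy : ∀ a ∈ (A0 hn F p).map ι, y * a = a * y)
    (h : (∀ q ∈ Q, q ≠ 1 → ∃ b, b ≠ 0 ∧ y * q * y⁻¹ = q * ι (zz hn 0 b)) ∨
      (∀ q ∈ Q, q ≠ 1 → ∃ a, a ≠ 0 ∧ y * q * y⁻¹ = q * ι (zz hn a 0))) : False :=
  red' hn hF hi tight ctr hQ hsq h4 hp hpF hy h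

end Cfsg.Agent.OddHalf.D4.SpN.RedFour
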