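import Cfsg.Agent.OddHalf.SpN.OutCore

/-!
# `Sp_2n(q)`, `q` even: generation by root elements (helper297)

* `RI I` : generated by the root elements with all indices in `I`;
* `gen_fix` : an element fixing `e_k` for `k ∉ I` (`I = -I`) is in `RI I`;
* `mem_LM'`, `mem_LA`, `mem_LB`, `mem_LM` : the stabilizer of `e_1, e_2` is `LM`, that of `e_1` is `LA`, the centralizer of
  `x_12(1)` is `LB`, the centralizer of `x_12(1) y_1(1)` is `LM X_{1,-2}`.
-/

set_option autoImplicit false
set_option linter.unusedSectionVars false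

namespace Cfsg.Agent.OddHalf.D4.SpN.Loc

open Cfsg Cfsg.Agent.ClassicalGeometry.SympBasic Cfsg.Agent.ClassicalGeometry.SympAutSemi
open Cfsg.Agent.OddHalf.SpN Cfsg.Agent.OddHalf.SpN.Out
open scoped Matrix commutatorElement

variable {n : ℕ} {F : Type*} [Field F]

theorem act_mul (A B : Sy n F) (v : Ix n → F) : rho n F (A * B) v = rho n F A (rho n F B v) := by rw [map_mul]; rfl

theorem act_one (v : Ix n → F) : rho n F (1 : Sy n F) v = v := by rw [map_one]; rfl

theorem act_inv {A : Sy n F} {v w : Ix n → F} (h : rho n F A v = w) : rho n F A⁻¹ w = v := by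
  rw [← h, ← act_mul, inv_mul_cancel, act_one]

/-- the stabilizer of a vector -/
def St (v : Ix n → F) : Subgroup (Sy n F) where
  carrier := {A | rho n F A v = v}
  one_mem' := act_one v
  mul_mem' {A B} (hA : rho n F A v = v) (hB : rho n F B v = v) := by
    show rho n F (A * B) v = v
    rw [act_mul, hB, hA]
  inv_mem' {A} (hA : rho n F A v = v) := act_inv hA

variable [CharP F 2]

theorem fix_RG {P : Ix n → Prop} {Q : Ix n → Ix n → Prop} {v : Ix n → F} (h1 : ∀ i, P i → v (neg i) = 0)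
    (h2 : ∀ i j, Q i j → v (neg i) = 0 ∧ v (neg j) = 0) {g : Sy n F} (hg : g ∈ RG F P Q) : rho n F g v = v := by
  have h : RG F P Q ≤ St v := by
    refine RG_le (fun i hi a => ?_) fun i j hij a => ?_
    · show rho n F (sy i a) v = v
      rw [rho_sy, h1 i hi, mul_zero, zero_smul, add_zero]
    · show rho n F (sx i j a) v = v
      by_cases hd : Dj i j
      · rw [rho_sx hd, (h2 i j hij).1, (h2 i j hij).2, mul_zero, zero_smul, zero_smul, add_zero, add_zero]
      · rw [sx_of_not hd, act_one]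
  exact h hg

/-- generated by the root elements with indices in `I` -/
noncomputable def RI (F : Type*) [Field F] [CharP F 2] (I : Ix n → Prop) : Subgroup (Sy n F) := RG F I fun k l => I k ∧ I l

variable {I : Ix n → Prop}

theorem sy_RI {k : Ix n} (hk : I k) (a : F) : sy k a ∈ RI F I := sy_mem hk a

theorem sx_RI {k l : Ix n} (hk : I k) (hl : I l) (a : F) : sx k l a ∈ RI F I := sx_mem (Q := fun k l => I k ∧ I l) ⟨hk, hl⟩ a

theorem RI_mono {I' : Ix n → Prop} (h : ∀ k, I k → I' k) : RI F I ≤ RI F I' :=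
  RG_le (fun i hi a => sy_RI (h i hi) a) fun _ _ hij a => sx_RI (h _ hij.1) (h _ hij.2) a

theorem exists_tr (hI : ∀ k, I k → I (neg k)) {k l : Ix n} (hk : I k) (hl : I l) :
    ∃ h ∈ RI F I, rho n F h (be n F k) = be n F l := by
  by_cases h1 : l = k
  · subst h1; exact ⟨1, one_mem _, act_one _⟩
  by_cases h2 : l = neg k
  · subst h2
    refine ⟨sy k 1 * sy (neg k) 1, mul_mem (sy_RI hk 1) (sy_RI (hI k hk) 1), ?_⟩
    rw [act_mul]
    ext m
    simp only [rho_sy, Pi.add_apply, Pi.smul_apply, smul_eq_mul, be_apply, neg_neg, neg_ne, if_false, if_true, mul_one,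
      one_mul, zero_add]
    have e1 := CharTwo.add_self_eq_zero (if m = k then (1 : F) else 0)
    linear_combination e1
  · have hd1 : Dj l (neg k) := ⟨h2, by rw [neg_neg]; exact h1⟩
    have hd2 : Dj k (neg l) := ⟨fun e => h2 (by rw [e, neg_neg]), by rw [neg_neg]; exact Ne.symm h1⟩
    have g3 : neg k ≠ l := Ne.symm h2
    have g4 : neg l ≠ k := Ne.symm hd2.1
    refine ⟨sx k (neg l) 1 * sx l (neg k) 1, mul_mem (sx_RI hk (hI l hl) 1) (sx_RI hl (hI k hk) 1), ?_⟩
    rw [act_mul]
    ext m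
    simp only [rho_sx hd1, rho_sx hd2, Pi.add_apply, Pi.smul_apply, smul_eq_mul, be_apply, neg_neg, neg_ne, if_false,
      if_true, mul_one, one_mul, zero_add, mul_zero, add_zero, zero_mul, h1, g3, g4]
    have e1 := CharTwo.add_self_eq_zero (if m = k then (1 : F) else 0)
    linear_combination e1

/-- clearing a vector with the root elements `k`, `k l` -/
theorem exists_red {k : Ix n} {w : Ix n → F} (hw : w (neg k) = 1) (hs : ∀ l, l ≠ k → l ≠ neg k → w l ≠ 0 → I l) :
    ∃ g ∈ RG F (fun i => i = k) (fun i l => i = k ∧ I l ∧ Dj k l), rho n F g w = be n F (neg k) := by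
  classical
  have key : ∀ s : Finset (Ix n), ∃ g ∈ RG F (fun i => i = k) (fun i l => i = k ∧ I l ∧ Dj k l),
      rho n F g w (neg k) = 1 ∧ ∀ l, l ≠ k → l ≠ neg k → rho n F g w l ≠ 0 → I l ∧ l ∉ s := by
    intro s
    induction s using Finset.induction_on with
    | empty =>
      exact ⟨1, one_mem _, by rw [act_one]; exact hw, fun l h1 h2 h3 => ⟨hs l h1 h2 (by rwa [act_one] at h3), by simp⟩⟩
    | insert m s hm ih =>
      obtain ⟨g, hg, h1, h2⟩ := ih
      by_cases hmk : m = k ∨ m = neg k ∨ rho n F g w m = 0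
      · refine ⟨g, hg, h1, fun l h3 h4 h5 => ⟨(h2 l h3 h4 h5).1, fun h6 => ?_⟩⟩
        rw [Finset.mem_insert] at h6
        rcases h6 with rfl | h6
        · rcases hmk with h | h | h
          · exact h3 h
          · exact h4 h
          · exact h5 h
        · exact (h2 l h3 h4 h5).2 h6
      · rw [not_or, not_or] at hmk
        obtain ⟨m1, m2, m3⟩ := hmk
        have hd : Dj k m := ⟨Ne.symm m1, fun e => m2 (by rw [e, neg_neg])⟩
        have hIm := (h2 m m1 m2 m3).1
        set v := rho n F g w with hv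
        have ev : ∀ l, rho n F (sx k m (v m) * g) w l = v l + v m * v (neg m) * (if l = k then 1 else 0) +
            v m * (if l = m then 1 else 0) := by
          intro l
          rw [act_mul, ← hv, rho_sx hd]
          simp only [Pi.add_apply, Pi.smul_apply, smul_eq_mul, be_apply, h1, mul_one]
        refine ⟨sx k m (v m) * g, mul_mem (sx_mem (P := fun i => i = k) ⟨rfl, hIm, hd⟩ _) hg, ?_, fun l h3 h4 h5 => ?_⟩
        · rw [ev, h1, if_neg (neg_ne k), if_neg (Ne.symm m2)]; ring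
        · rw [ev, if_neg h3, mul_zero, add_zero] at h5
          by_cases hlm : l = m
          · subst hlm
            rw [if_pos rfl, mul_one, CharTwo.add_self_eq_zero] at h5
            exact absurd rfl h5
          · rw [if_neg hlm, mul_zero, add_zero] at h5
            refine ⟨(h2 l h3 h4 h5).1, fun h6 => ?_⟩
            rw [Finset.mem_insert] at h6
            rcases h6 with h6 | h6
            · exact hlm h6
            · exact (h2 l h3 h4 h5).2 h6
  obtain ⟨g, hg, h1, h2⟩ := key Finset.univ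
  set v := rho n F g w with hv
  refine ⟨sy k (v k) * g, mul_mem (sy_mem (P := fun i => i = k) rfl _) hg, ?_⟩
  rw [act_mul, ← hv, rho_sy, h1, mul_one]
  ext l
  rw [Pi.add_apply, Pi.smul_apply, smul_eq_mul, be_apply, be_apply]
  by_cases hk : l = k
  · subst hk
    rw [if_pos rfl, mul_one, CharTwo.add_self_eq_zero, if_neg (ne_neg l)]
  by_cases hk' : l = neg k
  · subst hk'
    rw [h1, if_neg (neg_ne k), if_pos rfl, mul_zero, add_zero]
  · rw [if_neg hk, if_neg hk', mul_zero, add_zero]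
    by_contra h
    exact (h2 l hk hk' h).2 (Finset.mem_univ l)

/-- `RI I` is transitive on the nonzero vectors supported on `I` -/
theorem exists_trans (hI : ∀ k, I k → I (neg k)) {k : Ix n} (hk : I k) {v : Ix n → F} (hv : v ≠ 0)
    (hs : ∀ l, v l ≠ 0 → I l) : ∃ g ∈ RI F I, rho n F g v = be n F k := by
  -- a nonzero coordinate at `-k`
  obtain ⟨h, hh, h1, h2⟩ : ∃ h ∈ RI F I, rho n F h v (neg k) ≠ 0 ∧ ∀ l, rho n F h v l ≠ 0 → I l := by
    by_cases h0 : v (neg k) = 0
    · obtain ⟨m, hm⟩ : ∃ m, v m ≠ 0 := by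
        by_contra h
        push Not at h
        exact hv (funext h)
      by_cases hmk : m = k
      · subst hmk
        refine ⟨sy (neg m) 1, sy_RI (hI m hk) 1, ?_, fun l hl => ?_⟩
        · rw [rho_sy, neg_neg, one_mul, Pi.add_apply, h0, zero_add, Pi.smul_apply, be_apply, if_pos rfl, smul_eq_mul,
            mul_one]
          exact hm
        · rw [rho_sy, neg_neg, one_mul, Pi.add_apply, Pi.smul_apply, be_apply] at hl
          by_cases hlm : l = neg m
          · rw [hlm]; exact hI m hk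
          · rw [if_neg hlm, smul_zero, add_zero] at hl
            exact hs l hl
      · have hmk' : m ≠ neg k := fun e => hm (by rw [e]; exact h0)
        have hd : Dj (neg k) (neg m) := ⟨fun e => hmk (neg_inj.1 e).symm, by rw [neg_neg]; exact hmk'.symm⟩
        refine ⟨sx (neg k) (neg m) 1, sx_RI (hI k hk) (hI m (hs m hm)) 1, ?_, fun l hl => ?_⟩
        · rw [rho_sx hd, neg_neg, neg_neg, one_mul, one_mul, Pi.add_apply, Pi.add_apply, h0, zero_add, Pi.smul_apply,
            Pi.smul_apply, be_apply, be_apply, if_pos rfl, if_neg (fun e => hmk (neg_inj.1 e).symm), smul_eq_mul,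
            smul_zero, add_zero, mul_one]
          exact hm
        · rw [rho_sx hd, neg_neg, neg_neg, one_mul, one_mul, Pi.add_apply, Pi.add_apply, Pi.smul_apply,
            Pi.smul_apply, be_apply, be_apply] at hl
          by_cases hlk : l = neg k
          · rw [hlk]; exact hI k hk
          by_cases hlm : l = neg m
          · rw [hlm]; exact hI m (hs m hm)
          · rw [if_neg hlk, if_neg hlm, smul_zero, smul_zero, add_zero, add_zero] at hl
            exact hs l hl
    · exact ⟨1, one_mem _, by rwa [act_one], fun l hl => hs l (by rwa [act_one] at hl)⟩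
  set w := rho n F h v with hw
  set a := w (neg k) with ha
  have e1 : (a⁻¹ • w) (neg k) = 1 := by
    rw [Pi.smul_apply, smul_eq_mul]; exact inv_mul_cancel₀ h1
  obtain ⟨g, hg, eg⟩ := exists_red (I := I) e1 fun l _ _ hl => h2 l fun e => hl (by
    rw [Pi.smul_apply, e, smul_zero])
  have hg' : g ∈ RI F I := RG_le (fun i hi a => by rw [hi]; exact sy_RI hk a)
    (fun i j hij a => by rw [hij.1]; exact sx_RI hk hij.2.1 a) hg
  have e2 : rho n F g w = a • be n F (neg k) := by
    have : w = a • (a⁻¹ • w) := by rw [smul_smul, mul_inv_cancel₀ h1, one_smul]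
    rw [this, (SI.of_rho g).smul, eg]; rfl
  have hyI : hy (neg k) a⁻¹ ∈ RI F I := by
    have k1 : I (neg k) := hI k hk
    have k2 : I (neg (neg k)) := by rw [neg_neg]; exact hk
    exact mul_mem (mul_mem (mul_mem (sy_RI k1 _) (sy_RI k2 _)) (sy_RI k1 _))
      (mul_mem (mul_mem (sy_RI k1 _) (sy_RI k2 _)) (sy_RI k1 _))
  obtain ⟨r, hr, er⟩ := exists_tr (F := F) hI (hI k hk) hk
  refine ⟨r * (hy (neg k) a⁻¹ * (g * h)), mul_mem hr (mul_mem hyI (mul_mem hg' hh)), ?_⟩
  have e3 : (1 : F ≃+* F) a = a := rfl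
  rw [act_mul, act_mul, act_mul, ← hw, e2, (SI.of_rho _).smul, rho_hy _ (inv_ne_zero h1), e3,
    smul_smul, mul_inv_cancel₀ h1, one_smul, er]

theorem coord_act (A : Sy n F) (u : Ix n → F) (k : Ix n) : rho n F A u k = sympForm n F u (rho n F A⁻¹ (be n F (neg k))) := by
  have h := sympForm_rho A u (rho n F A⁻¹ (be n F (neg k)))
  rw [← h, ← act_mul, mul_inv_cancel, act_one, form_be, neg_neg]

/-- the coordinate at `k` of `A u`, `A e_{-k} = e_{-k}` -/
theorem coord_of_fix {A : Sy n F} {k : Ix n} (h : rho n F A (be n F (neg k)) = be n F (neg k)) (u : Ix n → F) :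
    rho n F A u k = u k := by
  rw [coord_act, act_inv h, form_be, neg_neg]

/-- **an element fixing the `e_k`, `k ∉ I`, is generated by root elements with indices in `I`** -/
theorem gen_fix (N : ℕ) : ∀ (I : Ix n → Prop), (∀ k, I k → I (neg k)) → {k | I k}.ncard ≤ N → ∀ A : Sy n F,
    (∀ k, ¬ I k → rho n F A (be n F k) = be n F k) → A ∈ RI F I := by
  classical
  induction N with
  | zero =>
    intro I hI hN A hA
    have h1 : ∀ k, ¬ I k := fun k hk => by
      have : 0 < {k | I k}.ncard := (Set.ncard_pos (Set.toFinite _)).2 ⟨k, hk⟩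
      omega
    have h2 : A = 1 := by
      apply rho_injective
      rw [map_one]
      exact SI.ext (SI.of_rho A) SI.one fun k => by rw [hA k (h1 k)]; rfl
    rw [h2]; exact one_mem _
  | succ N ih =>
    intro I hI hN A hA
    by_cases hk : ∃ k, I k
    · obtain ⟨k, hk⟩ := hk
      have supp : ∀ (A : Sy n F), (∀ k, ¬ I k → rho n F A (be n F k) = be n F k) → ∀ m, I m → ∀ l,
          rho n F A (be n F m) l ≠ 0 → I l := by
        intro A hA m hm l hl
        by_contra h
        have h1 : ¬ I (neg l) := fun h2 => h (by have := hI _ h2; rwa [neg_neg] at this)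
        rw [coord_of_fix (hA _ h1), be_apply] at hl
        rw [if_neg (fun e => h (by rw [e]; exact hm))] at hl
        exact hl rfl
      obtain ⟨g, hg, eg⟩ := exists_trans (F := F) hI hk (v := rho n F A (be n F k))
        ((SI.of_rho A).ne (be_ne _)) (supp A hA k hk)
      have fixRI : ∀ g ∈ RI F I, ∀ l, ¬ I l → rho n F g (be n F l) = be n F l := by
        intro g hg l hl
        have hne : ∀ i, I i → (be n F l) (neg i) = 0 := fun i hi => by
          rw [be_apply, if_neg]
          rintro rfl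
          exact hl (hI i hi)
        exact fix_RG hne (fun i j hij => ⟨hne i hij.1, hne j hij.2⟩) hg
      set A' := g * A with hA'
      have hA'1 : ∀ l, ¬ I l → rho n F A' (be n F l) = be n F l := fun l hl => by
        rw [hA', act_mul, hA l hl, fixRI g hg l hl]
      have hA'k : rho n F A' (be n F k) = be n F k := by rw [hA', act_mul, eg]
      have h3 : rho n F A' (be n F (neg k)) (neg k) = 1 := by
        rw [coord_of_fix (by rw [neg_neg]; exact hA'k), be_apply, if_pos rfl]
      obtain ⟨g', hg', eg'⟩ := exists_red (I := I) h3 fun l _ _ hl => supp A' hA'1 _ (hI k hk) l hl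
      have hg'I : g' ∈ RI F I := RG_le (fun i hi a => by rw [hi]; exact sy_RI hk a)
        (fun i j hij a => by rw [hij.1]; exact sx_RI hk hij.2.1 a) hg'
      have hg'k : rho n F g' (be n F k) = be n F k := by
        refine fix_RG (fun i hi => ?_) (fun i j hij => ⟨?_, ?_⟩) hg'
        · rw [hi, be_apply, if_neg (neg_ne k)]
        · rw [hij.1, be_apply, if_neg (neg_ne k)]
        · rw [be_apply, if_neg]
          intro e
          exact hij.2.2.2 e.symm
      set A'' := g' * A' with hA''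
      have h5 : A'' ∈ RI F (fun l => I l ∧ l ≠ k ∧ l ≠ neg k) := by
        refine ih _ (fun l hl => ⟨hI l hl.1, fun e => hl.2.2 (by rw [← e, neg_neg]), fun e => hl.2.1 (neg_inj.1 e)⟩) ?_ A'' ?_
        · have h6 : {l | I l ∧ l ≠ k ∧ l ≠ neg k}.ncard < {l | I l}.ncard :=
            Set.ncard_lt_ncard ⟨fun l hl => hl.1, fun h => (h hk).2.1 rfl⟩ (Set.toFinite _)
          omega
        · intro l hl
          by_cases h6 : l = k
          · rw [h6, hA'', act_mul, hA'k, hg'k]
          by_cases h7 : l = neg k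
          · rw [h7, hA'', act_mul, eg']
          · have h8 : ¬ I l := fun h9 => hl ⟨h9, h6, h7⟩
            rw [hA'', act_mul, hA'1 l h8, fixRI g' hg'I l h8]
      have h6 : A'' ∈ RI F I := RI_mono (fun l hl => hl.1) h5
      have h7 : A = g⁻¹ * (g'⁻¹ * A'') := by rw [hA'', hA']; group
      rw [h7]
      exact mul_mem (inv_mem hg) (mul_mem (inv_mem hg'I) h6)
    · push Not at hk
      have h2 : A = 1 := by
        apply rho_injective
        rw [map_one]
        exact SI.ext (SI.of_rho A) SI.one fun k => by rw [hA k (hk k)]; rfl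
      rw [h2]; exact one_mem _

theorem gen_fix' (hI : ∀ k, I k → I (neg k)) {A : Sy n F} (hA : ∀ k, ¬ I k → rho n F A (be n F k) = be n F k) :
    A ∈ RI F I := gen_fix _ I hI le_rfl A hA

/-- all root elements generate -/
theorem RI_top : RI F (fun _ : Ix n => True) = ⊤ := by
  rw [eq_top_iff]
  intro A _
  exact gen_fix' (fun _ _ => trivial) fun k hk => absurd trivial hk

/-! ### the stabilizers -/

/-- the elements fixing `e_1` and `e_2` -/
theorem mem_LM' (hn : 3 ≤ n) {A : Sy n F} (h0 : rho n F A (be n F (Sum.inl (c0 hn))) = be n F (Sum.inl (c0 hn)))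
    (h1 : rho n F A (be n F (Sum.inl (c1 hn))) = be n F (Sum.inl (c1 hn))) : A ∈ LM F hn := by
  have h01 := c01 hn
  have e1 : rho n F A (be n F (Sum.inr (c0 hn))) (neg (Sum.inl (c0 hn))) = 1 := by
    rw [coord_of_fix (by simpa using h0)]; simp [be_apply]
  have e2 : rho n F A (be n F (Sum.inr (c0 hn))) (Sum.inr (c1 hn)) = 0 := by
    rw [coord_of_fix (by simpa using h1)]; simp [be_apply, h01.symm]
  obtain ⟨g, hg, eg⟩ := exists_red (I := fun l => l ≠ Sum.inr (c1 hn)) e1
    (fun l _ _ hl => by rintro rfl; exact hl e2)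
  have hgM : g ∈ LM F hn := RG_le (fun i hi a => by rw [hi]; exact sy_mem (by simp [PM]) a)
    (fun i j hij a => by
      obtain ⟨rfl, h3, h4⟩ := hij
      exact sx_mem ⟨by simp [PM], ⟨fun e => h4.2 (by rw [e]; rfl), h3⟩⟩ a) hg
  have g0 : rho n F g (be n F (Sum.inl (c0 hn))) = be n F (Sum.inl (c0 hn)) := by
    refine fix_RG (fun i hi => ?_) (fun i j hij => ⟨?_, ?_⟩) hg
    · rw [hi]; simp [be_apply]
    · rw [hij.1]; simp [be_apply]
    · rw [be_apply, if_neg]
      exact fun e => hij.2.2.2 e.symm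
  have g1 : rho n F g (be n F (Sum.inl (c1 hn))) = be n F (Sum.inl (c1 hn)) := by
    refine fix_RG (fun i hi => ?_) (fun i j hij => ⟨?_, ?_⟩) hg
    · rw [hi]; simp [be_apply]
    · rw [hij.1]; simp [be_apply]
    · rw [be_apply, if_neg]
      intro e
      rw [neg_eq_iff] at e
      exact hij.2.1 e
  set A' := g * A with hA'
  have a0 : rho n F A' (be n F (Sum.inl (c0 hn))) = be n F (Sum.inl (c0 hn)) := by rw [hA', act_mul, h0, g0]
  have a1 : rho n F A' (be n F (Sum.inl (c1 hn))) = be n F (Sum.inl (c1 hn)) := by rw [hA', act_mul, h1, g1]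
  have a2 : rho n F A' (be n F (Sum.inr (c0 hn))) = be n F (Sum.inr (c0 hn)) := by rw [hA', act_mul, eg]; rfl
  have e3 : rho n F A' (be n F (Sum.inr (c1 hn))) (neg (Sum.inl (c1 hn))) = 1 := by
    rw [coord_of_fix (by simpa using a1)]; simp [be_apply]
  have e4 : rho n F A' (be n F (Sum.inr (c1 hn))) (Sum.inl (c0 hn)) = 0 := by
    rw [coord_of_fix (by simpa using a2)]; simp [be_apply]
  have e5 : rho n F A' (be n F (Sum.inr (c1 hn))) (Sum.inr (c0 hn)) = 0 := by
    rw [coord_of_fix (by simpa using a0)]; simp [be_apply, h01]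
  obtain ⟨g', hg', eg'⟩ := exists_red (I := fun l => l ≠ Sum.inl (c0 hn) ∧ l ≠ Sum.inr (c0 hn)) e3
    (fun l _ _ hl => ⟨by rintro rfl; exact hl e4, by rintro rfl; exact hl e5⟩)
  have hgM' : g' ∈ LM F hn := RG_le (fun i hi a => by rw [hi]; exact sy_mem (by simp [PM]) a)
    (fun i j hij a => by
      obtain ⟨rfl, h3, h4⟩ := hij
      exact sx_mem ⟨by simp [PM], ⟨h3.2, fun e => h4.2 (by rw [e]; rfl)⟩⟩ a) hg'
  have b0 : rho n F g' (be n F (Sum.inl (c0 hn))) = be n F (Sum.inl (c0 hn)) := by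
    refine fix_RG (fun i hi => ?_) (fun i j hij => ⟨?_, ?_⟩) hg'
    · rw [hi]; simp [be_apply]
    · rw [hij.1]; simp [be_apply]
    · rw [be_apply, if_neg]
      intro e
      rw [neg_eq_iff] at e
      exact hij.2.1.2 e
  have b1 : rho n F g' (be n F (Sum.inl (c1 hn))) = be n F (Sum.inl (c1 hn)) := by
    refine fix_RG (fun i hi => ?_) (fun i j hij => ⟨?_, ?_⟩) hg'
    · rw [hi]; simp [be_apply]
    · rw [hij.1]; simp [be_apply]
    · rw [be_apply, if_neg]
      exact fun e => hij.2.2.2 e.symm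
  have b2 : rho n F g' (be n F (Sum.inr (c0 hn))) = be n F (Sum.inr (c0 hn)) := by
    refine fix_RG (fun i hi => ?_) (fun i j hij => ⟨?_, ?_⟩) hg'
    · rw [hi]; simp [be_apply, h01.symm]
    · rw [hij.1]; simp [be_apply, h01.symm]
    · rw [be_apply, if_neg]
      intro e
      rw [neg_eq_iff] at e
      exact hij.2.1.1 e
  have key : g' * A' ∈ RI F (fun k : Ix n => k ≠ Sum.inl (c0 hn) ∧ k ≠ Sum.inr (c0 hn) ∧ k ≠ Sum.inl (c1 hn) ∧
      k ≠ Sum.inr (c1 hn)) := by
    refine gen_fix' (fun k hk => ?_) fun k hk => ?_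
    · refine ⟨fun e => ?_, fun e => ?_, fun e => ?_, fun e => ?_⟩ <;> rw [neg_eq_iff] at e
      · exact hk.2.1 e
      · exact hk.1 e
      · exact hk.2.2.2 e
      · exact hk.2.2.1 e
    · rw [act_mul]
      by_cases k0 : k = Sum.inl (c0 hn)
      · rw [k0, a0, b0]
      by_cases k1 : k = Sum.inr (c0 hn)
      · rw [k1, a2, b2]
      by_cases k2 : k = Sum.inl (c1 hn)
      · rw [k2, a1, b1]
      by_cases k3 : k = Sum.inr (c1 hn)
      · rw [k3, eg']; rfl
      · exact absurd ⟨k0, k1, k2, k3⟩ hk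
  have h3 : g' * A' ∈ LM F hn := RG_le (fun i hi a => sy_mem ⟨hi.2.1, hi.2.2.2⟩ a)
    (fun i j hij a => sx_mem ⟨⟨hij.1.2.1, hij.1.2.2.2⟩, hij.2.2.1, hij.2.2.2.2⟩ a) key
  have h4 : A = g⁻¹ * (g'⁻¹ * (g' * A')) := by rw [hA']; group
  rw [h4]
  exact mul_mem (inv_mem hgM) (mul_mem (inv_mem hgM') h3)

/-- **the stabilizer of `e_1` is `LA`** -/
theorem mem_LA (hn : 3 ≤ n) {A : Sy n F} (h0 : rho n F A (be n F (Sum.inl (c0 hn))) = be n F (Sum.inl (c0 hn))) :
    A ∈ LA F hn := by
  have e1 : rho n F A (be n F (Sum.inr (c0 hn))) (neg (Sum.inl (c0 hn))) = 1 := by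
    rw [coord_of_fix (by simpa using h0)]; simp [be_apply]
  obtain ⟨g, hg, eg⟩ := exists_red (I := fun _ => True) e1 (fun l _ _ _ => trivial)
  have hgM : g ∈ LA F hn := RG_le (fun i hi a => by rw [hi]; exact sy_mem (by simp [PA]) a)
    (fun i j hij a => by
      obtain ⟨rfl, -, h4⟩ := hij
      exact sx_mem ⟨by simp [PA], fun e => h4.2 (by rw [e]; rfl)⟩ a) hg
  have g0 : rho n F g (be n F (Sum.inl (c0 hn))) = be n F (Sum.inl (c0 hn)) := by
    refine fix_RG (fun i hi => ?_) (fun i j hij => ⟨?_, ?_⟩) hg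
    · rw [hi]; simp [be_apply]
    · rw [hij.1]; simp [be_apply]
    · rw [be_apply, if_neg]
      exact fun e => hij.2.2.2 e.symm
  have key : g * A ∈ RI F (fun k : Ix n => k ≠ Sum.inl (c0 hn) ∧ k ≠ Sum.inr (c0 hn)) := by
    refine gen_fix' (fun k hk => ?_) fun k hk => ?_
    · refine ⟨fun e => ?_, fun e => ?_⟩ <;> rw [neg_eq_iff] at e
      · exact hk.2 e
      · exact hk.1 e
    · rw [act_mul]
      by_cases k0 : k = Sum.inl (c0 hn)
      · rw [k0, h0, g0]
      by_cases k1 : k = Sum.inr (c0 hn)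
      · rw [k1, eg]; rfl
      · exact absurd ⟨k0, k1⟩ hk
  have h3 : g * A ∈ LA F hn := RG_le (fun i hi a => sy_mem (P := PA hn) (Q := QA hn) hi.2 a)
    (fun i j hij a => sx_mem (P := PA hn) (Q := QA hn) ⟨hij.1.2, hij.2.2⟩ a) key
  have h4 : A = g⁻¹ * (g * A) := by group
  rw [h4]
  exact mul_mem (inv_mem hgM) h3

/-- an element which fixes `e_1` and commutes with `x_12(1)` -/
theorem exists_e1 (hn : 3 ≤ n) {A : Sy n F} (h0 : rho n F A (be n F (Sum.inl (c0 hn))) = be n F (Sum.inl (c0 hn)))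
    (h : Commute A (zz hn (1 : F) 0)) : ∃ c : F, rho n F A (be n F (Sum.inl (c1 hn))) =
      c • be n F (Sum.inl (c0 hn)) + (1 : F) • be n F (Sum.inl (c1 hn)) := by
  have h01 := c01 hn
  have h1 : rho n F A (rho n F (zz hn 1 0) (be n F (Sum.inr (c0 hn)))) =
      rho n F (zz hn 1 0) (rho n F A (be n F (Sum.inr (c0 hn)))) := by rw [← act_mul, ← act_mul, h.eq]
  have e1 : rho n F A (be n F (Sum.inr (c0 hn))) (Sum.inr (c0 hn)) = 1 := by
    rw [coord_of_fix (by simpa using h0)]; simp [be_apply]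
  rw [rho_zz, rho_zz, e1] at h1
  have e2 : be n F (Sum.inr (c0 hn)) (Sum.inr (c1 hn)) = 0 := by simp [be_apply, h01.symm]
  have e3 : be n F (Sum.inr (c0 hn)) (Sum.inr (c0 hn)) = 1 := by simp [be_apply]
  simp only [e2, e3, mul_zero, mul_one, add_zero, zero_smul, one_mul, one_smul] at h1
  rw [(SI.of_rho A).add, add_assoc] at h1
  refine ⟨rho n F A (be n F (Sum.inr (c0 hn))) (Sum.inr (c1 hn)), ?_⟩
  rw [one_smul]
  exact add_left_cancel h1

theorem sp_mem_LB (hn : 3 ≤ n) (t : F) : sx (Sum.inl (c0 hn)) (Sum.inr (c1 hn)) t ∈ LB F hn :=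
  sx_mem (P := PM hn) (Q := QB hn) (Or.inr (Or.inl ⟨rfl, rfl⟩)) t

theorem sm_mem_LB (hn : 3 ≤ n) (t : F) : sx (Sum.inr (c0 hn)) (Sum.inl (c1 hn)) t ∈ LB F hn :=
  sx_mem (P := PM hn) (Q := QB hn) (Or.inr (Or.inr ⟨rfl, rfl⟩)) t

theorem sp_act (hn : 3 ≤ n) (t x y : F) : rho n F (sx (Sum.inl (c0 hn)) (Sum.inr (c1 hn)) t)
    (x • be n F (Sum.inl (c0 hn)) + y • be n F (Sum.inl (c1 hn))) =
      (x + t * y) • be n F (Sum.inl (c0 hn)) + y • be n F (Sum.inl (c1 hn)) :=
  rho_sx_pair (dj_lr (c01 hn)) t x y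

theorem sm_act (hn : 3 ≤ n) (t x y : F) : rho n F (sx (Sum.inr (c0 hn)) (Sum.inl (c1 hn)) t)
    (x • be n F (Sum.inl (c0 hn)) + y • be n F (Sum.inl (c1 hn))) =
      x • be n F (Sum.inl (c0 hn)) + (y + t * x) • be n F (Sum.inl (c1 hn)) :=
  rho_sx_pair' (dj_lr (c01 hn)) t x y

/-- `LB` is transitive on the nonzero vectors of `⟨e_1, e_2⟩` -/
theorem exists_LB (hn : 3 ≤ n) {w : Ix n → F} (hw : w ∈ W2 F hn) (h : w ≠ 0) :
    ∃ g ∈ LB F hn, rho n F g w = be n F (Sum.inl (c0 hn)) := by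
  obtain ⟨x, y, rfl⟩ := (mem_W2 hn).1 hw
  have key : ∀ x y : F, y ≠ 0 → ∃ g ∈ LB F hn, rho n F g
      (x • be n F (Sum.inl (c0 hn)) + y • be n F (Sum.inl (c1 hn))) = be n F (Sum.inl (c0 hn)) := by
    intro x y hy
    refine ⟨_, mul_mem (sm_mem_LB hn y) (sp_mem_LB hn ((1 + x) * y⁻¹)), ?_⟩
    have e1 : x + (1 + x) * y⁻¹ * y = 1 := by
      rw [mul_assoc, inv_mul_cancel₀ hy]
      linear_combination x * (two0 : (2 : F) = 0)
    rw [act_mul, sp_act, e1, sm_act, mul_one, CharTwo.add_self_eq_zero, zero_smul, add_zero, one_smul]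
  by_cases hy : y = 0
  · subst hy
    have hx : x ≠ 0 := by
      rintro rfl
      exact h (by rw [zero_smul, zero_smul, add_zero])
    obtain ⟨g, hg, e⟩ := key x (0 + 1 * x) (by rwa [zero_add, one_mul])
    exact ⟨_, mul_mem hg (sm_mem_LB hn 1), by rw [act_mul, sm_act, e]⟩
  · exact key x y hy

/-- **the centralizer of `x_12(1)` is `LB`** -/
theorem mem_LB (hn : 3 ≤ n) {A : Sy n F} (h : Commute A (zz hn (1 : F) 0)) : A ∈ LB F hn := by
  obtain ⟨g, hg, eg⟩ := exists_LB hn ((pres_W2 hn h).1 _ (be0_mem hn)) ((SI.of_rho A).ne (be_ne _))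
  have h1 : Commute (g * A) (zz hn (1 : F) 0) := (LB_comm hn hg 1).mul_left h
  have h0 : rho n F (g * A) (be n F (Sum.inl (c0 hn))) = be n F (Sum.inl (c0 hn)) := by rw [act_mul, eg]
  obtain ⟨c, hc⟩ := exists_e1 hn h0 h1
  have h2 : sx (Sum.inl (c0 hn)) (Sum.inr (c1 hn)) c * (g * A) ∈ LM F hn := by
    refine mem_LM' hn ?_ ?_
    · rw [act_mul, h0]
      have := sp_act hn c 1 0
      rwa [mul_zero, add_zero, zero_smul, add_zero, one_smul] at this
    · rw [act_mul, hc, sp_act, mul_one, CharTwo.add_self_eq_zero, zero_smul, zero_add, one_smul]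
  have e : A = g⁻¹ * ((sx (Sum.inl (c0 hn)) (Sum.inr (c1 hn)) c)⁻¹ *
      (sx (Sum.inl (c0 hn)) (Sum.inr (c1 hn)) c * (g * A))) := by group
  rw [e]
  exact mul_mem (inv_mem hg) (mul_mem (inv_mem (sp_mem_LB hn c)) (LM_le_LB hn h2))

/-- **the centralizer of `x_12(1) y_1(1)` is `LM X_{1,-2}`** -/
theorem mem_LM [Finite F] (hn : 3 ≤ n) {A : Sy n F} (h : Commute A (zz hn (1 : F) 1)) :
    ∃ t : F, A * sx (Sum.inl (c0 hn)) (Sum.inr (c1 hn)) t ∈ LM F hn := by
  obtain ⟨h1, h2⟩ := (comm_ab_iff hn one_ne_zero one_ne_zero).1 h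
  have h0 := (comm_b_iff hn one_ne_zero).1 h2
  obtain ⟨c, hc⟩ := exists_e1 hn h0 h1
  refine ⟨c, mem_LM' hn ?_ ?_⟩
  · rw [act_mul]
    have := sp_act hn c 1 0
    rw [mul_zero, add_zero, zero_smul, add_zero, one_smul] at this
    rw [this, h0]
  · rw [act_mul]
    have := sp_act hn c 0 1
    rw [mul_one, zero_add, zero_smul, zero_add, one_smul] at this
    rw [this, (SI.of_rho A).add, (SI.of_rho A).smul, h0, hc, one_smul]
    show c • _ + (c • _ + _) = _
    rw [← add_assoc, ← add_smul, CharTwo.add_self_eq_zero, zero_smul, zero_add]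

end Cfsg.Agent.OddHalf.D4.SpN.Loc
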