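import Cfsg.Agent.OddHalf.D4.SpN.Kf
import Cfsg.Agent.OddHalf.D4.SpN.LocGen

/-!
# ODD, D4, row `Sp_2n(q)`, `n ≥ 3`, `q ≥ 4` even: the fields `Rt` of the facts on `K` (helper503; bb ODD #16004, part T2a)

In `Sy n F`: `S = Up`, `X = Zz`, `(X_l, P_l) = (Y1, LA)`, `(X_s, P_s) = (X12, LB)`, `A = A0`.

* `sh_zz` : the torus on `Zz`;
* `QA1` : the elements fixing `e_1` and trivial on `e_1^⊥ / ⟨e_1⟩`;
* `rtA`, `rtB` : `Rt ⊤ Up Zz Y1 LA A0`, `Rt ⊤ Up Zz X12 LB A0`, from the facts `LocX`.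
-/

set_option autoImplicit false

namespace Cfsg.Agent.OddHalf.D4.SpN.Rts

open Cfsg Cfsg.Agent.ClassicalGeometry.SympBasic Cfsg.Agent.ClassicalGeometry.SympAutSemi
open Cfsg.Agent.OddHalf.SpN Cfsg.Agent.OddHalf.SpN.Out Cfsg.Agent.OddHalf.D4.SpN.Loc Cfsg.Agent.OddHalf.D4.SpN.Kf
open scoped Matrix commutatorElement

variable {n : ℕ} {F : Type*} [Field F]

theorem ev_inv (lam : Fin n → Fˣ) (k : Ix n) : ev lam⁻¹ k = (ev lam k)⁻¹ := by
  rcases k with k | k <;> simp [ev]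

theorem sh_inv (lam : Fin n → Fˣ) : (sh lam : Sy n F)⁻¹ = sh lam⁻¹ := (map_inv _ _).symm

theorem sh_inv_apply (lam : Fin n → Fˣ) (v : Ix n → F) (k : Ix n) :
    rho n F (sh lam)⁻¹ v k = (ev lam k : F)⁻¹ * v k := by
  rw [sh_inv, rho_sh, ev_inv, Units.val_inv_eq_inv_val]

/-- the torus on the basis vectors -/
theorem sh_be (lam : Fin n → Fˣ) (i : Ix n) : rho n F (sh lam) (be n F i) = (ev lam i : F) • be n F i := by
  ext k
  rw [rho_sh, Pi.smul_apply, smul_eq_mul, be_apply]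
  by_cases h : k = i
  · rw [h]
  · rw [if_neg h, mul_zero, mul_zero]

variable [CharP F 2]

/-- **the torus on `Zz`** -/
theorem sh_zz (hn : 3 ≤ n) (lam : Fin n → Fˣ) (a b : F) :
    sh lam * zz hn a b * (sh lam)⁻¹ = zz hn ((lam (c0 hn) : F) * lam (c1 hn) * a) ((lam (c0 hn) : F) ^ 2 * b) := by
  apply rho_injective
  ext v k
  have h01 := c01 hn
  have e0 : (ev lam (Sum.inr (c0 hn)) : F)⁻¹ = lam (c0 hn) := by simp [ev]
  have e1 : (ev lam (Sum.inr (c1 hn)) : F)⁻¹ = lam (c1 hn) := by simp [ev]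
  have e2 : (ev lam (Sum.inl (c0 hn)) : F) = lam (c0 hn) := rfl
  have e3 : (ev lam (Sum.inl (c1 hn)) : F) = lam (c1 hn) := rfl
  rw [act_mul, act_mul, rho_sh, rho_zz, rho_zz]
  simp only [Pi.add_apply, Pi.smul_apply, smul_eq_mul, sh_inv_apply, be_apply, e0, e1]
  have h1 : (ev lam k : F) * ((ev lam k : F)⁻¹ * v k) = v k := by
    rw [← mul_assoc, mul_inv_cancel₀ (ev lam k).ne_zero, one_mul]
  by_cases k0 : k = Sum.inl (c0 hn)
  · have k1 : k ≠ Sum.inl (c1 hn) := by rw [k0]; simpa using h01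
    rw [if_pos k0, if_neg k1, mul_add, mul_add, h1, k0, e2]; ring
  · by_cases k1 : k = Sum.inl (c1 hn)
    · rw [if_neg k0, if_pos k1, mul_add, mul_add, h1, k1, e3]; ring
    · rw [if_neg k0, if_neg k1, mul_add, mul_add, h1]; ring

omit [CharP F 2] in
/-- an element of the field other than `0`, `1` -/
theorem exists_unit [Finite F] (h4 : 4 ≤ Nat.card F) : ∃ t : Fˣ, (t : F) ≠ 1 := by
  classical
  by_contra h
  push Not at h
  have h1 : ∀ x : F, x = 0 ∨ x = 1 := fun x => by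
    by_cases h0 : x = 0
    · exact Or.inl h0
    · exact Or.inr (h (Units.mk0 x h0))
  have h2 : Nat.card F ≤ Nat.card Bool := by
    refine Nat.card_le_card_of_injective (fun x : F => decide (x = 0)) fun x y e => ?_
    rcases h1 x with rfl | rfl <;> rcases h1 y with rfl | rfl
    · rfl
    · simp at e
    · simp at e
    · rfl
  rw [Nat.card_eq_fintype_card (α := Bool), Fintype.card_bool] at h2
  omega

omit [CharP F 2] in
theorem zero_of_mul {t a : F} (ht : t ≠ 1) (h : t * a = a) : a = 0 := by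
  by_contra ha
  exact ht (mul_right_cancel₀ ha (by rw [h, one_mul]))

theorem sq_ne_one {t : F} (ht : t ≠ 1) : t ^ 2 ≠ 1 := fun h => ht (eq_one_of_sq (by rw [← pow_two]; exact h))

variable [Finite F] {p : ℕ}

omit [Finite F] in
theorem sq_ne {t : F} (ht : t ≠ 1) {a : F} (h : t ^ 2 * a = a) : a = 0 := zero_of_mul (sq_ne_one ht) h

/-! ### membership -/

theorem fix_Up (hn : 3 ≤ n) {A : Sy n F} (hA : A ∈ Up n F) :
    rho n F A (be n F (Sum.inl (c0 hn))) = be n F (Sum.inl (c0 hn)) :=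
  (comm_b_iff hn one_ne_zero).1 (comm_Z hn hA 0 1)

theorem Up_le_LA (hn : 3 ≤ n) : Up n F ≤ LA F hn := fun _ hA => mem_LA hn (fix_Up hn hA)

theorem Up_le_LB (hn : 3 ≤ n) : Up n F ≤ LB F hn := fun _ hA => mem_LB hn (comm_Z hn hA 1 0)

theorem mem_LA_iff (hn : 3 ≤ n) {A : Sy n F} :
    A ∈ LA F hn ↔ rho n F A (be n F (Sum.inl (c0 hn))) = be n F (Sum.inl (c0 hn)) :=
  ⟨fun h => (comm_b_iff hn one_ne_zero).1 (LA_comm hn h 1), mem_LA hn⟩

omit [Finite F] in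
theorem mem_LB_iff (hn : 3 ≤ n) {A : Sy n F} : A ∈ LB F hn ↔ Commute A (zz hn (1 : F) 0) :=
  ⟨fun h => LB_comm hn h 1, mem_LB hn⟩

omit [CharP F 2] [Finite F] in
theorem sh_fix0 (hn : 3 ≤ n) {lam : Fin n → Fˣ} (h0 : lam (c0 hn) = 1) :
    rho n F (sh lam) (be n F (Sum.inl (c0 hn))) = be n F (Sum.inl (c0 hn)) := by
  rw [sh_be]
  have e2 : ev lam (Sum.inl (c0 hn)) = lam (c0 hn) := rfl
  rw [e2, h0, Units.val_one, one_smul]

omit [Finite F] in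
theorem sh_mem_LA (hn : 3 ≤ n) {lam : Fin n → Fˣ} (h0 : lam (c0 hn) = 1) : sh lam ∈ LA F hn := mem_LA hn (sh_fix0 hn h0)

omit [Finite F] in
theorem sh_mem_LB (hn : 3 ≤ n) {lam : Fin n → Fˣ} (h : lam (c0 hn) * lam (c1 hn) = 1) : sh lam ∈ LB F hn := by
  refine mem_LB hn ?_
  have h1 := sh_zz hn lam (1 : F) 0
  have h2 : (lam (c0 hn) : F) * lam (c1 hn) = 1 := by rw [← Units.val_mul, h, Units.val_one]
  rw [h2, one_mul, mul_zero] at h1
  exact mul_inv_eq_iff_eq_mul.1 h1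

omit [Finite F] in
theorem AP_A (hn : 3 ≤ n) : A0 hn F p ≤ LA F hn := by
  rintro _ ⟨lam, h0, -, -, rfl⟩
  exact sh_mem_LA hn h0

omit [Finite F] in
theorem AP_B (hn : 3 ≤ n) : A0 hn F p ≤ LB F hn := by
  rintro _ ⟨lam, h0, h1, -, rfl⟩
  exact sh_mem_LB hn (by rw [h0, h1, one_mul])

/-! ### `tor` -/

theorem tor_A (hn : 3 ≤ n) (h4 : 4 ≤ Nat.card F) : ∃ y ∈ LA F hn, (∀ x ∈ Zz hn, y * x * y⁻¹ ∈ Zz hn) ∧
    ∀ x ∈ Zz hn, y * x = x * y → x ∈ Y1 hn := by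
  classical
  obtain ⟨t, ht⟩ := exists_unit h4
  have h01 := c01 hn
  set lam : Fin n → Fˣ := Function.update 1 (c1 hn) t with hlam
  have l0 : lam (c0 hn) = 1 := by rw [hlam, Function.update_of_ne h01]; rfl
  have l1 : lam (c1 hn) = t := by rw [hlam, Function.update_self]
  refine ⟨sh lam, sh_mem_LA hn l0, ?_, ?_⟩
  · rintro _ ⟨a, b, rfl⟩
    rw [sh_zz]
    exact ⟨_, _, rfl⟩
  · rintro _ ⟨a, b, rfl⟩ hc
    have h1 := sh_zz hn lam a b
    rw [hc, mul_inv_cancel_right] at h1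
    obtain ⟨h2, -⟩ := zz_inj hn h1
    rw [l0, l1, Units.val_one, one_mul] at h2
    rw [zero_of_mul ht h2.symm]
    exact ⟨b, rfl⟩

theorem tor_B (hn : 3 ≤ n) (h4 : 4 ≤ Nat.card F) : ∃ y ∈ LB F hn, (∀ x ∈ Zz hn, y * x * y⁻¹ ∈ Zz hn) ∧
    ∀ x ∈ Zz hn, y * x = x * y → x ∈ X12 hn := by
  classical
  obtain ⟨t, ht⟩ := exists_unit h4
  have h01 := c01 hn
  set lam : Fin n → Fˣ := Function.update (Function.update 1 (c1 hn) t⁻¹) (c0 hn) t with hlam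
  have l0 : lam (c0 hn) = t := by rw [hlam, Function.update_self]
  have l1 : lam (c1 hn) = t⁻¹ := by rw [hlam, Function.update_of_ne h01.symm, Function.update_self]
  refine ⟨sh lam, sh_mem_LB hn (by rw [l0, l1, mul_inv_cancel]), ?_, ?_⟩
  · rintro _ ⟨a, b, rfl⟩
    rw [sh_zz]
    exact ⟨_, _, rfl⟩
  · rintro _ ⟨a, b, rfl⟩ hc
    have h1 := sh_zz hn lam a b
    rw [hc, mul_inv_cancel_right] at h1
    obtain ⟨-, h2⟩ := zz_inj hn h1
    rw [l0] at h2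
    rw [sq_ne ht h2.symm]
    exact ⟨a, rfl⟩

/-! ### `mov` -/

omit [Finite F] in
/-- `e_1^⊥` is preserved by the elements fixing `e_1` -/
theorem perp_act {g : Sy n F} {i : Ix n} (h : rho n F g (be n F i) = be n F i) {u : Ix n → F} (hu : u (neg i) = 0) :
    rho n F g u (neg i) = 0 := by
  rw [coord_of_fix (by rwa [SpN.neg_neg]), hu]

omit [Finite F] [CharP F 2] in
theorem act_inv' (g : Sy n F) (v : Ix n → F) : rho n F g (rho n F g⁻¹ v) = v := by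
  rw [← act_mul, mul_inv_cancel, act_one]

/-- the elements fixing `e_1` and trivial on `e_1^⊥ / ⟨e_1⟩` -/
def QA1 (F : Type*) [Field F] (hn : 3 ≤ n) : Subgroup (Sy n F) where
  carrier := {g | rho n F g (be n F (Sum.inl (c0 hn))) = be n F (Sum.inl (c0 hn)) ∧
    ∀ u : Ix n → F, u (Sum.inr (c0 hn)) = 0 → ∃ c : F, rho n F g u = u + c • be n F (Sum.inl (c0 hn))}
  mul_mem' := by
    rintro A B ⟨hA1, hA2⟩ ⟨hB1, hB2⟩
    refine ⟨by rw [act_mul, hB1, hA1], fun u hu => ?_⟩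
    obtain ⟨c, hc⟩ := hA2 u hu
    obtain ⟨d, hd⟩ := hB2 u hu
    refine ⟨c + d, ?_⟩
    rw [act_mul, hd, (SI.of_rho A).add, (SI.of_rho A).smul, hA1, hc, add_smul, add_assoc]; rfl
  one_mem' := ⟨act_one _, fun u _ => ⟨0, by rw [act_one, zero_smul, add_zero]⟩⟩
  inv_mem' := by
    rintro A ⟨hA1, hA2⟩
    refine ⟨act_inv hA1, fun u hu => ?_⟩
    obtain ⟨c, hc⟩ := hA2 u hu
    refine ⟨-c, act_inv ?_⟩
    rw [(SI.of_rho A).add, (SI.of_rho A).smul, hA1, hc]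
    show u + c • _ + (-c) • _ = u
    rw [neg_smul, add_neg_cancel_right]

omit [CharP F 2] in
theorem QA1_le_Up (hn : 3 ≤ n) : QA1 F hn ≤ Up n F := by
  rintro A ⟨hA1, hA2⟩
  have key : ∀ i : Fin n, ∃ c : F, rho n F A (be n F (Sum.inl i)) =
      be n F (Sum.inl i) + c • be n F (Sum.inl (c0 hn)) := fun i => hA2 _ (by rw [be_apply, if_neg (by simp)])
  refine ⟨fun i => ?_, fun i j hij => ?_, fun i j => ?_⟩
  · by_cases h : i = c0 hn
    · rw [h, hA1, be_apply, if_pos rfl]; rfl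
    · obtain ⟨c, hc⟩ := key i
      rw [hc, Pi.add_apply, Pi.smul_apply, be_apply, be_apply, if_pos rfl, if_neg (by simpa using h), smul_zero,
        add_zero]; rfl
  · obtain ⟨c, hc⟩ := key i
    have h1 : j ≠ c0 hn := by
      rintro rfl
      exact absurd (show i.1 < 0 from hij) (by omega)
    rw [hc, Pi.add_apply, Pi.smul_apply, be_apply, be_apply, if_neg (by simpa using hij.ne'), if_neg (by simpa using h1),
      smul_zero, add_zero]
  · obtain ⟨c, hc⟩ := key i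
    rw [hc, Pi.add_apply, Pi.smul_apply, be_apply, be_apply, if_neg (by simp), if_neg (by simp), smul_zero, add_zero]

omit [Finite F] in
theorem QA1_norm (hn : 3 ≤ n) {y g : Sy n F}
    (hy : rho n F y (be n F (Sum.inl (c0 hn))) = be n F (Sum.inl (c0 hn))) (hg : g ∈ QA1 F hn) :
    y * g * y⁻¹ ∈ QA1 F hn := by
  obtain ⟨h1, h2⟩ := hg
  refine ⟨by rw [act_mul, act_mul, act_inv hy, h1, hy], fun u hu => ?_⟩
  obtain ⟨c, hc⟩ := h2 (rho n F y⁻¹ u) (perp_act (i := Sum.inl (c0 hn)) (act_inv hy) hu)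
  refine ⟨c, ?_⟩
  rw [act_mul, act_mul, hc, (SI.of_rho y).add, (SI.of_rho y).smul, hy, act_inv']; rfl

/-- `h` with `h = 1` on `e_1^⊥ / ⟨e_1⟩` -/
theorem mov_A (hn : 3 ≤ n) (h4 : 4 ≤ Nat.card F) : ∃ h ∈ (⊤ : Subgroup (Sy n F)), ∃ V ≤ LA F hn, IsPGroup 2 ↥V ∧
    (∀ y ∈ LA F hn, ∀ v ∈ V, y * v * y⁻¹ ∈ V) ∧ (∀ y ∈ LA F hn, h * y * h⁻¹ * y⁻¹ ∈ V) ∧
    (∀ x ∈ Y1 hn, h * x * h⁻¹ ∈ Y1 hn) ∧ ∀ x ∈ Y1 hn, h * x = x * h → x = 1 := by
  classical
  obtain ⟨t, ht⟩ := exists_unit h4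
  set lam : Fin n → Fˣ := Function.update 1 (c0 hn) t with hlam
  have l0 : lam (c0 hn) = t := by rw [hlam, Function.update_self]
  have l1 : ∀ i, i ≠ c0 hn → lam i = 1 := fun i hi => by rw [hlam, Function.update_of_ne hi]; rfl
  have e0 : ∀ k : Ix n, k ≠ Sum.inl (c0 hn) → k ≠ Sum.inr (c0 hn) → ev lam k = 1 := by
    rintro (k | k) h1 h2
    · exact l1 k (by simpa using h1)
    · show (lam k)⁻¹ = 1
      rw [l1 k (by simpa using h2), inv_one]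
  have hb : rho n F (sh lam) (be n F (Sum.inl (c0 hn))) = (t : F) • be n F (Sum.inl (c0 hn)) := by
    rw [sh_be]
    have : ev lam (Sum.inl (c0 hn)) = t := l0
    rw [this]
  -- action of the torus on `e_1^⊥`
  have act : ∀ (mu : Fin n → Fˣ), (∀ k : Ix n, k ≠ Sum.inl (c0 hn) → k ≠ Sum.inr (c0 hn) → ev mu k = 1) →
      ∀ u : Ix n → F, u (Sum.inr (c0 hn)) = 0 → ∃ c : F, rho n F (sh mu) u = u + c • be n F (Sum.inl (c0 hn)) := by
    intro mu hmu u hu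
    refine ⟨(ev mu (Sum.inl (c0 hn)) : F) * u (Sum.inl (c0 hn)) - u (Sum.inl (c0 hn)), ?_⟩
    ext k
    rw [rho_sh, Pi.add_apply, Pi.smul_apply, smul_eq_mul, be_apply]
    by_cases k0 : k = Sum.inl (c0 hn)
    · rw [k0, if_pos rfl]; ring
    · rw [if_neg k0, mul_zero, add_zero]
      by_cases k1 : k = Sum.inr (c0 hn)
      · rw [k1, hu, mul_zero]
      · rw [hmu k k0 k1, Units.val_one, one_mul]
  have e0' : ∀ k : Ix n, k ≠ Sum.inl (c0 hn) → k ≠ Sum.inr (c0 hn) → ev lam⁻¹ k = 1 := fun k h1 h2 => by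
    rw [ev_inv, e0 k h1 h2, inv_one]
  refine ⟨sh lam, trivial, QA1 F hn, (QA1_le_Up hn).trans (Up_le_LA hn), isPGroup_Up.to_le (QA1_le_Up hn), ?_, ?_, ?_, ?_⟩
  · exact fun y hy v hv => QA1_norm hn ((mem_LA_iff hn).1 hy) hv
  · intro y hy
    have hy' := (mem_LA_iff hn).1 hy
    have hb' : rho n F (sh lam)⁻¹ (be n F (Sum.inl (c0 hn))) = (t : F)⁻¹ • be n F (Sum.inl (c0 hn)) := by
      refine act_inv ?_
      rw [(SI.of_rho _).smul, hb, smul_smul]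
      show ((t : F)⁻¹ * t) • _ = _
      rw [inv_mul_cancel₀ t.ne_zero, one_smul]
    refine ⟨?_, fun u hu => ?_⟩
    · rw [act_mul, act_mul, act_mul, act_inv hy', hb', (SI.of_rho _).smul, (SI.of_rho _).smul, hy', hb, smul_smul]
      show ((t : F)⁻¹ * t) • _ = _
      rw [inv_mul_cancel₀ t.ne_zero, one_smul]
    · have h1 : rho n F y⁻¹ u (Sum.inr (c0 hn)) = 0 := perp_act (i := Sum.inl (c0 hn)) (act_inv hy') hu
      obtain ⟨c, hc⟩ := act lam⁻¹ e0' _ h1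
      obtain ⟨d, hd⟩ := act lam e0 u hu
      rw [← sh_inv] at hc
      refine ⟨d + c * t, ?_⟩
      rw [act_mul, act_mul, act_mul, hc, (SI.of_rho y).add, (SI.of_rho y).smul, hy', act_inv', (SI.of_rho _).add,
        (SI.of_rho _).smul, hb, hd, smul_smul, add_smul, add_assoc]
      rfl
  · rintro _ ⟨b, rfl⟩
    rw [sh_zz, mul_zero]
    exact ⟨_, rfl⟩
  · rintro _ ⟨b, rfl⟩ hc
    have h1 := sh_zz hn lam 0 b
    rw [hc, mul_inv_cancel_right] at h1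
    obtain ⟨-, h2⟩ := zz_inj hn h1
    rw [l0] at h2
    rw [sq_ne ht h2.symm, zz_zero]

theorem mov_B (hn : 3 ≤ n) (h4 : 4 ≤ Nat.card F) : ∃ h ∈ (⊤ : Subgroup (Sy n F)), ∃ V ≤ LB F hn, IsPGroup 2 ↥V ∧
    (∀ y ∈ LB F hn, ∀ v ∈ V, y * v * y⁻¹ ∈ V) ∧ (∀ y ∈ LB F hn, h * y * h⁻¹ * y⁻¹ ∈ V) ∧
    (∀ x ∈ X12 hn, h * x * h⁻¹ ∈ X12 hn) ∧ ∀ x ∈ X12 hn, h * x = x * h → x = 1 := by
  classical
  obtain ⟨t, ht⟩ := exists_unit h4
  have h01 := c01 hn
  set lam : Fin n → Fˣ := Function.update (Function.update 1 (c1 hn) t) (c0 hn) t with hlam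
  have l0 : lam (c0 hn) = t := by rw [hlam, Function.update_self]
  have l1 : lam (c1 hn) = t := by rw [hlam, Function.update_of_ne h01.symm, Function.update_self]
  have l2 : ∀ i, i ≠ c0 hn → i ≠ c1 hn → lam i = 1 := fun i hi hj => by
    rw [hlam, Function.update_of_ne hi, Function.update_of_ne hj]; rfl
  have e0 : ∀ k : Ix n, k ≠ Sum.inl (c0 hn) → k ≠ Sum.inl (c1 hn) → k ≠ Sum.inr (c0 hn) → k ≠ Sum.inr (c1 hn) →
      ev lam k = 1 := by
    rintro (k | k) h1 h2 h3 h4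
    · exact l2 k (by simpa using h1) (by simpa using h2)
    · show (lam k)⁻¹ = 1
      rw [l2 k (by simpa using h3) (by simpa using h4), inv_one]
  have e0' : ∀ k : Ix n, k ≠ Sum.inl (c0 hn) → k ≠ Sum.inl (c1 hn) → k ≠ Sum.inr (c0 hn) → k ≠ Sum.inr (c1 hn) →
      ev lam⁻¹ k = 1 := fun k h1 h2 h3 h4 => by rw [ev_inv, e0 k h1 h2 h3 h4, inv_one]
  -- the torus on `⟨e_1, e_2⟩`
  have hW : ∀ w ∈ W2 F hn, rho n F (sh lam) w = (t : F) • w := by
    intro w hw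
    obtain ⟨a, b, rfl⟩ := (mem_W2 hn).1 hw
    rw [(SI.of_rho _).add, (SI.of_rho _).smul, (SI.of_rho _).smul, sh_be, sh_be]
    have k0 : ev lam (Sum.inl (c0 hn)) = t := l0
    have k1 : ev lam (Sum.inl (c1 hn)) = t := l1
    rw [k0, k1, smul_add, smul_smul, smul_smul, smul_smul, smul_smul]
    show (a * (t : F)) • _ + (b * (t : F)) • _ = _
    rw [mul_comm a, mul_comm b]
  have hW' : ∀ w ∈ W2 F hn, rho n F (sh lam)⁻¹ w = (t : F)⁻¹ • w := by
    intro w hw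
    refine act_inv ?_
    rw [(SI.of_rho _).smul, hW w hw, smul_smul]
    show ((t : F)⁻¹ * t) • _ = _
    rw [inv_mul_cancel₀ t.ne_zero, one_smul]
  have act : ∀ (mu : Fin n → Fˣ), (∀ k : Ix n, k ≠ Sum.inl (c0 hn) → k ≠ Sum.inl (c1 hn) → k ≠ Sum.inr (c0 hn) →
      k ≠ Sum.inr (c1 hn) → ev mu k = 1) → ∀ u : Ix n → F, Pp hn u → rho n F (sh mu) u - u ∈ W2 F hn := by
    intro mu hmu u hu
    refine mem_W2_of hn fun k h1 h2 => ?_
    rw [Pi.sub_apply, rho_sh]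
    by_cases h3 : k = Sum.inr (c0 hn)
    · rw [h3, hu.1, mul_zero, sub_zero]
    by_cases h4 : k = Sum.inr (c1 hn)
    · rw [h4, hu.2, mul_zero, sub_zero]
    rw [hmu k h1 h2 h3 h4, Units.val_one, one_mul, sub_self]
  refine ⟨sh lam, trivial, Q12 F hn, (Q12_le hn).trans (Up_le_LB hn), isPGroup_Up.to_le (Q12_le hn), ?_, ?_, ?_, ?_⟩
  · exact fun y hy v hv => norm_Q12 hn ((mem_LB_iff hn).1 hy) hv
  · intro y hy
    have hc := (mem_LB_iff hn).1 hy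
    obtain ⟨p1, p2⟩ := pres_W2 hn hc
    obtain ⟨q1, q2⟩ := pres_W2 hn hc.inv_left
    refine ⟨fun w hw => ?_, fun u hu => ?_⟩
    · rw [act_mul, act_mul, act_mul, hW' _ (q1 w hw), (SI.of_rho _).smul, (SI.of_rho _).smul, act_inv', hW w hw,
        smul_smul]
      show ((t : F)⁻¹ * t) • _ = _
      rw [inv_mul_cancel₀ t.ne_zero, one_smul]
    · have h1 := act lam⁻¹ e0' _ (q2 u hu)
      rw [← sh_inv] at h1
      set u' := rho n F y⁻¹ u with hu'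
      have h2 : rho n F (sh lam)⁻¹ u' = u' + (rho n F (sh lam)⁻¹ u' - u') := by abel
      set w := rho n F (sh lam)⁻¹ u' - u' with hw
      have h3 : rho n F y u' = u := by rw [hu', act_inv']
      rw [act_mul, act_mul, act_mul, ← hu', h2, (SI.of_rho y).add, h3, (SI.of_rho _).add, hW _ (p1 _ h1)]
      have h4 := act lam e0 u hu
      have h5 : rho n F (sh lam) u + (t : F) • rho n F y w - u = (rho n F (sh lam) u - u) + (t : F) • rho n F y w := by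
        abel
      rw [h5]
      exact add_mem h4 (Submodule.smul_mem _ _ (p1 _ h1))
  · rintro _ ⟨a, rfl⟩
    rw [sh_zz, mul_zero]
    exact ⟨_, rfl⟩
  · rintro _ ⟨a, rfl⟩ hc
    have h1 := sh_zz hn lam a 0
    rw [hc, mul_inv_cancel_right] at h1
    obtain ⟨h2, -⟩ := zz_inj hn h1
    rw [l0, l1, ← pow_two] at h2
    rw [sq_ne ht h2.symm, zz_zero]

/-! ### the structures -/

omit [Finite F] in
theorem ne_A (hn : 3 ≤ n) : (Y1 hn : Subgroup (Sy n F)) ≠ ⊥ := by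
  intro h
  have h1 : zz hn (0 : F) 1 ∈ (Y1 hn : Subgroup (Sy n F)) := ⟨1, rfl⟩
  rw [h, Subgroup.mem_bot, ← zz_zero hn] at h1
  exact one_ne_zero (zz_inj hn h1).2

omit [Finite F] in
theorem ne_B (hn : 3 ≤ n) : (X12 hn : Subgroup (Sy n F)) ≠ ⊥ := by
  intro h
  have h1 : zz hn (1 : F) 0 ∈ (X12 hn : Subgroup (Sy n F)) := ⟨1, rfl⟩
  rw [h, Subgroup.mem_bot, ← zz_zero hn] at h1
  exact one_ne_zero (zz_inj hn h1).1

theorem rtA (hn : 3 ≤ n) (h4 : 4 ≤ Nat.card F)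
    (hloc : ∀ w ∈ (Y1 hn : Subgroup (Sy n F)), w ≠ 1 → LocX ⊤ w (LA F hn)) :
    Rt ⊤ (Up n F) (Zz hn) (Y1 hn) (LA F hn) (A0 hn F p) where
  XX := Y1_le hn
  ne := ne_A hn
  SP := Up_le_LA hn
  loc := hloc
  AP := AP_A hn
  tor := tor_A hn h4
  mov := mov_A hn h4

theorem rtB (hn : 3 ≤ n) (h4 : 4 ≤ Nat.card F)
    (hloc : ∀ w ∈ (X12 hn : Subgroup (Sy n F)), w ≠ 1 → LocX ⊤ w (LB F hn)) :
    Rt ⊤ (Up n F) (Zz hn) (X12 hn) (LB F hn) (A0 hn F p) where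
  XX := X12_le hn
  ne := ne_B hn
  SP := Up_le_LB hn
  loc := hloc
  AP := AP_B hn
  tor := tor_B hn h4
  mov := mov_B hn h4

end Cfsg.Agent.OddHalf.D4.SpN.Rts
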