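import Cfsg.Agent.OddHalf.D4.SpN.LocGen
import Cfsg.Agent.OddHalf.D4.SpN.Kf
import Cfsg.Agent.OddHalf.D4.LineSp

/-!
# ODD, D4, row `Sp_2n(q)`, `n ≥ 3`, `q ≥ 4` even: the Sylow part of the facts on `Sp_2n(F)` (helper401, (T2b) of helper550)

`S = Up n F`, `X = Zz hn`, `H = LM F hn`, `X_l = Y1 hn`, `X_s = X12 hn`, `A = A0 hn F p`.
-/

set_option autoImplicit false
set_option linter.unusedSectionVars false

namespace Cfsg.Agent.OddHalf.D4.SpN.Sylp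

open Cfsg Subgroup Cfsg.Agent.ClassicalGeometry.SympBasic Cfsg.Agent.ClassicalGeometry.SympAutSemi
open Cfsg.Agent.OddHalf.D4 Cfsg.Agent.OddHalf.D4.Basic
open Cfsg.Agent.OddHalf.SpN Cfsg.Agent.OddHalf.SpN.Out
open Cfsg.Agent.OddHalf.D4.SpN.Kf Cfsg.Agent.OddHalf.D4.SpN.Loc Cfsg.Agent.OddHalf.D4.LineSp

variable {n : ℕ} {F : Type*} [Field F] [CharP F 2] [Finite F]

/-- `Up` is a Sylow 2-subgroup -/
theorem syl : IsSyl (Up n F) ⊤ where
  two := isPGroup_Up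
  le := le_top
  max := fun _ hQ hle _ => Up_max hQ hle

theorem XS (hn : 3 ≤ n) : Zz hn ≤ Up n F := Zz_le hn

theorem Xc (hn : 3 ≤ n) : ∀ s ∈ Up n F, ∀ x ∈ (Zz hn : Subgroup (Sy n F)), s * x = x * s :=
  fun s hs _ hx => ((mem_Zz_iff hn).mp hx s hs).eq

omit [Finite F] in
theorem sq (hn : 3 ≤ n) : ∀ x ∈ (Zz hn : Subgroup (Sy n F)), x * x = 1 := by
  rintro _ ⟨a, b, rfl⟩
  rw [zz_mul, CharTwo.add_self_eq_zero, CharTwo.add_self_eq_zero, zz_zero]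

omit [CharP F 2] in
/-- two different nonzero elements -/
theorem exists_c (hq : 4 ≤ Nat.card F) : ∃ c : F, c ≠ 0 ∧ c ≠ 1 := by
  classical
  have : Fintype F := Fintype.ofFinite F
  have h1 : ({0, 1} : Finset F).card < (Finset.univ : Finset F).card := by
    rw [Finset.card_univ, ← Nat.card_eq_fintype_card]
    have := Finset.card_le_two (a := (0 : F)) (b := 1)
    omega
  obtain ⟨c, -, hc⟩ := Finset.exists_mem_notMem_of_card_lt_card h1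
  rw [Finset.mem_insert, Finset.mem_singleton, not_or] at hc
  exact ⟨c, hc.1, hc.2⟩

omit [Finite F] in
theorem one_add_ne {c : F} (hc : c ≠ 1) : (1 : F) + c ≠ 0 := fun h => hc (by
  rw [add_comm, add_eq_zero_iff_eq_neg, CharTwo.neg_eq] at h
  exact h)

/-- `|S : C_S(x)| ≥ 4` -/
theorem line (hn : 3 ≤ n) (hq : 4 ≤ Nat.card F) : ∀ x ∈ Up n F, x * x = 1 → x ∉ (Zz hn : Subgroup (Sy n F)) →
    ∃ a ∈ Up n F, ∃ b ∈ Up n F, a * x ≠ x * a ∧ b * x ≠ x * b ∧ a⁻¹ * b * x ≠ x * (a⁻¹ * b) := by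
  intro x _ _ hx
  obtain ⟨c, hc0, hc1⟩ := exists_c (F := F) hq
  have h1c := one_add_ne hc1
  by_cases h1 : ∀ i : Fin n, Commute x (sy (Sum.inl i) 1)
  · have h2 : ∃ i j : Fin n, i < j ∧ ¬ Commute x (sx (Sum.inl i) (Sum.inr j) 1) := by
      by_contra h
      push Not at h
      exact hx (exists_Z_of_comm hn h1 fun i j hij => h i j hij)
    obtain ⟨i, j, hij, h3⟩ := h2
    have key : ∀ a : F, a ≠ 0 → sx (Sum.inl i) (Sum.inr j) a * x ≠ x * sx (Sum.inl i) (Sum.inr j) a := by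
      intro a ha h
      exact h3 (star_sx (dj_lr hij.ne) ha h 1).symm
    refine ⟨sx (Sum.inl i) (Sum.inr j) 1, sx_mem_Up' hij _, sx (Sum.inl i) (Sum.inr j) c, sx_mem_Up' hij _,
      key 1 one_ne_zero, key c hc0, ?_⟩
    rw [inv_eq_of_mul_eq_one_left (sx_sq _ _ (1 : F)), ← sx_add]
    exact key _ h1c
  · push Not at h1
    obtain ⟨i, h3⟩ := h1
    have key : ∀ a : F, a ≠ 0 → sy (Sum.inl i) a * x ≠ x * sy (Sum.inl i) a := by
      intro a ha h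
      exact h3 (star_sy ha h 1).symm
    refine ⟨sy (Sum.inl i) 1, sy_mem_Up i _, sy (Sum.inl i) c, sy_mem_Up i _,
      key 1 one_ne_zero, key c hc0, ?_⟩
    rw [inv_eq_of_mul_eq_one_left (sy_sq _ (1 : F)), ← sy_add]
    exact key _ h1c

omit [Finite F] in
theorem XH (hn : 3 ≤ n) : Zz hn ≤ LM F hn := by
  rintro _ ⟨a, b, rfl⟩
  exact zz_mem_LM hn a b

omit [Finite F] in
theorem HX (hn : 3 ≤ n) : ∀ y ∈ LM F hn, ∀ x ∈ (Zz hn : Subgroup (Sy n F)), y * x = x * y := by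
  rintro y hy _ ⟨a, b, rfl⟩
  exact (LM_comm hn hy a b).eq

/-- an element of `Up` on `e_1`, `e_2` -/
theorem up_act (hn : 3 ≤ n) {A : Sy n F} (hA : A ∈ Up n F) :
    rho n F A (be n F (Sum.inl (c0 hn))) = be n F (Sum.inl (c0 hn)) ∧
    ∃ μ : F, rho n F A (be n F (Sum.inl (c1 hn))) = be n F (Sum.inl (c1 hn)) + μ • be n F (Sum.inl (c0 hn)) := by
  refine ⟨sub_eq_zero.1 (fl_zero (up_sub hA (fl_be (c0 hn)))), ?_⟩
  have h := up_sub hA (fl_be (c1 hn))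
  refine ⟨(rho n F A (be n F (Sum.inl (c1 hn))) - be n F (Sum.inl (c1 hn))) (Sum.inl (c0 hn)), ?_⟩
  rw [← sub_eq_iff_eq_add']
  ext m
  rcases m with m | m
  · by_cases hm : m = c0 hn
    · subst hm; simp [be_apply]
    · have hm1 : 1 ≤ m.1 := by
        have a0 : m.1 ≠ 0 := fun e => hm (Fin.ext e)
        omega
      rw [h.2 m hm1]
      simp [be_apply, hm]
  · rw [h.1 m]
    simp [be_apply]

/-- `LM` fixes `e_1`, `e_2` -/
theorem LM_act (hn : 3 ≤ n) {A : Sy n F} (hA : A ∈ LM F hn) :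
    rho n F A (be n F (Sum.inl (c0 hn))) = be n F (Sum.inl (c0 hn)) ∧
    rho n F A (be n F (Sum.inl (c1 hn))) = be n F (Sum.inl (c1 hn)) := by
  have key : ∀ k : Fin n, (k = c0 hn ∨ k = c1 hn) → ∀ i, PM hn i → (be n F (Sum.inl k)) (neg i) = 0 := by
    intro k hk i hi
    rw [be_apply, if_neg]
    intro e
    rw [neg_eq_iff, neg_inl] at e
    rcases hk with rfl | rfl
    · exact hi.1 e
    · exact hi.2 e
  exact ⟨fix_RG (key _ (Or.inl rfl)) (fun i j hij => ⟨key _ (Or.inl rfl) i hij.1, key _ (Or.inl rfl) j hij.2⟩) hA,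
    fix_RG (key _ (Or.inr rfl)) (fun i j hij => ⟨key _ (Or.inr rfl) i hij.1, key _ (Or.inr rfl) j hij.2⟩) hA⟩

theorem lin (A : Sy n F) (u v : Ix n → F) (c : F) : rho n F A (u + c • v) = rho n F A u + c • rho n F A v := by
  rw [(SI.of_rho A).add, (SI.of_rho A).smul]; rfl

/-- `S / (S ∩ H)` is elementary abelian -/
theorem ele (hn : 3 ≤ n) : ∀ s ∈ Up n F, s * s ∈ LM F hn := by
  intro s hs
  obtain ⟨h0, μ, h1⟩ := up_act hn hs
  refine mem_LM' hn ?_ ?_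
  · rw [act_mul, h0, h0]
  · rw [act_mul, h1, lin, h0, h1, add_assoc, ← add_smul, CharTwo.add_self_eq_zero, zero_smul, add_zero]

theorem Hn (hn : 3 ≤ n) : ∀ s ∈ Up n F, ∀ y ∈ LM F hn, s * y * s⁻¹ ∈ LM F hn := by
  intro s hs y hy
  obtain ⟨y0, y1⟩ := LM_act hn hy
  obtain ⟨h0, μ, h1⟩ := up_act hn (inv_mem hs)
  refine mem_LM' hn ?_ ?_
  · rw [act_mul, h0, act_mul, y0]
    exact sub_eq_zero.1 (fl_zero (up_sub hs (fl_be (c0 hn))))
  · rw [act_mul, h1, act_mul, lin, y0, y1, ← h1, ← act_mul, mul_inv_cancel, act_one]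

omit [Finite F] in
theorem disj (hn : 3 ≤ n) : ∀ x ∈ (Y1 hn : Subgroup (Sy n F)), x ∈ (X12 hn : Subgroup (Sy n F)) → x = 1 := by
  rintro _ ⟨b, rfl⟩ ⟨a, h⟩
  rw [(zz_inj hn h).2, zz_zero]

omit [Finite F] in
theorem sh_zz (hn : 3 ≤ n) (lam : Fin n → Fˣ) (a b : F) : sh lam * zz hn a b * (sh lam)⁻¹ =
    zz hn (lam (c0 hn) * lam (c1 hn) * a) (lam (c0 hn) ^ 2 * b) := by
  have e : sh lam * zz hn a b * (sh lam)⁻¹ = (sh lam * sx (Sum.inl (c0 hn)) (Sum.inl (c1 hn)) a * (sh lam)⁻¹) *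
      (sh lam * sy (Sum.inl (c0 hn)) b * (sh lam)⁻¹) := by
    rw [zz]; group
  rw [e, sh_sx, sh_sy, zz]; rfl

/-- the torus normalises `Up` -/
theorem sh_Up (lam : Fin n → Fˣ) {s : Sy n F} (hs : s ∈ Up n F) : sh lam * s * (sh lam)⁻¹ ∈ Up n F :=
  (tri_sh lam).conj_mem (SI.of_rho (sh lam)) hs (by rw [map_mul, map_mul, map_inv])

theorem mix (hn : 3 ≤ n) : ∀ x ∈ (Zz hn : Subgroup (Sy n F)), ∀ y ∈ (Zz hn : Subgroup (Sy n F)),
    x ∉ (Y1 hn : Subgroup (Sy n F)) → x ∉ (X12 hn : Subgroup (Sy n F)) →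
    y ∉ (Y1 hn : Subgroup (Sy n F)) → y ∉ (X12 hn : Subgroup (Sy n F)) →
    ∃ k : Sy n F, (∀ s, s ∈ Up n F ↔ k * s * k⁻¹ ∈ Up n F) ∧ k * x * k⁻¹ = y := by
  rintro _ ⟨a, b, rfl⟩ _ ⟨a', b', rfl⟩ h1 h2 h3 h4
  have ha : a ≠ 0 := by rintro rfl; exact h1 ⟨b, rfl⟩
  have hb : b ≠ 0 := by rintro rfl; exact h2 ⟨a, rfl⟩
  have ha' : a' ≠ 0 := by rintro rfl; exact h3 ⟨b', rfl⟩
  have hb' : b' ≠ 0 := by rintro rfl; exact h4 ⟨a', rfl⟩
  obtain ⟨t, ht⟩ := exists_sqrt (b' * b⁻¹)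
  have ht0 : t ≠ 0 := by
    rintro rfl
    rw [mul_zero] at ht
    exact (mul_ne_zero hb' (inv_ne_zero hb)) ht.symm
  have hu0 : a' * (a * t)⁻¹ ≠ 0 := mul_ne_zero ha' (inv_ne_zero (mul_ne_zero ha ht0))
  set lam : Fin n → Fˣ := Function.update (1 : Fin n → Fˣ) (c0 hn) (Units.mk0 t ht0) *
    Function.update (1 : Fin n → Fˣ) (c1 hn) (Units.mk0 _ hu0) with hlam
  have h01 := c01 hn
  have e0 : (lam (c0 hn) : F) = t := by
    rw [hlam, Pi.mul_apply, Function.update_self, Function.update_of_ne h01]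
    simp
  have e1 : (lam (c1 hn) : F) = a' * (a * t)⁻¹ := by
    rw [hlam, Pi.mul_apply, Function.update_self, Function.update_of_ne h01.symm]
    simp
  refine ⟨sh lam, fun s => ⟨fun hs => sh_Up lam hs, fun hs => ?_⟩, ?_⟩
  · have h := sh_Up lam⁻¹ hs
    rw [map_inv] at h
    have e : (sh lam)⁻¹ * (sh lam * s * (sh lam)⁻¹) * (sh lam)⁻¹⁻¹ = s := by group
    rwa [e] at h
  · rw [sh_zz, e0, e1]
    congr 1
    · field_simp
    · rw [pow_two, ht]; field_simp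

omit [CharP F 2] [Finite F] in
theorem pgrp (hn : 3 ≤ n) (p : ℕ) : IsPGroup p ↥(A0 hn F p) := by
  rintro ⟨_, lam, h0, h1, hp, rfl⟩
  refine ⟨1, Subtype.ext ?_⟩
  show (sh lam) ^ p ^ 1 = 1
  rw [pow_one, ← map_pow]
  have e : lam ^ p = 1 := funext hp
  rw [e, map_one]

end Cfsg.Agent.OddHalf.D4.SpN.Sylp
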