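import Cfsg.Agent.OddHalf.D4.SpN.Trans
import Cfsg.Agent.OddHalf.D4.SpN.Amb
import Cfsg.Agent.OddHalf.D4.SpN.Loc
import Cfsg.Agent.OddHalf.D4.SpN.Rts
import Cfsg.Agent.OddHalf.D4.SpN.Sylp
import Cfsg.Agent.OddHalf.D4.SpN.RedFour
import Cfsg.Agent.OddHalf.D4.KPairG
import Cfsg.Agent.OddHalf.D4.Free.Exist

/-!
# ODD, D4, row `Sp_2n(q)`, `n ≥ 3`, `q ≥ 4` even: case (a) (helper550)

* `spI` : the facts on `Sp_2n(F)` (helpers 297, 401, 503);
* **`inp`** : no full pair `(K, L)` has a Sylow 2-subgroup of `K` in `N(L)` (`Free.Inp K`);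
* `innSyl` : (F1) for `Sp_2n(F)`.
-/

set_option autoImplicit false

namespace Cfsg.Agent.OddHalf.D4.SpN.Inst

open Cfsg Subgroup Cfsg.Agent.OddHalf.D4 Cfsg.Agent.OddHalf.D4.Basic Cfsg.Agent.OddHalf.D4.SpN.Kf
open Cfsg.Agent.OddHalf.D4.SpN Cfsg.Agent.OddHalf.D4.SpN.Conf
open Cfsg.Agent.OddHalf.SpN Cfsg.Agent.OddHalf.SpN.Out
open Cfsg.Agent.OddHalf.D4.CommConj (cj mem_cj)

variable {n : ℕ} {F : Type*} [Field F] [Finite F] [CharP F 2]

/-- **the facts on `Sp_2n(F)`** -/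
theorem spI (hn : 3 ≤ n) (hq : 4 ≤ Nat.card F) {p : ℕ} (hp : p.Prime) (hp2 : p ≠ 2) :
    SpI (Up n F) (Zz hn) (LM F hn) (Y1 hn) (X12 hn) (LA F hn) (LB F hn) (A0 hn F p) p where
  syl := Sylp.syl
  XS := Sylp.XS hn
  Xc := Sylp.Xc hn
  sq := Sylp.sq hn
  line := Sylp.line hn hq
  XH := Sylp.XH hn
  HX := Sylp.HX hn
  loc := by
    rintro _ ⟨a, b, rfl⟩ h1 h2
    apply Loc.locM hn (Loc.exists_ne_one hq)
    · rintro rfl
      exact h1 ⟨b, rfl⟩
    · rintro rfl
      exact h2 ⟨a, rfl⟩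
  ele := Sylp.ele hn
  Hn := Sylp.Hn hn
  l := Rts.rtA hn hq (by
    rintro _ ⟨b, rfl⟩ h1
    apply Loc.locA hn (Loc.exists_ne_one hq)
    rintro rfl
    exact h1 (zz_zero hn))
  s := Rts.rtB hn hq (by
    rintro _ ⟨a, rfl⟩ h1
    apply Loc.locB hn (Loc.exists_ne_one hq)
    rintro rfl
    exact h1 (zz_zero hn))
  disj := Sylp.disj hn
  mix := Sylp.mix hn
  prime := hp
  odd := hp2
  pgrp := Sylp.pgrp hn p

omit [CharP F 2] in
/-- an odd prime divisor of `q - 1` -/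
theorem exists_p [CharP F 2] (hq : 4 ≤ Nat.card F) : ∃ p : ℕ, p.Prime ∧ p ≠ 2 ∧ p ∣ Nat.card F - 1 := by
  have := Fintype.ofFinite F
  obtain ⟨k, -, hk⟩ := FiniteField.card F 2
  rw [← Nat.card_eq_fintype_card] at hk
  refine ⟨(Nat.card F - 1).minFac, Nat.minFac_prime (by omega), ?_, Nat.minFac_dvd _⟩
  intro h
  have h1 : 2 ∣ Nat.card F - 1 := by
    have := Nat.minFac_dvd (Nat.card F - 1)
    rwa [h] at this
  have h2 : 2 ∣ Nat.card F := by
    rw [hk]; exact dvd_pow_self 2 k.pos.ne'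
  omega

universe u

/-- **case (a) is impossible** -/
theorem inp (hn : 3 ≤ n) (hq : 4 ≤ Nat.card F) {G : Type u} [Group G] [Finite G] {f : Sy n F →* G}
    (hf : Function.Injective f) (tight : TightAt f.range)
    (even : Even (Nat.card ↥(centralizer (f.range : Set G))))
    (std : ∀ g : G, ¬ ∀ k ∈ f.range, ∀ l ∈ cj g f.range, k * l = l * k) (rk : Rk2 f.range) : Free.Inp f.range := by
  intro L Q U hp S' hS' hS'L
  have := Fintype.ofFinite F
  obtain ⟨p, hpp, hp2, hpd⟩ := exists_p (F := F) hq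
  have hX := SpI.map hf (spI hn hq hpp hp2) tight even (Amb.ctr hn hf) std (Amb.simp hn) (by
    intro y hy hc
    obtain ⟨A, c, hcK, rfl⟩ := Amb.exists_of_Y1 hn hf hy fun z hz => (hc _ (Zz_le hn (Y1_le hn hz))).symm
    refine ⟨c, hcK, A, ?_, (Amb.mem_cK.1 hcK A)⟩
    rw [mem_Zz_iff]
    intro B hB
    apply hf
    rw [map_mul, map_mul]
    have h1 := hc B hB
    have h2 := Amb.mem_cK.1 hcK B
    have h3 : f B * f A * c = f A * f B * c := by
      calc f B * f A * c = f B * (f A * c) := by group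
        _ = f A * c * f B := h1
        _ = f A * (c * f B) := by group
        _ = f A * (f B * c) := by rw [h2]
        _ = _ := by group
    exact mul_right_cancel h3) (Amb.out hn hf) (Amb.cyc hn hf)
  obtain ⟨a, ha, b, hb, ha2, hb2, -, hab⟩ := rk.exists_syl hp.sylQ
  have h4 : ∃ a ∈ Q, ∃ b ∈ Q, a ≠ 1 ∧ b ≠ 1 ∧ a ≠ b := by
    refine ⟨a, ha, b, hb, ?_, ?_, hab⟩
    · rintro rfl
      rw [orderOf_one] at ha2
      exact absurd ha2 (by norm_num)
    · rintro rfl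
      rw [orderOf_one] at hb2
      exact absurd hb2 (by norm_num)
  obtain ⟨hsq, y, hy, hy'⟩ := main hX hp hS' hS'L h4
  refine RedFour.red' hn (by rw [← Nat.card_eq_fintype_card]; exact hq) hf tight (Amb.ctr hn hf) hp.sylQ hsq h4 hpp
    (by rw [← Nat.card_eq_fintype_card]; exact hpd) hy ?_
  rcases hy' with hy' | hy'
  · left
    intro q hq hq1
    obtain ⟨_, ⟨_, ⟨b, rfl⟩, rfl⟩, hx1, e⟩ := hy' q hq hq1
    refine ⟨b, ?_, e⟩
    rintro rfl
    exact hx1 (by rw [zz_zero, map_one])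
  · right
    intro q hq hq1
    obtain ⟨_, ⟨_, ⟨a, rfl⟩, rfl⟩, hx1, e⟩ := hy' q hq hq1
    refine ⟨a, ?_, e⟩
    rintro rfl
    exact hx1 (by rw [zz_zero, map_one])

/-! ### (F1) -/

/-- `Up` as a Sylow 2-subgroup -/
noncomputable def upS (n : ℕ) (F : Type*) [Field F] [Finite F] [CharP F 2] : Sylow 2 (Sy n F) where
  toSubgroup := Up n F
  isPGroup' := isPGroup_Up
  is_maximal' := fun hQ hle => le_antisymm (Up_max hQ hle) hle

theorem innSyl (hn : 3 ≤ n) : KPairG.InnSyl (Sy n F) := by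
  intro S φ _ hφ
  have hfin : Finite (Sy n F) := inferInstance
  have hi : Function.Injective (MulAut.conj : Sy n F →* MulAut (Sy n F)) := by
    have := Amb.simple_Sy (F := F) hn
    rw [injective_iff_map_eq_one]
    intro A hA
    have h1 : A ∈ center (Sy n F) := by
      rw [mem_center_iff]
      intro B
      have h2 : MulAut.conj A B = B := by rw [hA]; rfl
      rw [MulAut.conj_apply, mul_inv_eq_iff_eq_mul] at h2
      exact h2.symm
    rw [center_Sy (by omega)] at h1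
    exact Subgroup.mem_bot.mp h1
  obtain ⟨g, hg⟩ := MulAction.exists_smul_eq (Sy n F) S (upS n F)
  have hmem : ∀ s, s ∈ Up n F ↔ g⁻¹ * s * g ∈ S := by
    intro s
    have h1 : s ∈ Up n F ↔ s ∈ ((g • S : Sylow 2 (Sy n F)) : Subgroup (Sy n F)) := by rw [hg]; rfl
    rw [h1, Sylow.coe_subgroup_smul, Subgroup.mem_pointwise_smul_iff_inv_smul_mem]
    show (MulAut.conj g)⁻¹ s ∈ (S : Subgroup (Sy n F)) ↔ g⁻¹ * s * g ∈ S
    rw [MulAut.conj_inv_apply]
    exact Iff.rfl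
  set ψ : MulAut (Sy n F) := MulAut.conj g * φ * (MulAut.conj g)⁻¹ with hψ
  have hψs : ∀ s ∈ Up n F, ψ s = s := by
    intro s hs
    show g * φ ((MulAut.conj g)⁻¹ s) * g⁻¹ = s
    rw [MulAut.conj_inv_apply, hφ _ ((hmem s).mp hs)]
    group
  have hN : ψ ∈ normalizer ((MulAut.conj : Sy n F →* MulAut (Sy n F)).range : Set (MulAut (Sy n F))) := by
    have hn' : ∀ (θ : MulAut (Sy n F)) (A : Sy n F), θ * MulAut.conj A * θ⁻¹ = MulAut.conj (θ A) := by
      intro θ A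
      ext1 B
      show θ (A * θ⁻¹ B * A⁻¹) = θ A * B * (θ A)⁻¹
      rw [map_mul, map_mul, map_inv]
      congr 2
      exact θ.apply_symm_apply B
    rw [mem_normalizer_iff]
    intro x
    constructor
    · rintro ⟨A, rfl⟩
      exact ⟨ψ A, (hn' ψ A).symm⟩
    · rintro ⟨A, hA⟩
      refine ⟨ψ⁻¹ A, ?_⟩
      rw [← hn' ψ⁻¹ A, hA]; group
  have hc : ∀ A (s : Sy n F), s ∈ Up n F → A = s → (MulAut.conj : Sy n F →* MulAut (Sy n F)) s * ψ = ψ * MulAut.conj s := by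
    intro _ s hs _
    ext1 B
    show s * ψ B * s⁻¹ = ψ (s * B * s⁻¹)
    rw [map_mul, map_mul, map_inv, hψs s hs]
  obtain ⟨c, hcK, _, ⟨z, hz, rfl⟩, e⟩ : ∃ c ∈ centralizer ((MulAut.conj : Sy n F →* MulAut (Sy n F)).range :
      Set (MulAut (Sy n F))), ∃ x ∈ (Zz hn).map (MulAut.conj : Sy n F →* MulAut (Sy n F)), ψ = c * x := by
    obtain ⟨A, c, hcK, e⟩ := Amb.exists_of_Y1 hn hi hN fun z hz => (hc z z (Zz_le hn (Y1_le hn hz)) rfl).symm
    refine ⟨c, hcK, MulAut.conj A, ⟨A, ?_, rfl⟩, by rw [e]; exact Amb.mem_cK.1 hcK A⟩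
    show A ∈ Zz hn
    rw [mem_Zz_iff]
    intro B hB
    apply hi
    rw [map_mul, map_mul]
    have h1 := hc B B hB rfl
    rw [e] at h1
    have h2 := Amb.mem_cK.1 hcK B
    have h3 : MulAut.conj B * MulAut.conj A * c = MulAut.conj A * MulAut.conj B * c := by
      calc MulAut.conj B * MulAut.conj A * c = MulAut.conj B * (MulAut.conj A * c) := by group
        _ = MulAut.conj A * c * MulAut.conj B := h1
        _ = MulAut.conj A * (c * MulAut.conj B) := by group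
        _ = MulAut.conj A * (MulAut.conj B * c) := by rw [h2]
        _ = _ := by group
    exact mul_right_cancel h3
  have hc1 : c = 1 := by
    ext1 B
    have h1 := Amb.mem_cK.1 hcK B
    have h2 : MulAut.conj (c B) = MulAut.conj B := by
      have h3 : MulAut.conj (c B) = c * MulAut.conj B * c⁻¹ := by
        ext1 D
        show c B * D * (c B)⁻¹ = c (B * c⁻¹ D * B⁻¹)
        rw [map_mul, map_mul, map_inv]
        congr 2
        exact (c.apply_symm_apply D).symm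
      rw [h3, ← h1]; group
    exact hi h2
  rw [hc1, one_mul] at e
  have hzU : z ∈ Up n F := Zz_le hn hz
  refine ⟨g⁻¹ * z * g, (hmem z).mp hzU, ?_⟩
  have e2 : φ = (MulAut.conj g)⁻¹ * ψ * MulAut.conj g := by rw [hψ]; group
  rw [e2, e, map_mul, map_mul, map_inv]

end Cfsg.Agent.OddHalf.D4.SpN.Inst
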