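import Cfsg.Agent.OddHalf.SpN.Cent

/-!
# ODD, D4, row `spe`: the subgroup `Sp₄(F)` of `Sp_2n(F)` attached to two indices (helper48)

`em i j : Ix 2 → Ix n` : `±1 ↦ ±i`, `±2 ↦ ±j`.

* `blk h : Sy 2 F →* Sy n F` (`h : Dj i j`), injective, `blk_sx`, `blk_sy`;
* `exists_blk` : an element which fixes the basis vectors `e_k`, `k ≠ ±i, ±j`, is in the range of `blk`.
-/

set_option autoImplicit false
set_option linter.unusedSectionVars false
set_option linter.unusedSimpArgs false

namespace Cfsg.Agent.OddHalf.D4.SpN.Blk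

open Cfsg Cfsg.Agent.ClassicalGeometry.SympBasic Cfsg.Agent.ClassicalGeometry.SympAutSemi
  Cfsg.Agent.OddHalf.SpN
open scoped Matrix

variable {n : ℕ} {F : Type*} [Field F] {i j : Ix n}

/-- the indices `±i, ±j` -/
def em (i j : Ix n) : Ix 2 → Ix n := Sum.elim ![i, j] ![neg i, neg j]

theorem em_neg (l : Ix 2) : em i j (neg l) = neg (em i j l) := by
  rcases l with l | l <;> fin_cases l <;> simp [em]

theorem em_inj (h : Dj i j) : Function.Injective (em i j) := by
  have h1 : neg j ≠ i := fun e => h.2 e.symm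
  have h2 : neg i ≠ j := fun e => h.2 (by rw [← e, neg_neg])
  intro a b
  rcases a with a | a <;> rcases b with b | b <;> fin_cases a <;> fin_cases b <;>
    simp [em, h.1, h.1.symm, h.2, h.2.symm, h1, h2, h1.symm, h2.symm, neg_ne, ne_neg]

theorem em_or (i j k : Ix n) : (∃ l, em i j l = k) ∨ (Dj i k ∧ Dj j k) := by
  by_cases h1 : k = i
  · exact Or.inl ⟨Sum.inl 0, h1.symm⟩
  by_cases h2 : k = j
  · exact Or.inl ⟨Sum.inl 1, h2.symm⟩
  by_cases h3 : k = neg i
  · exact Or.inl ⟨Sum.inr 0, h3.symm⟩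
  by_cases h4 : k = neg j
  · exact Or.inl ⟨Sum.inr 1, h4.symm⟩
  exact Or.inr ⟨⟨Ne.symm h1, fun e => h3 (by rw [e, neg_neg])⟩, ⟨Ne.symm h2, fun e => h4 (by rw [e, neg_neg])⟩⟩

theorem em_ne {k : Ix n} (h1 : Dj i k) (h2 : Dj j k) (l : Ix 2) : em i j l ≠ k := by
  rcases l with l | l <;> fin_cases l
  · exact h1.1
  · exact h2.1
  · intro e
    have e : neg i = k := e
    exact h1.2 (by rw [← e, neg_neg])
  · intro e
    have e : neg j = k := e
    exact h2.2 (by rw [← e, neg_neg])

theorem em_dj (h : Dj i j) {l m : Ix 2} (hl : Dj l m) : Dj (em i j l) (em i j m) :=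
  ⟨fun e => hl.1 (em_inj h e), fun e => hl.2 (em_inj h (by rw [em_neg]; exact e))⟩

/-! ### The form -/

open Classical in
theorem sum_split (h : Dj i j) (f : Ix n → F) :
    ∑ k, f k = ∑ l, f (em i j l) + ∑ k ∈ Finset.univ.filter (fun k => ¬ ∃ l, em i j l = k), f k := by
  rw [← Finset.sum_filter_add_sum_filter_not Finset.univ (fun k => ∃ l, em i j l = k)]
  congr 1
  have e : Finset.univ.filter (fun k => ∃ l, em i j l = k) = Finset.univ.image (em i j) := by
    ext k; simp
  rw [e, Finset.sum_image fun a _ b _ hab => em_inj h hab]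

/-- the coordinates `±i, ±j` -/
def rs (i j : Ix n) (v : Ix n → F) : Ix 2 → F := fun l => v (em i j l)

variable [CharP F 2]

open Classical in
theorem form_split (h : Dj i j) (u v : Ix n → F) : sympForm n F u v = sympForm 2 F (rs i j u) (rs i j v) +
    ∑ k ∈ Finset.univ.filter (fun k => ¬ ∃ l, em i j l = k), u (neg k) * v k := by
  rw [form_eq, form_eq, sum_split h]
  congr 1
  exact Finset.sum_congr rfl fun l _ => by rw [rs, rs, em_neg]

/-! ### The embedding -/

open Classical in
omit [CharP F 2] in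
/-- `A` acts on the coordinates `±i, ±j` -/
noncomputable def bf (i j : Ix n) (A : Sy 2 F) (v : Ix n → F) : Ix n → F :=
  fun k => if h : ∃ l, em i j l = k then rho 2 F A (rs i j v) h.choose else v k

omit [CharP F 2] in
theorem bf_em (h : Dj i j) (A : Sy 2 F) (v : Ix n → F) (l : Ix 2) : bf i j A v (em i j l) = rho 2 F A (rs i j v) l := by
  have h1 : ∃ l', em i j l' = em i j l := ⟨l, rfl⟩
  rw [bf, dif_pos h1, em_inj h h1.choose_spec]

omit [CharP F 2] in
theorem bf_of {k : Ix n} (h1 : Dj i k) (h2 : Dj j k) (A : Sy 2 F) (v : Ix n → F) : bf i j A v k = v k := by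
  have h3 : ¬ ∃ l', em i j l' = k := fun ⟨l, hl⟩ => em_ne h1 h2 l hl
  rw [bf, dif_neg h3]

omit [CharP F 2] in
theorem rs_bf (h : Dj i j) (A : Sy 2 F) (v : Ix n → F) : rs i j (bf i j A v) = rho 2 F A (rs i j v) := by
  ext l
  exact bf_em h A v l

omit [CharP F 2] in
theorem bf_mul (h : Dj i j) (A B : Sy 2 F) (v : Ix n → F) : bf i j A (bf i j B v) = bf i j (A * B) v := by
  ext k
  rcases em_or i j k with ⟨l, rfl⟩ | ⟨h1, h2⟩
  · rw [bf_em h, bf_em h, rs_bf h, map_mul]; rfl
  · rw [bf_of h1 h2, bf_of h1 h2, bf_of h1 h2]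

omit [CharP F 2] in
theorem bf_one (h : Dj i j) (v : Ix n → F) : bf i j (1 : Sy 2 F) v = v := by
  ext k
  rcases em_or i j k with ⟨l, rfl⟩ | ⟨h1, h2⟩
  · rw [bf_em h, map_one]; rfl
  · rw [bf_of h1 h2]

theorem exists_blk' (h : Dj i j) (A : Sy 2 F) : ∃ B : Sy n F, ∀ v, rho n F B v = bf i j A v := by
  let p : Equiv.Perm (Ix n → F) :=
    { toFun := bf i j A
      invFun := bf i j A⁻¹
      left_inv := fun v => by rw [bf_mul h, inv_mul_cancel, bf_one h]
      right_inv := fun v => by rw [bf_mul h, mul_inv_cancel, bf_one h] }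
  obtain ⟨B, hB⟩ := exists_rho_eq (m := n) (F := F) p (fun u v => by
      change bf i j A (u + v) = bf i j A u + bf i j A v
      ext k
      rw [Pi.add_apply]
      rcases em_or i j k with ⟨l, rfl⟩ | ⟨h1, h2⟩
      · rw [bf_em h, bf_em h, bf_em h]
        have e : rs i j (u + v) = rs i j u + rs i j v := rfl
        rw [e, rho_add]; rfl
      · rw [bf_of h1 h2, bf_of h1 h2, bf_of h1 h2]; rfl) (fun a v => by
      change bf i j A (a • v) = a • bf i j A v
      ext k
      rw [Pi.smul_apply]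
      rcases em_or i j k with ⟨l, rfl⟩ | ⟨h1, h2⟩
      · rw [bf_em h, bf_em h]
        have e : rs i j (a • v) = a • rs i j v := rfl
        rw [e, rho_smul]; rfl
      · rw [bf_of h1 h2, bf_of h1 h2]; rfl) (fun u v => by
      change sympForm n F (bf i j A u) (bf i j A v) = _
      classical
      rw [form_split h, form_split h u v, rs_bf h, rs_bf h, sympForm_rho]
      congr 1
      refine Finset.sum_congr rfl fun k hk => ?_
      rw [Finset.mem_filter] at hk
      rcases em_or i j k with h3 | ⟨h1, h2⟩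
      · exact absurd h3 hk.2
      · rw [bf_of h1 h2, bf_of (dj_neg_right.2 h1) (dj_neg_right.2 h2)])
  exact ⟨B, fun v => by rw [hB]; rfl⟩

/-- **`Sp₄(F) → Sp_2n(F)`**, acting on the coordinates `±i, ±j` -/
noncomputable def blk (h : Dj i j) : Sy 2 F →* Sy n F where
  toFun A := Classical.choose (exists_blk' h A)
  map_one' := by
    apply rho_injective
    ext1 v
    rw [Classical.choose_spec (exists_blk' h (1 : Sy 2 F)), map_one, bf_one h]
    rfl
  map_mul' A B := by
    apply rho_injective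
    ext1 v
    rw [map_mul, Equiv.Perm.mul_apply, Classical.choose_spec (exists_blk' h (A * B)),
      Classical.choose_spec (exists_blk' h A), Classical.choose_spec (exists_blk' h B), bf_mul h]

theorem rho_blk (h : Dj i j) (A : Sy 2 F) (v : Ix n → F) : rho n F (blk h A) v = bf i j A v :=
  Classical.choose_spec (exists_blk' h A) v

theorem rho_blk_em (h : Dj i j) (A : Sy 2 F) (v : Ix n → F) (l : Ix 2) :
    rho n F (blk h A) v (em i j l) = rho 2 F A (rs i j v) l := by rw [rho_blk, bf_em h]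

theorem rho_blk_of (h : Dj i j) {k : Ix n} (h1 : Dj i k) (h2 : Dj j k) (A : Sy 2 F) (v : Ix n → F) :
    rho n F (blk h A) v k = v k := by rw [rho_blk, bf_of h1 h2]

/-- the other basis vectors are fixed -/
theorem rho_blk_be (h : Dj i j) {k : Ix n} (h1 : Dj i k) (h2 : Dj j k) (A : Sy 2 F) :
    rho n F (blk h A) (be n F k) = be n F k := by
  ext m
  rcases em_or i j m with ⟨l, rfl⟩ | ⟨h3, h4⟩
  · rw [rho_blk_em]
    have e : rs i j (be n F k) = 0 := by
      ext l'
      rw [rs, be_apply, if_neg (em_ne h1 h2 l')]; rfl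
    rw [e, rho_zero, be_apply, if_neg (em_ne h1 h2 l)]; rfl
  · rw [rho_blk_of h h3 h4]

theorem be_em (h : Dj i j) (l m : Ix 2) : be n F (em i j l) (em i j m) = be 2 F l m := by
  rw [be_apply, be_apply]
  congr 1
  exact propext (em_inj h).eq_iff

theorem be_em_of {k : Ix n} (h1 : Dj i k) (h2 : Dj j k) (l : Ix 2) : be n F (em i j l) k = 0 := by
  rw [be_apply, if_neg fun e => em_ne h1 h2 l e.symm]

theorem blk_sy (h : Dj i j) (l : Ix 2) (a : F) : blk h (sy l a) = sy (em i j l) a := by
  apply rho_injective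
  ext v k
  rw [rho_sy, Pi.add_apply, Pi.smul_apply]
  rcases em_or i j k with ⟨m, rfl⟩ | ⟨h1, h2⟩
  · rw [rho_blk_em, rho_sy, Pi.add_apply, Pi.smul_apply, be_em h, ← em_neg]; rfl
  · rw [rho_blk_of h h1 h2, be_em_of h1 h2, smul_zero, add_zero]

theorem blk_sx (h : Dj i j) {l m : Ix 2} (hl : Dj l m) (a : F) :
    blk h (sx l m a) = sx (em i j l) (em i j m) a := by
  apply rho_injective
  ext v k
  rw [rho_sx (em_dj h hl), Pi.add_apply, Pi.add_apply, Pi.smul_apply, Pi.smul_apply]
  rcases em_or i j k with ⟨r, rfl⟩ | ⟨h1, h2⟩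
  · rw [rho_blk_em, rho_sx hl, Pi.add_apply, Pi.add_apply, Pi.smul_apply, Pi.smul_apply, be_em h, be_em h, ← em_neg,
      ← em_neg]; rfl
  · rw [rho_blk_of h h1 h2, be_em_of h1 h2, be_em_of h1 h2, smul_zero, smul_zero, add_zero, add_zero]

omit [CharP F 2] in
open Classical in
theorem rs_surj (h : Dj i j) (w : Ix 2 → F) : ∃ v : Ix n → F, rs i j v = w :=
  ⟨fun k => if h : ∃ l, em i j l = k then w h.choose else 0, by
    ext l
    have h1 : ∃ l', em i j l' = em i j l := ⟨l, rfl⟩
    rw [rs, dif_pos h1, em_inj h h1.choose_spec]⟩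

theorem blk_injective (h : Dj i j) : Function.Injective (blk (F := F) h) := by
  intro A B hAB
  apply rho_injective
  ext1 w
  obtain ⟨v, rfl⟩ := rs_surj h w
  ext l
  rw [← rho_blk_em h, ← rho_blk_em h, hAB]

/-! ### The range -/

/-- the coordinates of `v` outside `±i, ±j` do not change -/
theorem rho_of_fix {A : Sy n F} (hA : ∀ k, Dj i k → Dj j k → rho n F A (be n F k) = be n F k) {k : Ix n}
    (h1 : Dj i k) (h2 : Dj j k) (v : Ix n → F) : rho n F A v k = v k := by
  have e1 : rho n F A v k = sympForm n F (rho n F A v) (be n F (neg k)) := by rw [form_be, neg_neg]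
  have e2 := hA (neg k) (dj_neg_right.2 h1) (dj_neg_right.2 h2)
  rw [e1, ← e2, sympForm_rho, form_be, neg_neg]

theorem fix_inv {A : Sy n F} (hA : ∀ k, Dj i k → Dj j k → rho n F A (be n F k) = be n F k) :
    ∀ k, Dj i k → Dj j k → rho n F A⁻¹ (be n F k) = be n F k := by
  intro k h1 h2
  have e := hA k h1 h2
  rw [map_inv]
  exact (Equiv.Perm.inv_eq_iff_eq).2 e.symm

/-- extension by zero -/
noncomputable def ex (i j : Ix n) (w : Ix 2 → F) : Ix n → F := ∑ l, w l • be n F (em i j l)

theorem rs_ex (h : Dj i j) (w : Ix 2 → F) : rs i j (ex i j w) = w := by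
  ext m
  rw [rs, ex, Finset.sum_apply, Finset.sum_eq_single m]
  · rw [Pi.smul_apply, be_em h, be_apply, if_pos rfl, smul_eq_mul, mul_one]
  · intro l _ hl
    rw [Pi.smul_apply, be_em h, be_apply, if_neg hl.symm, smul_zero]
  · intro hm
    exact absurd (Finset.mem_univ m) hm

theorem ex_of {k : Ix n} (h1 : Dj i k) (h2 : Dj j k) (w : Ix 2 → F) : ex i j w k = 0 := by
  rw [ex, Finset.sum_apply]
  exact Finset.sum_eq_zero fun l _ => by rw [Pi.smul_apply, be_em_of h1 h2, smul_zero]

theorem ex_rs (h : Dj i j) {v : Ix n → F} (hv : ∀ k, Dj i k → Dj j k → v k = 0) : ex i j (rs i j v) = v := by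
  ext k
  rcases em_or i j k with ⟨l, rfl⟩ | ⟨h1, h2⟩
  · exact congrFun (rs_ex h (rs i j v)) l
  · rw [ex_of h1 h2, hv k h1 h2]

theorem form_ex (h : Dj i j) (u v : Ix 2 → F) : sympForm n F (ex i j u) (ex i j v) = sympForm 2 F u v := by
  classical
  rw [form_split h, rs_ex h, rs_ex h, Finset.sum_eq_zero, add_zero]
  intro k hk
  rw [Finset.mem_filter] at hk
  rcases em_or i j k with h3 | ⟨h1, h2⟩
  · exact absurd h3 hk.2
  · rw [ex_of h1 h2, mul_zero]

theorem ex_rho (h : Dj i j) {A : Sy n F} (hA : ∀ k, Dj i k → Dj j k → rho n F A (be n F k) = be n F k)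
    (w : Ix 2 → F) : ex i j (rs i j (rho n F A (ex i j w))) = rho n F A (ex i j w) :=
  ex_rs h fun k h1 h2 => by rw [rho_of_fix hA h1 h2, ex_of h1 h2]

/-- **The elements fixing the other basis vectors.** -/
theorem exists_blk (h : Dj i j) {A : Sy n F} (hA : ∀ k, Dj i k → Dj j k → rho n F A (be n F k) = be n F k) :
    ∃ B : Sy 2 F, blk h B = A := by
  have hA' := fix_inv hA
  have ex_add : ∀ u v : Ix 2 → F, ex i j (u + v) = ex i j u + ex i j v := fun u v => by
    rw [ex, ex, ex, ← Finset.sum_add_distrib]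
    exact Finset.sum_congr rfl fun l _ => by rw [Pi.add_apply, add_smul]
  have ex_smul : ∀ (a : F) (u : Ix 2 → F), ex i j (a • u) = a • ex i j u := fun a u => by
    rw [ex, ex, Finset.smul_sum]
    exact Finset.sum_congr rfl fun l _ => by rw [Pi.smul_apply, smul_eq_mul, mul_smul]
  let p : Equiv.Perm (Ix 2 → F) :=
    { toFun := fun w => rs i j (rho n F A (ex i j w))
      invFun := fun w => rs i j (rho n F A⁻¹ (ex i j w))
      left_inv := fun w => by
        show rs i j (rho n F A⁻¹ (ex i j (rs i j (rho n F A (ex i j w))))) = w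
        rw [ex_rho h hA, ← Equiv.Perm.mul_apply, ← map_mul, inv_mul_cancel, map_one]
        exact rs_ex h w
      right_inv := fun w => by
        show rs i j (rho n F A (ex i j (rs i j (rho n F A⁻¹ (ex i j w))))) = w
        rw [ex_rho h hA', ← Equiv.Perm.mul_apply, ← map_mul, mul_inv_cancel, map_one]
        exact rs_ex h w }
  obtain ⟨B, hB⟩ := exists_rho_eq (m := 2) (F := F) p (fun u v => by
      show rs i j (rho n F A (ex i j (u + v))) = _
      rw [ex_add, rho_add]; rfl) (fun a v => by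
      show rs i j (rho n F A (ex i j (a • v))) = _
      rw [ex_smul, rho_smul]; rfl) (fun u v => by
      show sympForm 2 F (rs i j (rho n F A (ex i j u))) (rs i j (rho n F A (ex i j v))) = _
      rw [← form_ex h, ex_rho h hA, ex_rho h hA, sympForm_rho, form_ex h])
  have hB' : ∀ w l, rho 2 F B w l = rho n F A (ex i j w) (em i j l) := fun w l => by rw [hB]; rfl
  refine ⟨B, ?_⟩
  apply rho_injective
  ext v k
  rcases em_or i j k with ⟨l, rfl⟩ | ⟨h1, h2⟩
  · rw [rho_blk_em, hB']
    have e1 : v = ex i j (rs i j v) + (v - ex i j (rs i j v)) := by abel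
    have e2 : rho n F A (v - ex i j (rs i j v)) (em i j l) = 0 := by
      rw [rho_eq_sum]
      refine Finset.sum_eq_zero fun m _ => ?_
      rcases em_or i j m with ⟨r, rfl⟩ | ⟨h1, h2⟩
      · have e3 : (v - ex i j (rs i j v)) (em i j r) = 0 := by
          rw [Pi.sub_apply]
          have e4 := congrFun (rs_ex h (rs i j v)) r
          change ex i j (rs i j v) (em i j r) = v (em i j r) at e4
          rw [e4, sub_self]
        rw [e3, zero_mul]
      · rw [ent, hA m h1 h2, be_apply, if_neg (em_ne h1 h2 l), mul_zero]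
    conv_rhs => rw [e1, rho_add, Pi.add_apply, e2, add_zero]
  · rw [rho_blk_of h h1 h2, rho_of_fix hA h1 h2]

end Cfsg.Agent.OddHalf.D4.SpN.Blk
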