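import Cfsg.Agent.OddHalf.D4.SpN.Kf

/-!
# ODD, D4, row `Sp_2n(q)`, case (a): a Sylow 2-subgroup of `K` normalises `L` (helper550; bb ODD #14529)

* `SecL K L` : the facts on `L = K^g` used here; `SpX.sec`;
* `false_of_loc` : no involution `w` of `K` with a `LocX K w H` is in `C(L)`;
* `le_of_two` : perfect subgroups of `N(L) ∩ C(U)` generated by 2-elements are in `L`;
* `Cfg K L Q U S X` : full pair, `S ≤ N(L)`, `U ≤ Q X`; `exists_conf`.
-/

set_option autoImplicit false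

namespace Cfsg.Agent.OddHalf.D4.SpN.Conf

open Cfsg Subgroup Cfsg.Agent.OddHalf.D4 Cfsg.Agent.OddHalf.D4.Basic Cfsg.Agent.OddHalf.D4.SpN.Kf
open Cfsg.Agent.OddHalf.D4.Input (proj comm_cen proj_perf eq_bot_of_comm isSyl_conj_eq pow_eq_one_of_isPGroup
  cj_le_iff' cj_perf exists_lc fullPair_cj)
open Cfsg.Agent.OddHalf.D4.CommConj (Tight cj mem_cj cj_mul card_cj cj_eq_of_mem_normalizer mem_normalizer_of_cj_eq
  mem_cj_mul)

open scoped commutatorElement

variable {G : Type*} [Group G] {K S X H Xl Xs Pl Ps A L Q U E Xr Pr : Subgroup G} {p : ℕ}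

/-- The facts on the second member of a pair. -/
structure SecL (K L : Subgroup G) : Prop where
  tight : TightAt L
  ctr : ∀ x ∈ L, x ∈ centralizer (L : Set G) → x = 1
  out : ∀ a ∈ normalizer (L : Set G), ∀ b ∈ normalizer (L : Set G), a * b * a⁻¹ * b⁻¹ ∈ L ⊔ centralizer (L : Set G)
  cyc : ∀ a ∈ normalizer (L : Set G), ∀ b ∈ normalizer (L : Set G), a * a ∈ L ⊔ centralizer (L : Set G) →
    b * b ∈ L ⊔ centralizer (L : Set G) → a ∈ L ⊔ centralizer (L : Set G) ∨ b ∈ L ⊔ centralizer (L : Set G) ∨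
      a * b ∈ L ⊔ centralizer (L : Set G)
  std : ¬ ∀ k ∈ K, ∀ l ∈ L, k * l = l * k

theorem sup_cj (g : G) (K : Subgroup G) :
    cj g K ⊔ centralizer ((cj g K : Subgroup G) : Set G) = cj g (K ⊔ centralizer (K : Set G)) := by
  rw [centralizer_cj, ← Subgroup.map_sup]

theorem sec (h : SpX K S X H Xl Xs Pl Ps A p) (g : G) : SecL K (cj g K) where
  tight := h.tight.cj g
  ctr := by
    intro x hx hxc
    rw [centralizer_cj, mem_cj] at hxc
    rw [mem_cj] at hx
    have h3 := h.ctr _ hx hxc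
    calc x = g * (g⁻¹ * x * g) * g⁻¹ := by group
      _ = 1 := by rw [h3]; group
  out := by
    intro a ha b hb
    rw [normalizer_cj, mem_cj] at ha hb
    rw [sup_cj, mem_cj]
    have := h.out _ ha _ hb
    have e : g⁻¹ * (a * b * a⁻¹ * b⁻¹) * g =
        g⁻¹ * a * g * (g⁻¹ * b * g) * (g⁻¹ * a * g)⁻¹ * (g⁻¹ * b * g)⁻¹ := by group
    rw [e]; exact this
  cyc := by
    intro a ha b hb haa hbb
    rw [normalizer_cj, mem_cj] at ha hb
    rw [sup_cj, mem_cj] at haa hbb ⊢
    rw [mem_cj, mem_cj]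
    have e1 : g⁻¹ * (a * a) * g = g⁻¹ * a * g * (g⁻¹ * a * g) := by group
    have e2 : g⁻¹ * (b * b) * g = g⁻¹ * b * g * (g⁻¹ * b * g) := by group
    have e3 : g⁻¹ * (a * b) * g = g⁻¹ * a * g * (g⁻¹ * b * g) := by group
    rw [e1] at haa
    rw [e2] at hbb
    rw [e3]
    exact h.cyc _ ha _ hb haa hbb
  std := h.std g

theorem SecL.perf_le (hL : SecL K L) {P : Subgroup G} (hPN : P ≤ normalizer (L : Set G)) (hP : P ≤ ⁅P, P⁆) :
    P ≤ L ⊔ centralizer (L : Set G) := by
  refine hP.trans ?_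
  rw [Subgroup.commutator_le]
  intro a ha b hb
  rw [commutatorElement_def]
  exact hL.out a (hPN ha) b (hPN hb)

theorem SecL.dec (_hL : SecL K L) {x : G} (hx : x ∈ L ⊔ centralizer (L : Set G)) :
    ∃ a ∈ L, ∃ b ∈ centralizer (L : Set G), x = a * b := exists_lc hx

/-! ### Perfect subgroups centralising a Sylow 2-subgroup of `C(L)` -/

/-- a 2-element of `C` normalising the Sylow 2-subgroup `U` of `C` is in `U` -/
theorem mem_syl {C : Subgroup G} (hU : IsSyl U C) {d : G} (hd : d ∈ C) (hd2 : ∃ k : ℕ, d ^ 2 ^ k = 1)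
    (hn : ∀ u ∈ U, d * u = u * d) : d ∈ U := by
  obtain ⟨k, hk⟩ := hd2
  have h1 : IsPGroup 2 ↥(zpowers d) := by
    rintro ⟨x, hx⟩
    obtain ⟨i, rfl⟩ := mem_zpowers_iff.mp hx
    refine ⟨k, Subtype.ext ?_⟩
    show (d ^ i) ^ 2 ^ k = 1
    rw [← zpow_natCast, ← zpow_mul, mul_comm, zpow_mul, zpow_natCast, hk, one_zpow]
  have h2 : IsPGroup 2 ↥(U ⊔ zpowers d : Subgroup G) := by
    apply IsPGroup.to_sup_of_normal_left' hU.two h1
    rw [zpowers_le]
    rw [mem_normalizer_iff]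
    intro u
    constructor
    · intro hu
      have e : d * u * d⁻¹ = u := by rw [hn u hu]; group
      rw [e]; exact hu
    · intro hu
      have h3 := hn _ hu
      have e : u = d * u * d⁻¹ := by
        have h4 : d * (d * u * d⁻¹) * d⁻¹ = d * u * d⁻¹ := by rw [h3]; group
        have h5 : d * u * d⁻¹ = u := by
          have := mul_right_cancel h4
          exact mul_left_cancel this
        exact h5.symm
      rw [e]; exact hu
  exact hU.max _ h2 le_sup_left (sup_le hU.le (by rw [zpowers_le]; exact hd)) (mem_sup_right (mem_zpowers d))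

/-- perfect subgroups of `N(L) ∩ C(U)` generated by 2-elements are in `L` -/
theorem SecL.le_of_two (hL : SecL K L) (hU : IsSyl U (centralizer (L : Set G))) {P : Subgroup G}
    (hPN : P ≤ normalizer (L : Set G)) (hP : P ≤ ⁅P, P⁆)
    (h2 : P ≤ closure {x | x ∈ P ∧ ∃ k : ℕ, x ^ 2 ^ k = 1}) (hPU : ∀ y ∈ P, ∀ u ∈ U, y * u = u * y) : P ≤ L := by
  have hdec : ∀ y ∈ P, ∃ a ∈ L, ∃ b ∈ centralizer (L : Set G), y = a * b := fun y hy => exists_lc (hL.perf_le hPN hP hy)
  have hLD : ∀ a ∈ L, ∀ b ∈ centralizer (L : Set G), a * b = b * a := comm_cen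
  -- the projection of `y ∈ P` commutes with `U`
  have hcU : ∀ a ∈ L, ∀ b ∈ centralizer (L : Set G), a * b ∈ P → ∀ u ∈ U, b * u = u * b := by
    intro a ha b hb hab u hu
    have h1 := hPU _ hab u hu
    have h3 := hLD a ha u (hU.le hu)
    have h4 : a * (b * u) = a * (u * b) := by
      calc a * (b * u) = a * b * u := by group
        _ = u * (a * b) := h1
        _ = (u * a) * b := by group
        _ = (a * u) * b := by rw [h3]
        _ = _ := by group
    exact mul_left_cancel h4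
  have hPLU : P ≤ L ⊔ U := by
    refine h2.trans ?_
    rw [closure_le]
    rintro x ⟨hx, k, hk⟩
    obtain ⟨a, ha, b, hb, rfl⟩ := hdec x hx
    have h3 := hcU a ha b hb hx
    have h4 : (a * b) ^ 2 ^ k = a ^ 2 ^ k * b ^ 2 ^ k := (show Commute a b from hLD a ha b hb).mul_pow _
    rw [h4] at hk
    have h5 : b ^ 2 ^ k = 1 := by
      have h6 : b ^ 2 ^ k = (a ^ 2 ^ k)⁻¹ := (inv_eq_of_mul_eq_one_right hk).symm
      apply hL.ctr _ _ (pow_mem hb _)
      rw [h6]
      exact inv_mem (pow_mem ha _)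
    exact mul_mem (mem_sup_left ha) (mem_sup_right (mem_syl hU hb ⟨k, h5⟩ h3))
  -- the projection is in `U`
  have hPR : proj hLD P ≤ U := by
    rintro b ⟨hb, a, ha, hab⟩
    have h3 : a * b ∈ L ⊔ U := hPLU hab
    have h4 : ∃ a' ∈ L, ∃ u ∈ U, a * b = a' * u := by
      have h6 : U ≤ normalizer (L : Set G) := hU.le.trans (centralizer_le_normalizer_self L)
      have h7 : a * b ∈ ((L ⊔ U : Subgroup G) : Set G) := h3
      rw [coe_mul_of_right_le_normalizer_left _ _ h6] at h7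
      obtain ⟨k, hk, c, hc, e⟩ := h7
      exact ⟨k, hk, c, hc, e.symm⟩
    obtain ⟨a', ha', u, hu, e⟩ := h4
    have h5 := (decomp_unique hL.ctr ha hb ha' (hU.le hu) e).2
    rw [h5]; exact hu
  have hP1 : proj hLD P = ⊥ := by
    apply eq_bot_of_comm (proj_perf hLD hdec hP hL.ctr)
    rintro x ⟨hx, a, ha, hax⟩ y hy
    exact hcU a ha x hx hax y (hPR hy)
  intro y hy
  obtain ⟨a, ha, b, hb, e⟩ := hdec y hy
  have h3 : b ∈ proj hLD P := ⟨hb, a, ha, by rw [← e]; exact hy⟩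
  rw [hP1, Subgroup.mem_bot] at h3
  rw [e, h3, mul_one]; exact ha

/-! ### Involutions of `K` in `C(L)` -/

section Finite

variable [Finite G]

/-- no involution `w` of `K` with a `LocX K w M` is in `C(L)` -/
theorem false_of_loc (h : SpX K S X H Xl Xs Pl Ps A p) (hL : SecL K L) {w : G} {M : Subgroup G}
    (hloc : LocX K w M) (hw2 : orderOf w = 2) (hwL : w ∈ centralizer (L : Set G)) : False := by
  have hw1 : w ≠ 1 := by
    rintro rfl
    rw [orderOf_one] at hw2
    exact absurd hw2 (by norm_num)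
  have hLD : ∀ a ∈ L, ∀ b ∈ centralizer (L : Set G), a * b = b * a := comm_cen
  -- an involution of `C(K)`
  obtain ⟨q, hq, hq2⟩ := exists_invol_of_even h.even
  have hwK : w ∈ K := hloc.HK hloc.mem
  have hHN : M ≤ normalizer (L : Set G) := fun y hy => hL.tight.mem hwL hw2 (hloc.Hw y hy)
  have hdec : ∀ y ∈ M, ∃ a ∈ L, ∃ b ∈ centralizer (L : Set G), y = a * b :=
    fun y hy => exists_lc (hL.perf_le hHN hloc.perf hy)
  have hqN : q ∈ normalizer (L : Set G) := hL.tight.mem hwL hw2 (comm_cen w hwK q hq).symm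
  set P := proj hLD M with hP
  have hPp : P ≤ ⁅P, P⁆ := proj_perf hLD hdec hloc.perf hL.ctr
  -- `P ≤ N(K)`, `P` centralises `w`
  have hPK : ∀ d ∈ P, d ∈ normalizer (K : Set G) := by
    rintro d ⟨hd, l, hl, hld⟩
    apply h.tight.mem hq hq2
    have h1 := comm_cen (l * d) (hloc.HK hld) q hq
    have h2 : q * l * q⁻¹ ∈ L := (mem_normalizer_iff.mp hqN l).mp hl
    have h3 : q * d * q⁻¹ ∈ centralizer (L : Set G) := centralizer_conj_mem hqN hd
    have h4 : (q * l * q⁻¹) * (q * d * q⁻¹) = l * d := by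
      calc (q * l * q⁻¹) * (q * d * q⁻¹) = (q * (l * d)) * q⁻¹ := by group
        _ = l * d := by rw [← h1]; group
    have h5 := (decomp_unique hL.ctr h2 h3 hl hd h4).2
    calc d * q = (q * d * q⁻¹) * q := by rw [h5]
      _ = q * d := by group
  have hPw : ∀ d ∈ P, d * w = w * d := by
    rintro d ⟨hd, l, hl, hld⟩
    have h1 := hloc.Hw _ hld
    have h2 := hLD l hl w hwL
    have h3 : l * (d * w) = l * (w * d) := by
      calc l * (d * w) = l * d * w := by group
        _ = w * (l * d) := h1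
        _ = (w * l) * d := by group
        _ = (l * w) * d := by rw [h2]
        _ = _ := by group
    exact mul_left_cancel h3
  -- `P` normalises `M`
  have hPH : ∀ d ∈ P, ∀ y ∈ M, d * y * d⁻¹ ∈ M := by
    intro d hd y hy
    have h1 : cj d M ≤ M := by
      apply hloc.res
      · intro x hx
        rw [mem_cj] at hx
        have h2 := (mem_normalizer_iff.mp (hPK d hd) _).mp (hloc.HK hx)
        have e : d * (d⁻¹ * x * d) * d⁻¹ = x := by group
        rwa [e] at h2
      · exact cj_perf hloc.perf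
      · intro x hx
        rw [mem_cj] at hx
        have h2 := hloc.Hw _ hx
        have h3 := hPw d hd
        calc x * w = d * (d⁻¹ * x * d) * (d⁻¹ * w) := by group
          _ = d * (d⁻¹ * x * d) * (w * d⁻¹) := by
              have : d⁻¹ * w = w * d⁻¹ := by
                calc d⁻¹ * w = d⁻¹ * (w * d) * d⁻¹ := by group
                  _ = d⁻¹ * (d * w) * d⁻¹ := by rw [h3]
                  _ = _ := by group
              rw [this]
          _ = d * ((d⁻¹ * x * d) * w) * d⁻¹ := by group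
          _ = d * (w * (d⁻¹ * x * d)) * d⁻¹ := by rw [h2]
          _ = (d * w) * (d⁻¹ * x) := by group
          _ = (w * d) * (d⁻¹ * x) := by rw [h3]
          _ = w * x := by group
    exact h1 (mem_cj_mul hy)
  have hcomH : ∀ d ∈ P, ∀ y ∈ M, y * d * y⁻¹ * d⁻¹ ∈ M := by
    intro d hd y hy
    have e : y * d * y⁻¹ * d⁻¹ = y * (d * y⁻¹ * d⁻¹) := by group
    rw [e]
    exact mul_mem hy (hPH d hd _ (inv_mem hy))
  -- `P ≤ M`
  have hPleH : P ≤ M := by
    refine hPp.trans ?_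
    rw [Subgroup.commutator_le]
    rintro d' ⟨hd', l', hl', hld'⟩ d hd
    have h1 := hcomH d hd _ hld'
    have h2 := hLD l' hl' (d' * d * d'⁻¹ * d⁻¹)
      (mul_mem (mul_mem (mul_mem hd' hd.1) (inv_mem hd')) (inv_mem hd.1))
    have h3 := hLD l' hl' d hd.1
    have e : l' * d' * d * (l' * d')⁻¹ * d⁻¹ = ⁅d', d⁆ := by
      rw [commutatorElement_def]
      calc l' * d' * d * (l' * d')⁻¹ * d⁻¹ = l' * (d' * d * d'⁻¹ * d⁻¹) * (d * l'⁻¹ * d⁻¹) := by group
        _ = (d' * d * d'⁻¹ * d⁻¹) * l' * (d * l'⁻¹ * d⁻¹) := by rw [h2]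
        _ = (d' * d * d'⁻¹ * d⁻¹) * ((l' * d) * l'⁻¹ * d⁻¹) := by group
        _ = (d' * d * d'⁻¹ * d⁻¹) * ((d * l') * l'⁻¹ * d⁻¹) := by rw [h3]
        _ = d' * d * d'⁻¹ * d⁻¹ := by group
    rw [← e]
    exact h1
  -- `M` is the direct product of `M ∩ L` and `P`
  have hdec' : ∀ y ∈ M, ∃ a ∈ M ⊓ L, ∃ b ∈ P, y = a * b := by
    intro y hy
    obtain ⟨a, ha, b, hb, rfl⟩ := hdec y hy
    have hbP : b ∈ P := ⟨hb, a, ha, hy⟩
    refine ⟨a, ⟨?_, ha⟩, b, hbP, rfl⟩
    have h1 := mul_mem hy (inv_mem (hPleH hbP))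
    rwa [mul_inv_cancel_right] at h1
  have hwP : w ∈ P := ⟨hwL, 1, one_mem _, by rw [one_mul]; exact hloc.mem⟩
  have hHD : M ≤ centralizer (L : Set G) := by
    rcases hloc.ind (M ⊓ L) P inf_le_left hPleH (fun a ha b hb => hLD a ha.2 b hb.1) (by
        rw [eq_bot_iff]
        rintro x ⟨hx1, hx2⟩
        rw [Subgroup.mem_bot]
        exact hL.ctr x hx1.2 hx2.1) hdec' with h1 | h1
    · intro y hy
      obtain ⟨a, ha, b, hb, rfl⟩ := hdec' y hy
      rw [h1, Subgroup.mem_bot] at ha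
      rw [ha, one_mul]; exact hb.1
    · rw [h1, Subgroup.mem_bot] at hwP
      exact absurd hwP hw1
  -- `K ≤ N(L)`
  have hKN : K ≤ normalizer (L : Set G) := by
    apply hloc.gen
    intro x hx hxx hx1 k _ hkx
    exact hL.tight.mem (hHD hx) (orderOf_eq_prime (by rw [pow_two]; exact hxx) hx1) hkx
  rcases h.simp (K ⊓ centralizer (L : Set G)) inf_le_left (by
    rintro k hk y ⟨hy1, hy2⟩
    exact Subgroup.mem_inf.2 ⟨mul_mem (mul_mem hk hy1) (inv_mem hk), centralizer_conj_mem (hKN hk) hy2⟩) with h1 | h1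
  · apply hw1
    rw [← Subgroup.mem_bot, ← h1]
    exact ⟨hwK, hwL⟩
  · apply hL.std
    intro k hk l hl
    have h2 : k ∈ K ⊓ centralizer (L : Set G) := by rw [h1]; exact hk
    exact (hLD l hl k h2.2).symm

omit [Finite G] in
theorem exists_locX (h : SpX K S X H Xl Xs Pl Ps A p) {w : G} (hw : w ∈ X) (hw1 : w ≠ 1) :
    ∃ M, LocX K w M := by
  by_cases h1 : w ∈ Xl
  · exact ⟨_, h.l.loc w h1 hw1⟩
  by_cases h2 : w ∈ Xs
  · exact ⟨_, h.s.loc w h2 hw1⟩
  exact ⟨_, h.loc w hw h1 h2⟩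

omit [Finite G] in
theorem orderOf_two (h : SpX K S X H Xl Xs Pl Ps A p) {w : G} (hw : w ∈ X) (hw1 : w ≠ 1) : orderOf w = 2 :=
  orderOf_eq_prime (by rw [pow_two]; exact h.sq w hw) hw1

/-- `X ∩ C(L) = 1` -/
theorem XD (h : SpX K S X H Xl Xs Pl Ps A p) (hL : SecL K L) {w : G} (hw : w ∈ X)
    (hwL : w ∈ centralizer (L : Set G)) : w = 1 := by
  by_contra hw1
  obtain ⟨M, hM⟩ := exists_locX h hw hw1
  exact false_of_loc h hL hM (orderOf_two h hw hw1) hwL

omit [Finite G] in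
theorem mem_X (h : SpX K S X H Xl Xs Pl Ps A p) {w : G} (hw : w ∈ S) (hc : ∀ s ∈ S, s * w = w * s) : w ∈ X := by
  obtain ⟨c, hc', x, hx, e⟩ := h.cen w (le_normalizer (h.syl.le hw)) (pow_eq_one_of_isPGroup h.syl.two hw) hc
  have h1 : c = 1 := by
    apply h.ctr c _ hc'
    have : c = w * x⁻¹ := by rw [e]; group
    rw [this]
    exact mul_mem (h.syl.le hw) (inv_mem (h.syl.le (h.XS hx)))
  rw [e, h1, one_mul]; exact hx

omit [Finite G] in
theorem X_eq (h : SpX K S X H Xl Xs Pl Ps A p) : X = S ⊓ centralizer (S : Set G) := by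
  apply le_antisymm
  · intro x hx
    exact ⟨h.XS hx, mem_centralizer_iff.mpr fun s hs => h.Xc s hs x hx⟩
  · rintro x ⟨hx1, hx2⟩
    exact mem_X h hx1 fun s hs => mem_centralizer_iff.mp hx2 s hs

omit [Finite G] in
theorem X_cj (h : SpX K S X H Xl Xs Pl Ps A p) {g : G} (hg : cj g S = S) : cj g X = X := by
  rw [X_eq h]
  show Subgroup.map _ _ = _
  rw [Subgroup.map_inf _ _ _ (MulAut.conj g).injective]
  show cj g S ⊓ cj g (centralizer (S : Set G)) = _
  rw [← centralizer_cj, hg]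

omit [Finite G] in
theorem XK (h : SpX K S X H Xl Xs Pl Ps A p) : X ≤ K := h.XS.trans h.syl.le

/-- `E ∩ K ∩ C(L) = 1` -/
theorem inf_eq_one (h : SpX K S X H Xl Xs Pl Ps A p) (hL : SecL K L) (hE : IsPGroup 2 ↥E)
    (hEL : E ≤ normalizer (L : Set G)) (hEK : E ≤ normalizer (K : Set G)) (hSE : S ≤ E) :
    ∀ x ∈ E, x ∈ K → x ∈ centralizer (L : Set G) → x = 1 := by
  have hS : E ⊓ K = S := Cfsg.Agent.OddHalf.D4.Input.IsSyl.eq_inf h.syl hE hSE
  by_contra hcon
  push Not at hcon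
  obtain ⟨y, hyE, hyK, hyL, hy1⟩ := hcon
  obtain ⟨w, ⟨⟨hwE, hwK⟩, hwL⟩, hw2, hwc⟩ := exists_central_invol (N := E ⊓ K ⊓ centralizer (L : Set G)) hE
    (inf_le_left.trans inf_le_left) (by
      intro h1
      apply hy1
      rw [← Subgroup.mem_bot, ← h1]
      exact ⟨⟨hyE, hyK⟩, hyL⟩) (by
      rintro t ht x ⟨⟨hx1, hx2⟩, hx3⟩
      exact Subgroup.mem_inf.2 ⟨Subgroup.mem_inf.2 ⟨mul_mem (mul_mem ht hx1) (inv_mem ht),
        (mem_normalizer_iff.mp (hEK ht) x).mp hx2⟩, centralizer_conj_mem (hEL ht) hx3⟩)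
  have hwS : w ∈ S := by rw [← hS]; exact ⟨hwE, hwK⟩
  have h1 := XD h hL (mem_X h hwS fun s hs => hwc s (hSE hs)) hwL
  rw [h1, orderOf_one] at hw2
  exact absurd hw2 (by norm_num)

end Finite

/-! ### The configuration -/

/-- A full pair such that the Sylow 2-subgroup `S` of `K` normalises `L`, and `U ≤ Q X`. -/
structure Cfg (K L Q U S X : Subgroup G) : Prop where
  full : FullPair K L Q U
  SL : S ≤ normalizer (L : Set G)
  UX : ∀ u ∈ U, ∃ q ∈ Q, ∃ x ∈ X, u = q * x

/-- conjugates of full pairs -/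
theorem full_cj (hp : FullPair K L Q U) (g : G) : FullPair (cj g K) (cj g L) (cj g Q) (cj g U) := by
  obtain ⟨a, ha, hLa⟩ := hp.conj
  refine ⟨⟨g * a * g⁻¹, ?_, ?_⟩, ?_, ?_, ?_⟩
  · intro h1
    apply ha
    rw [normalizer_cj, mem_cj] at h1
    have e : g⁻¹ * (g * a * g⁻¹) * g = a := by group
    rwa [e] at h1
  · rw [hLa, ← cj_mul, ← cj_mul]
    congr 1
    group
  · rw [centralizer_cj]; exact hp.sylQ.cj g
  · rw [centralizer_cj]; exact hp.sylU.cj g
  · intro q hq u hu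
    rw [mem_cj] at hq hu
    have h1 := hp.comm _ hq _ hu
    calc q * u = g * ((g⁻¹ * q * g) * (g⁻¹ * u * g)) * g⁻¹ := by group
      _ = g * ((g⁻¹ * u * g) * (g⁻¹ * q * g)) * g⁻¹ := by rw [h1]
      _ = u * q := by group

theorem sup_two (hQ : IsPGroup 2 ↥Q) (hU : IsPGroup 2 ↥U) (hc : ∀ q ∈ Q, ∀ u ∈ U, q * u = u * q) :
    IsPGroup 2 ↥(Q ⊔ U : Subgroup G) := by
  apply IsPGroup.to_sup_of_normal_right' hQ hU
  intro q hq
  rw [mem_normalizer_iff]
  intro u
  constructor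
  · intro hu
    have h1 := hc q hq u hu
    have e : q * u * q⁻¹ = u := by rw [h1]; group
    rw [e]; exact hu
  · intro hu
    have h1 := hc q⁻¹ (inv_mem hq) _ hu
    have e : u = q * u * q⁻¹ := by
      calc u = q⁻¹ * (q * u * q⁻¹) * q := by group
        _ = (q * u * q⁻¹) * q⁻¹ * q := by rw [h1]
        _ = _ := by group
    rw [e]; exact hu

section Finite

variable [Finite G]

/-- **the configuration exists** -/
theorem exists_conf (h : SpX K S X H Xl Xs Pl Ps A p) (hp : FullPair K L Q U) {S' : Subgroup G} (hS' : IsSyl S' K)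
    (hS'L : S' ≤ normalizer (L : Set G)) : ∃ k ∈ K, Cfg K (cj k L) Q (cj k U) S X := by
  have hQL := hp.leQ h.tight h.even
  have hUK := hp.leU h.tight h.even
  -- `Q U` is a 2-group
  have hQU : IsPGroup 2 ↥(Q ⊔ U : Subgroup G) := sup_two hp.sylQ.two hp.sylU.two hp.comm
  obtain ⟨E, hE, hQUE⟩ := exists_isSyl (M := normalizer (K : Set G) ⊓ normalizer (L : Set G)) hQU
    (sup_le (le_inf (hp.sylQ.le.trans (centralizer_le_normalizer_self K)) hQL)
      (le_inf hUK (hp.sylU.le.trans (centralizer_le_normalizer_self L))))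
  have hEK : E ≤ normalizer (K : Set G) := hE.le.trans inf_le_left
  have hEL : E ≤ normalizer (L : Set G) := hE.le.trans inf_le_right
  -- a Sylow 2-subgroup of `K` in `E`
  have hI : K ⊓ normalizer (L : Set G) ≤ normalizer (K : Set G) ⊓ normalizer (L : Set G) :=
    inf_le_inf_right _ le_normalizer
  obtain ⟨m, ⟨hmK, hmL⟩, hm⟩ := hE.conj_into_inf hI (by
    intro t ht
    rw [mem_normalizer_iff]
    intro x
    have h1 := mem_normalizer_iff.mp (hEK ht) x
    have h2 : x ∈ normalizer (L : Set G) ↔ t * x * t⁻¹ ∈ normalizer (L : Set G) := by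
      have ht' := hEL ht
      constructor
      · intro hx; exact mul_mem (mul_mem ht' hx) (inv_mem ht')
      · intro hx
        have h3 := mul_mem (mul_mem (inv_mem ht') hx) ht'
        have e : t⁻¹ * (t * x * t⁻¹) * t = x := by group
        rwa [e] at h3
    rw [mem_inf, mem_inf, h1, h2]) hS'.two (le_inf hS'.le hS'L)
  have hS1 : IsSyl (cj m S') K := by
    have h1 := hS'.cj m
    rwa [cj_eq_of_mem_normalizer (le_normalizer hmK)] at h1
  have hS1E : cj m S' ≤ E := by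
    rintro _ ⟨q, hq, rfl⟩
    exact (hm q hq).1
  obtain ⟨k, hk, hkS⟩ := isSyl_conj_eq h.syl hS1
  have hkK : cj k K = K := cj_eq_of_mem_normalizer (le_normalizer hk)
  have hkQ : cj k Q = Q := by
    apply cj_eq_of_mem_normalizer
    rw [mem_normalizer_iff]
    intro x
    have key : ∀ y ∈ Q, k * y * k⁻¹ = y := by
      intro y hy
      rw [comm_cen k hk y (hp.sylQ.le hy)]; group
    constructor
    · intro hx; rw [key x hx]; exact hx
    · intro hx
      have h2 := comm_cen k⁻¹ (inv_mem hk) _ (hp.sylQ.le hx)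
      have e : x = k * x * k⁻¹ := by
        calc x = k⁻¹ * (k * x * k⁻¹) * k := by group
          _ = k * x * k⁻¹ * k⁻¹ * k := by rw [h2]
          _ = _ := by group
      rw [e]; exact hx
  -- everything for `L' = L^k`
  obtain ⟨g, -, hLg⟩ := hp.conj
  have hL' : SecL K (cj k L) := by
    rw [hLg, ← cj_mul]; exact sec h _
  have hE'2 : IsPGroup 2 ↥(cj k E) := hE.two.map _
  have hE'L : cj k E ≤ normalizer ((cj k L : Subgroup G) : Set G) := by rw [normalizer_cj]; exact map_mono hEL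
  have hE'K : cj k E ≤ normalizer (K : Set G) := by rw [← hkK, normalizer_cj]; exact map_mono hEK
  have hSE' : S ≤ cj k E := by rw [← hkS]; exact map_mono hS1E
  have hQE' : Q ≤ cj k E := by rw [← hkQ]; exact map_mono (le_sup_left.trans hQUE)
  have hUE' : cj k U ≤ cj k E := map_mono (le_sup_right.trans hQUE)
  have hdisj := inf_eq_one h hL' hE'2 hE'L hE'K hSE'
  have hp' : FullPair K (cj k L) Q (cj k U) := by
    have := full_cj hp k
    rwa [hkK, hkQ] at this
  refine ⟨k, hk, hp', hSE'.trans hE'L, ?_⟩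
  have hUS : ∀ v ∈ cj k U, ∀ s ∈ S, s * v = v * s := by
    intro v hv s hs
    have hsE := hSE' hs
    have hvE := hUE' hv
    have h1 : s * v * s⁻¹ * v⁻¹ = 1 := by
      apply hdisj
      · exact mul_mem (mul_mem (mul_mem hsE hvE) (inv_mem hsE)) (inv_mem hvE)
      · have e : s * v * s⁻¹ * v⁻¹ = s * (v * s⁻¹ * v⁻¹) := by group
        rw [e]
        exact mul_mem (h.syl.le hs) ((mem_normalizer_iff.mp (hE'K hvE) _).mp (inv_mem (h.syl.le hs)))
      · exact (centralizer ((cj k L : Subgroup G) : Set G)).mul_mem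
          (centralizer_conj_mem (hE'L hsE) (hp'.sylU.le hv))
          ((centralizer ((cj k L : Subgroup G) : Set G)).inv_mem (hp'.sylU.le hv))
    calc s * v = (s * v * s⁻¹ * v⁻¹) * (v * s) := by group
      _ = v * s := by rw [h1, one_mul]
  have hEQ : cj k E ⊓ centralizer (K : Set G) = Q := Cfsg.Agent.OddHalf.D4.Input.IsSyl.eq_inf hp.sylQ hE'2 hQE'
  intro v hv
  obtain ⟨c, hc, x, hx, e⟩ := h.cen v (hE'K (hUE' hv)) (pow_eq_one_of_isPGroup hE'2 (hUE' hv)) (hUS v hv)
  refine ⟨c, ?_, x, hx, e⟩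
  rw [← hEQ]
  refine Subgroup.mem_inf.2 ⟨?_, hc⟩
  have : c = v * x⁻¹ := by rw [e]; group
  rw [this]
  exact mul_mem (hUE' hv) (inv_mem (hSE' (h.XS hx)))

end Finite

theorem Cfg.secL (c : Cfg K L Q U S X) (h : SpX K S X H Xl Xs Pl Ps A p) : SecL K L := by
  obtain ⟨g, -, hLg⟩ := c.full.conj
  rw [hLg]; exact sec h g

end Cfsg.Agent.OddHalf.D4.SpN.Conf
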