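import Cfsg.Agent.OddHalf.D4.SpN.Typ

/-!
# ODD, D4, row `Sp_2n(q)`, case (a): the mover (helper550; bb ODD #14529)

* `Cfg.mover` : in a configuration of type `r` there is `y ∈ C(A)` with `q^y ∈ q X_r`, `q^y ≠ q` for `1 ≠ q ∈ Q`;
* `Cfg.mixed` : from a configuration of mixed type one gets a configuration of type `l`;
* **`main`** : a full pair such that a Sylow 2-subgroup of `K` normalises `L` gives a mover of type `l` or `s`.
-/

set_option autoImplicit false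

namespace Cfsg.Agent.OddHalf.D4.SpN.Conf

open Cfsg Subgroup Cfsg.Agent.OddHalf.D4 Cfsg.Agent.OddHalf.D4.Basic Cfsg.Agent.OddHalf.D4.SpN.Kf
open Cfsg.Agent.OddHalf.D4.Input (comm_cen isSyl_conj_eq pow_eq_one_of_isPGroup cj_le_iff' cj_perf)
open Cfsg.Agent.OddHalf.D4.CommConj (Tight cj mem_cj cj_mul card_cj cj_eq_of_mem_normalizer mem_normalizer_of_cj_eq
  mem_cj_mul)

open scoped commutatorElement

variable {G : Type*} [Group G]

/-! ### Counting -/

/-- a `p`-group acting on a coset of a 2-group fixes an element -/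
theorem exists_fixed [Finite G] {A V : Subgroup G} {p : ℕ} {h : G} (hA : IsPGroup p ↥A) (hp : p.Prime) (hp2 : p ≠ 2)
    (hV : IsPGroup 2 ↥V) (hAV : ∀ a ∈ A, ∀ v ∈ V, a * v * a⁻¹ ∈ V) (hAh : ∀ a ∈ A, a * h * a⁻¹ * h⁻¹ ∈ V) :
    ∃ v ∈ V, ∀ a ∈ A, (v * h) * a = a * (v * h) := by
  have hpf : Fact p.Prime := ⟨hp⟩
  let Ω := {y : G // y * h⁻¹ ∈ V}
  let act : MulAction ↥A Ω :=
    { smul := fun a y => ⟨a * y.1 * (a : G)⁻¹, by
        have e : (a : G) * y.1 * (a : G)⁻¹ * h⁻¹ =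
            ((a : G) * (y.1 * h⁻¹) * (a : G)⁻¹) * ((a : G) * h * (a : G)⁻¹ * h⁻¹) := by group
        rw [e]
        exact mul_mem (hAV a a.2 _ y.2) (hAh a a.2)⟩
      one_smul := fun y => Subtype.ext (by
        show ((1 : ↥A) : G) * y.1 * ((1 : ↥A) : G)⁻¹ = y.1
        simp)
      mul_smul := fun a b y => Subtype.ext (by
        show ((a * b : ↥A) : G) * y.1 * ((a * b : ↥A) : G)⁻¹ = a * (b * y.1 * (b : G)⁻¹) * (a : G)⁻¹
        push_cast
        group) }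
  have hcard : Nat.card Ω = Nat.card ↥V := by
    refine Nat.card_congr ⟨fun y => ⟨y.1 * h⁻¹, y.2⟩, fun v => ⟨v.1 * h, by
      rw [mul_inv_cancel_right]; exact v.2⟩, fun y => ?_, fun v => ?_⟩
    · apply Subtype.ext
      show y.1 * h⁻¹ * h = y.1
      group
    · apply Subtype.ext
      show v.1 * h * h⁻¹ = v.1
      group
  have h2 : Fact (Nat.Prime 2) := ⟨Nat.prime_two⟩
  obtain ⟨n, hn⟩ := IsPGroup.iff_card.mp hV
  have hnd : ¬ p ∣ Nat.card Ω := by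
    rw [hcard, hn]
    intro hd
    have := (Nat.prime_dvd_prime_iff_eq hp Nat.prime_two).mp (hp.dvd_of_dvd_pow hd)
    exact hp2 this
  have : Finite Ω := Subtype.finite
  obtain ⟨⟨y, hy⟩, hfix⟩ := hA.nonempty_fixed_point_of_prime_not_dvd_card Ω hnd
  refine ⟨y * h⁻¹, hy, fun a ha => ?_⟩
  have h3 : (⟨a, ha⟩ : ↥A) • (⟨y, hy⟩ : Ω) = ⟨y, hy⟩ := hfix _
  have h4 : a * y * a⁻¹ = y := congrArg Subtype.val h3
  rw [inv_mul_cancel_right]
  calc y * a = (a * y * a⁻¹) * a := by rw [h4]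
    _ = a * y := by group

/-- index at most two -/
theorem mem_of_half [Finite G] {T R : Subgroup G} (hTR : T ≤ R) (hcard : Nat.card ↥R ≤ 2 * Nat.card ↥T) {a b : G}
    (ha : a ∈ R) (hb : b ∈ R) (haT : a ∉ T) (hbT : b ∉ T) : a⁻¹ * b ∈ T := by
  by_contra hab
  have h1 := Subgroup.card_eq_card_quotient_mul_card_subgroup (T.subgroupOf R)
  have h2 : Nat.card ↥(T.subgroupOf R) = Nat.card ↥T := Nat.card_congr (Subgroup.subgroupOfEquivOfLe hTR).toEquiv
  rw [h2] at h1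
  have hpos : 0 < Nat.card ↥T := Nat.card_pos
  have h3 : Nat.card (↥R ⧸ T.subgroupOf R) ≤ 2 := by
    by_contra h4
    push Not at h4
    have : 3 * Nat.card ↥T ≤ Nat.card ↥R := by
      rw [h1]; exact Nat.mul_le_mul_right _ h4
    omega
  have : Fintype (↥R ⧸ T.subgroupOf R) := Fintype.ofFinite _
  classical
  have h5 : ({QuotientGroup.mk (1 : ↥R), QuotientGroup.mk (⟨a, ha⟩ : ↥R), QuotientGroup.mk (⟨b, hb⟩ : ↥R)} :
      Finset (↥R ⧸ T.subgroupOf R)).card = 3 := by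
    rw [Finset.card_eq_three]
    refine ⟨_, _, _, ?_, ?_, ?_, rfl⟩
    · rw [Ne, QuotientGroup.eq, inv_one, one_mul, mem_subgroupOf]; exact haT
    · rw [Ne, QuotientGroup.eq, inv_one, one_mul, mem_subgroupOf]; exact hbT
    · rw [Ne, QuotientGroup.eq, mem_subgroupOf]; exact hab
  have h6 := Finset.card_le_univ ({QuotientGroup.mk (1 : ↥R), QuotientGroup.mk (⟨a, ha⟩ : ↥R),
    QuotientGroup.mk (⟨b, hb⟩ : ↥R)} : Finset (↥R ⧸ T.subgroupOf R))
  rw [h5, ← Nat.card_eq_fintype_card] at h6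
  omega

theorem card_le_half [Finite G] {T R : Subgroup G} (hTR : T ≤ R)
    (h : ∀ a ∈ R, ∀ b ∈ R, a ∉ T → b ∉ T → a * b ∈ T) : Nat.card ↥R ≤ 2 * Nat.card ↥T := by
  have h1 := Subgroup.card_eq_card_quotient_mul_card_subgroup (T.subgroupOf R)
  have h2 : Nat.card ↥(T.subgroupOf R) = Nat.card ↥T := Nat.card_congr (Subgroup.subgroupOfEquivOfLe hTR).toEquiv
  rw [h2] at h1
  rw [h1]
  apply Nat.mul_le_mul_right
  classical
  let f : (↥R ⧸ T.subgroupOf R) → Bool := fun c => decide (c = QuotientGroup.mk (1 : ↥R))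
  have hf : Function.Injective f := by
    intro c d hcd
    by_cases hc : c = QuotientGroup.mk (1 : ↥R)
    · have : f c = true := decide_eq_true hc
      rw [hcd] at this
      rw [hc, of_decide_eq_true this]
    · have h3 : f c = false := decide_eq_false hc
      rw [hcd] at h3
      have hd : d ≠ QuotientGroup.mk (1 : ↥R) := of_decide_eq_false h3
      obtain ⟨a, rfl⟩ := QuotientGroup.mk_surjective c
      obtain ⟨b, rfl⟩ := QuotientGroup.mk_surjective d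
      rw [QuotientGroup.eq, mem_subgroupOf]
      refine h _ (a⁻¹).2 _ b.2 ?_ ?_
      · intro ha
        apply hc
        rw [QuotientGroup.eq, mem_subgroupOf, mul_one]
        exact ha
      · intro hb
        apply hd
        apply Eq.symm
        rw [QuotientGroup.eq, mem_subgroupOf, inv_one, one_mul]
        exact hb
  have h9 : Nat.card Bool = 2 := by simp
  rw [← h9]
  exact Nat.card_le_card_of_injective f hf

variable [Finite G] {K S X H Xl Xs Pl Ps A L Q U E Xr Pr Xt Pt : Subgroup G} {p : ℕ}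

namespace Cfg

/-- The mover, given the type of `L`. -/
theorem mover_aux (c : Cfg K L Q U S X) (h : SpX K S X H Xl Xs Pl Ps A p) (hr : Rt K S X Xr Pr A)
    (ht : Rt K S X Xt Pt A) {g q x : G} (gK : cj g K = L) (gQ : cj g Q = U) (gS : cj g S = S)
    (hall : ∀ u ∈ U, ∃ q ∈ Q, ∃ x ∈ Xr, u = q * x) (hPL : Pr ≤ L) (hu : q * x ∈ U) (hq : q ∈ Q) (hx : x ∈ Xr)
    (hx1 : x ≠ 1) (hxt : g⁻¹ * x * g ∈ Xt) :
    ∃ y : G, (∀ a ∈ A, y * a = a * y) ∧ ∀ q ∈ Q, q ≠ 1 → ∃ x ∈ Xr, x ≠ 1 ∧ y * q * y⁻¹ = q * x := by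
  have gX := X_cj h gS
  have hxt1 : g⁻¹ * x * g ≠ 1 := by
    intro e
    apply hx1
    calc x = g * (g⁻¹ * x * g) * g⁻¹ := by group
      _ = 1 := by rw [e]; group
  -- `(P_t)^g ≤ K`
  have c' := c.inv h gK gQ gS
  have h1 : Pt ≤ cj g⁻¹ K := by
    refine (c'.typ h ht (q := g⁻¹ * (q * x) * g) (x := g⁻¹ * x * g) ?_ ?_ hxt hxt1).2
    · rw [mem_cj, inv_inv]
      have e : g * (g⁻¹ * (q * x) * g * (g⁻¹ * x * g)) * g⁻¹ = q * (x * x) := by group
      rw [e, h.sq x (hr.XX hx), mul_one]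
      exact hq
    · have := hu
      rw [← gQ, mem_cj] at this
      exact this
  have hPtK : cj g Pt ≤ K := by
    have := map_mono (f := (MulAut.conj g).toMonoidHom) h1
    change cj g Pt ≤ cj g (cj g⁻¹ K) at this
    rwa [cj_cj_inv] at this
  have hPtr : cj g Pt ≤ Pr := by
    apply (hr.loc x hx hx1).res _ hPtK (cj_perf (ht.loc _ hxt hxt1).perf)
    intro y hy
    rw [mem_cj] at hy
    have h2 := (ht.loc _ hxt hxt1).Hw _ hy
    calc y * x = g * ((g⁻¹ * y * g) * (g⁻¹ * x * g)) * g⁻¹ := by group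
      _ = g * ((g⁻¹ * x * g) * (g⁻¹ * y * g)) * g⁻¹ := by rw [h2]
      _ = x * y := by group
  have hPrt : cj g⁻¹ Pr ≤ Pt := by
    apply (ht.loc _ hxt hxt1).res
    · rw [cj_le_iff', gK]; exact hPL
    · exact cj_perf (hr.loc x hx hx1).perf
    · intro y hy
      rw [mem_cj, inv_inv] at hy
      have h2 := (hr.loc x hx hx1).Hw _ hy
      calc y * (g⁻¹ * x * g) = g⁻¹ * ((g * y * g⁻¹) * x) * g := by group
        _ = g⁻¹ * (x * (g * y * g⁻¹)) * g := by rw [h2]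
        _ = _ := by group
  -- the root groups
  have hrt : ∀ z ∈ Xr, g⁻¹ * z * g ∈ Xt := by
    intro z hz
    obtain ⟨y, hy, -, hyc⟩ := ht.tor
    have hzX : g⁻¹ * z * g ∈ X := by
      have := hr.XX hz
      rwa [← gX, mem_cj] at this
    apply hyc _ hzX
    by_cases hz1 : z = 1
    · rw [hz1]; group
    · have h2 := (hr.loc z hz hz1).Hw _ (hPtr (mem_cj_mul hy))
      calc y * (g⁻¹ * z * g) = g⁻¹ * ((g * y * g⁻¹) * z) * g := by group
        _ = g⁻¹ * (z * (g * y * g⁻¹)) * g := by rw [h2]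
        _ = _ := by group
  have htr : ∀ z ∈ Xt, g * z * g⁻¹ ∈ Xr := by
    intro z hz
    obtain ⟨y, hy, -, hyc⟩ := hr.tor
    have hzX : g * z * g⁻¹ ∈ X := by
      have := mem_cj_mul (g := g) (ht.XX hz)
      rwa [gX] at this
    apply hyc _ hzX
    by_cases hz1 : z = 1
    · rw [hz1]; group
    · have h3 : g⁻¹ * y * g ∈ Pt := by
        apply hPrt
        have := mem_cj_mul (g := g⁻¹) hy
        rwa [inv_inv] at this
      have h2 := (ht.loc z hz hz1).Hw _ h3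
      calc y * (g * z * g⁻¹) = g * ((g⁻¹ * y * g) * z) * g⁻¹ := by group
        _ = g * (z * (g⁻¹ * y * g)) * g⁻¹ := by rw [h2]
        _ = _ := by group
  -- the torus element
  obtain ⟨h0, hh0, V0, hV0, hV2, hVn, hhV, hhX, hhc⟩ := ht.mov
  have hV : cj g V0 ≤ Pr := (map_mono hV0).trans hPtr
  have hAP := hr.AP
  have hAt : ∀ a ∈ A, g⁻¹ * a * g ∈ Pt := by
    intro a ha
    apply hPrt
    have := mem_cj_mul (g := g⁻¹) (hAP ha)
    rwa [inv_inv] at this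
  obtain ⟨v, hv, hvA⟩ := exists_fixed (V := cj g V0) (h := g * h0 * g⁻¹) h.pgrp h.prime h.odd (hV2.map _) (by
    intro a ha v hv
    rw [mem_cj] at hv ⊢
    have := hVn _ (hAt a ha) _ hv
    have e : g⁻¹ * (a * v * a⁻¹) * g = g⁻¹ * a * g * (g⁻¹ * v * g) * (g⁻¹ * a * g)⁻¹ := by group
    rw [e]; exact this) (by
    intro a ha
    rw [mem_cj]
    have := inv_mem (hhV _ (hAt a ha))
    have e : g⁻¹ * (a * (g * h0 * g⁻¹) * a⁻¹ * (g * h0 * g⁻¹)⁻¹) * g =
        (h0 * (g⁻¹ * a * g) * h0⁻¹ * (g⁻¹ * a * g)⁻¹)⁻¹ := by group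
    rw [e]; exact this)
  refine ⟨v * (g * h0 * g⁻¹), hvA, ?_⟩
  intro r hr' hr1
  obtain ⟨u, hu', z, hz, e⟩ := c.QX h r hr'
  obtain ⟨r', hr'', z', hz', e'⟩ := hall u hu'
  obtain ⟨-, e2⟩ := uniq h (c.full.sylQ.le hr') hz (c.full.sylQ.le hr'') (hr.XX hz') (e.symm.trans e')
  have hzr : z ∈ Xr := by rw [e2]; exact hz'
  have hzz := h.sq z hz
  have hr2 : r = u * z := by rw [e, mul_assoc, hzz, mul_one]
  -- `z^h`
  set z1 := (g * h0 * g⁻¹) * z * (g * h0 * g⁻¹)⁻¹ with hz1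
  have hz1r : z1 ∈ Xr := by
    have h2 := htr _ (hhX _ (hrt z hzr))
    have e3 : g * (h0 * (g⁻¹ * z * g) * h0⁻¹) * g⁻¹ = z1 := by rw [hz1]; group
    rwa [e3] at h2
  have hL' : g * h0 * g⁻¹ ∈ L := by rw [← gK]; exact mem_cj_mul hh0
  have h3 : (g * h0 * g⁻¹) * u = u * (g * h0 * g⁻¹) := comm_cen _ hL' u (c.full.sylU.le hu')
  have h4 : (g * h0 * g⁻¹) * r * (g * h0 * g⁻¹)⁻¹ = r * (z * z1) := by
    rw [hr2]
    calc (g * h0 * g⁻¹) * (u * z) * (g * h0 * g⁻¹)⁻¹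
        = ((g * h0 * g⁻¹) * u) * z * (g * h0 * g⁻¹)⁻¹ := by group
      _ = (u * (g * h0 * g⁻¹)) * z * (g * h0 * g⁻¹)⁻¹ := by rw [h3]
      _ = u * z1 := by rw [hz1]; group
      _ = u * (z * z) * z1 := by rw [hzz, mul_one]
      _ = u * z * (z * z1) := by group
  refine ⟨z * z1, mul_mem hzr hz1r, ?_, ?_⟩
  · intro e3
    have e4 : z1 = z := by
      have : z1 = z⁻¹ := (inv_eq_of_mul_eq_one_right e3).symm
      rw [this]
      exact inv_eq_of_mul_eq_one_left hzz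
    have h5 : g⁻¹ * z * g = 1 := by
      apply hhc _ (hrt z hzr)
      have e5 : (g * h0 * g⁻¹) * z = z * (g * h0 * g⁻¹) := by
        rw [hz1] at e4
        exact mul_inv_eq_iff_eq_mul.mp e4
      calc h0 * (g⁻¹ * z * g) = g⁻¹ * ((g * h0 * g⁻¹) * z) * g := by group
        _ = g⁻¹ * (z * (g * h0 * g⁻¹)) * g := by rw [e5]
        _ = _ := by group
    have h6 : z = 1 := by
      calc z = g * (g⁻¹ * z * g) * g⁻¹ := by group
        _ = 1 := by rw [h5]; group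
    apply hr1
    apply c.QU h hr'
    rw [hr2, h6, mul_one]; exact hu'
  · have h5 : v * (r * (z * z1)) = r * (z * z1) * v := by
      apply comm_u (c.full.sylQ.le hr')
      · exact (hr.loc x hx hx1).HK (hV hv)
      · by_cases e3 : z * z1 = 1
        · rw [e3, mul_one, one_mul]
        · exact (hr.loc _ (mul_mem hzr hz1r) e3).Hw _ (hV hv)
    calc v * (g * h0 * g⁻¹) * r * (v * (g * h0 * g⁻¹))⁻¹
        = v * ((g * h0 * g⁻¹) * r * (g * h0 * g⁻¹)⁻¹) * v⁻¹ := by group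
      _ = v * (r * (z * z1)) * v⁻¹ := by rw [h4]
      _ = r * (z * z1) * v * v⁻¹ := by rw [h5]
      _ = _ := by group

/-- **the mover of a configuration of type `r`** -/
theorem mover (c : Cfg K L Q U S X) (h : SpX K S X H Xl Xs Pl Ps A p) (hr : Rt K S X Xr Pr A) (hX : ¬ X ≤ Xr)
    {q x : G} (hu : q * x ∈ U) (hq : q ∈ Q) (hx : x ∈ Xr) (hx1 : x ≠ 1) :
    ∃ y : G, (∀ a ∈ A, y * a = a * y) ∧ ∀ q ∈ Q, q ≠ 1 → ∃ x ∈ Xr, x ≠ 1 ∧ y * q * y⁻¹ = q * x := by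
  obtain ⟨hall, hPL⟩ := c.typ h hr hu hq hx hx1
  obtain ⟨g, gK, gQ, gS⟩ := c.exists_g h (hr.SP.trans hPL)
  have gX := X_cj h gS
  have hxX : g⁻¹ * x * g ∈ X := by
    have := hr.XX hx
    rwa [← gX, mem_cj] at this
  by_cases h1 : g⁻¹ * x * g ∈ Xl
  · exact c.mover_aux h hr h.l gK gQ gS hall hPL hu hq hx hx1 h1
  by_cases h2 : g⁻¹ * x * g ∈ Xs
  · exact c.mover_aux h hr h.s gK gQ gS hall hPL hu hq hx hx1 h2
  exfalso
  have h3 : cj g⁻¹ Pr ≤ H := by
    apply (h.loc _ hxX h1 h2).res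
    · rw [cj_le_iff', gK]; exact hPL
    · exact cj_perf (hr.loc x hx hx1).perf
    · intro y hy
      rw [mem_cj, inv_inv] at hy
      have h2 := (hr.loc x hx hx1).Hw _ hy
      calc y * (g⁻¹ * x * g) = g⁻¹ * ((g * y * g⁻¹) * x) * g := by group
        _ = g⁻¹ * (x * (g * y * g⁻¹)) * g := by rw [h2]
        _ = _ := by group
  apply hX
  intro z hz
  obtain ⟨y, hy, -, hyc⟩ := hr.tor
  apply hyc z hz
  have h4 : g⁻¹ * y * g ∈ H := by
    apply h3
    have := mem_cj_mul (g := g⁻¹) hy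
    rwa [inv_inv] at this
  have h5 : g⁻¹ * z * g ∈ X := by rwa [← gX, mem_cj] at hz
  have h6 := h.HX _ h4 _ h5
  calc y * z = g * ((g⁻¹ * y * g) * (g⁻¹ * z * g)) * g⁻¹ := by group
    _ = g * ((g⁻¹ * z * g) * (g⁻¹ * y * g)) * g⁻¹ := by rw [h6]
    _ = z * y := by group

omit [Finite G] in
/-- elements of `X` and elements of `X` commute -/
theorem xx (h : SpX K S X H Xl Xs Pl Ps A p) {a b : G} (ha : a ∈ X) (hb : b ∈ X) : a * b = b * a :=
  h.Xc a (h.XS ha) b hb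

/-- **from mixed type to type `l`** -/
theorem mixed (c : Cfg K L Q U S X) (h : SpX K S X H Xl Xs Pl Ps A p)
    (h4 : ∃ a ∈ U, ∃ b ∈ U, a ≠ 1 ∧ b ≠ 1 ∧ a ≠ b)
    (hm : ∀ q ∈ Q, ∀ x ∈ X, q * x ∈ U → x ≠ 1 → x ∉ Xl ∧ x ∉ Xs) :
    ∃ m : G, Cfg K (cj m K) Q (cj m Q) S X ∧ ∃ q ∈ Q, ∃ x ∈ Xl, x ≠ 1 ∧ q * x ∈ cj m Q := by
  have hL := c.secL h
  -- `H ≤ L`
  obtain ⟨u1, hu1, u2, hu2, n1, n2, n12⟩ := h4
  obtain ⟨q1, hq1, x1, hx1, e1⟩ := c.UX u1 hu1
  obtain ⟨q2, hq2, x2, hx2, e2⟩ := c.UX u2 hu2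
  have ux : ∀ {u q x : G}, u ∈ U → q ∈ Q → u = q * x → u ≠ 1 → x ≠ 1 := by
    intro u q x hu hq e hn hx
    apply hn
    apply c.QU h _ hu
    rw [e, hx, mul_one]; exact hq
  have m1 := hm q1 hq1 x1 hx1 (e1 ▸ hu1) (ux hu1 hq1 e1 n1)
  have hHK : H ≤ K := (h.loc x1 hx1 m1.1 m1.2).HK
  have hHU : ∀ y ∈ H, ∀ u ∈ U, y * u = u * y := by
    intro y hy u hu
    obtain ⟨q, hq, x, hx, e⟩ := c.UX u hu
    rw [e]
    exact comm_u (c.full.sylQ.le hq) (hHK hy) (h.HX y hy x hx)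
  have hHN : H ≤ normalizer (L : Set G) := fun y hy =>
    hL.tight.mem (c.full.sylU.le hu1) (c.u_two h hu1 n1) (hHU y hy u1 hu1)
  have hloc1 := h.loc x1 hx1 m1.1 m1.2
  have hHL : H ≤ L := hL.le_of_two c.full.sylU hHN hloc1.perf hloc1.two hHU
  have hXL : X ≤ L := h.XH.trans hHL
  -- `S ∩ C(L) = 1`
  have hSD : ∀ s ∈ S, s ∈ centralizer (L : Set G) → s = 1 :=
    fun s hs hsL => inf_eq_one h hL h.syl.two c.SL (h.syl.le.trans le_normalizer) le_rfl s hs (h.syl.le hs) hsL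
  -- `S₁ = S ∩ L C(L)` has index at most two in `S`
  set S1 := S ⊓ (L ⊔ centralizer (L : Set G)) with hS1
  have hS1c : Nat.card ↥S ≤ 2 * Nat.card ↥S1 := by
    apply card_le_half inf_le_left
    intro a ha b hb haS hbS
    refine ⟨mul_mem ha hb, ?_⟩
    rcases hL.cyc a (c.SL ha) b (c.SL hb) (mem_sup_left (hHL (h.ele a ha))) (mem_sup_left (hHL (h.ele b hb)))
      with h1 | h1 | h1
    · exact absurd ⟨ha, h1⟩ haS
    · exact absurd ⟨hb, h1⟩ hbS
    · exact h1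
  -- the projection `T` of `S₁` to `L`
  let T : Subgroup G :=
    { carrier := {l | l ∈ L ∧ ∃ d ∈ centralizer (L : Set G), l * d ∈ S}
      one_mem' := ⟨one_mem _, 1, one_mem _, by rw [one_mul]; exact one_mem _⟩
      mul_mem' := by
        rintro a b ⟨ha, d, hd, had⟩ ⟨hb, f, hf, hbf⟩
        refine ⟨mul_mem ha hb, d * f, mul_mem hd hf, ?_⟩
        have e : a * b * (d * f) = (a * d) * (b * f) := by
          have := comm_cen b hb d hd
          calc a * b * (d * f) = a * (b * d) * f := by group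
            _ = a * (d * b) * f := by rw [this]
            _ = _ := by group
        rw [e]; exact mul_mem had hbf
      inv_mem' := by
        rintro a ⟨ha, d, hd, had⟩
        refine ⟨inv_mem ha, d⁻¹, inv_mem hd, ?_⟩
        have e : a⁻¹ * d⁻¹ = (a * d)⁻¹ := by rw [comm_cen a ha d hd]; group
        rw [e]; exact inv_mem had }
  have hTL : T ≤ L := fun a ha => ha.1
  have hT2 : IsPGroup 2 ↥T := by
    rintro ⟨l, hl, d, hd, hld⟩
    obtain ⟨k, hk⟩ := pow_eq_one_of_isPGroup h.syl.two hld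
    refine ⟨k, Subtype.ext ?_⟩
    show l ^ 2 ^ k = 1
    have h1 : (l * d) ^ 2 ^ k = l ^ 2 ^ k * d ^ 2 ^ k := (show Commute l d from comm_cen l hl d hd).mul_pow _
    rw [hk] at h1
    apply hL.ctr _ (pow_mem hl _)
    rw [eq_inv_of_mul_eq_one_left h1.symm]
    exact inv_mem (pow_mem hd _)
  have hTc : Nat.card ↥S1 ≤ Nat.card ↥T := by
    have hex : ∀ s : ↥S1, ∃ l : ↥T, ∃ d ∈ centralizer (L : Set G), (s : G) = l * d := by
      rintro ⟨s, hs, hs'⟩
      obtain ⟨l, hl, d, hd, rfl⟩ := hL.dec hs'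
      exact ⟨⟨l, hl, d, hd, hs⟩, d, hd, rfl⟩
    choose f d hd hf using hex
    apply Nat.card_le_card_of_injective f
    intro s t hst
    apply Subtype.ext
    have h1 : (s : G)⁻¹ * t = (d s)⁻¹ * d t := by
      rw [hf s, hf t, hst]; group
    have h2 := hSD _ (mul_mem (inv_mem s.2.1) t.2.1) (by
      rw [h1]; exact mul_mem (inv_mem (hd s)) (hd t))
    exact inv_mul_eq_one.mp h2
  have hTX : ∀ t ∈ T, ∀ x ∈ X, t * x = x * t := by
    rintro t ⟨ht, d, hd, htd⟩ x hx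
    have h1 := h.Xc _ htd x hx
    have h2 := comm_cen x (hXL hx) d hd
    have h3 : t * x * d = x * t * d := by
      calc t * x * d = t * (x * d) := by group
        _ = t * (d * x) := by rw [h2]
        _ = t * d * x := by group
        _ = x * (t * d) := h1
        _ = _ := by group
    exact mul_right_cancel h3
  -- a Sylow 2-subgroup of `L` above `T`
  obtain ⟨R, hR, hTR⟩ := exists_isSyl hT2 hTL
  obtain ⟨g, gK, gQ, gS⟩ := c.exists_gT h hR
  have hRc : Nat.card ↥R ≤ 2 * Nat.card ↥T := by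
    rw [← gS, card_cj]; omega
  have hXT : X ≤ T := fun x hx => ⟨hXL hx, 1, one_mem _, by rw [mul_one]; exact h.XS hx⟩
  -- `X = Z(R)`
  have hgX : ∀ x ∈ X, g⁻¹ * x * g ∈ X := by
    intro x hx
    by_contra hcon
    have hxS : g⁻¹ * x * g ∈ S := by
      have := hTR (hXT hx)
      rwa [← gS, mem_cj] at this
    obtain ⟨a, ha, b, hb, ca, cb, cab⟩ := h.line _ hxS (by
      have e : g⁻¹ * x * g * (g⁻¹ * x * g) = g⁻¹ * (x * x) * g := by group
      rw [e, h.sq x hx]; group) hcon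
    have key : ∀ a : G, g * a * g⁻¹ ∈ T → a * (g⁻¹ * x * g) = g⁻¹ * x * g * a := by
      intro a ha
      have h1 := hTX _ ha x hx
      calc a * (g⁻¹ * x * g) = g⁻¹ * ((g * a * g⁻¹) * x) * g := by group
        _ = g⁻¹ * (x * (g * a * g⁻¹)) * g := by rw [h1]
        _ = _ := by group
    have hmem : ∀ a ∈ S, g * a * g⁻¹ ∈ R := by
      intro a ha
      rw [← gS]; exact mem_cj_mul ha
    have h1 := mem_of_half hTR hRc (hmem a ha) (hmem b hb) (fun h1 => ca (key a h1)) (fun h1 => cb (key b h1))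
    apply cab
    apply key
    have e : g * (a⁻¹ * b) * g⁻¹ = (g * a * g⁻¹)⁻¹ * (g * b * g⁻¹) := by group
    rw [e]; exact h1
  have gX : cj g X = X := by
    have h1 : X ≤ cj g X := by
      intro x hx
      rw [mem_cj]; exact hgX x hx
    exact (eq_of_le_of_card_ge h1 (by rw [card_cj])).symm
  -- `z' ∈ (X_l)^g`
  obtain ⟨z0, hz0, hz01⟩ : ∃ z0 : G, z0 ∈ Xl ∧ z0 ≠ 1 := by
    by_contra hcon
    push Not at hcon
    apply h.l.ne
    rw [eq_bot_iff]
    intro x hx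
    rw [Subgroup.mem_bot]
    exact hcon x hx
  set z := g * z0 * g⁻¹ with hz
  have hzX : z ∈ X := by
    rw [← gX]; exact mem_cj_mul (h.l.XX hz0)
  have hz1 : z ≠ 1 := by
    intro e
    apply hz01
    calc z0 = g⁻¹ * z * g := by rw [hz]; group
      _ = 1 := by rw [e]; group
  -- some `u = q x` with `x z` mixed
  have hex : ∃ q ∈ Q, ∃ x ∈ X, x ≠ 1 ∧ q * x ∈ U ∧ x * z ∉ Xl ∧ x * z ∉ Xs := by
    by_contra hcon
    push Not at hcon
    have hzz := h.sq z hzX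
    -- two elements
    have pair : ∀ {Y : Subgroup G}, (Y = Xl ∨ Y = Xs) → ∀ {u q x u' q' x' : G}, u ∈ U → q ∈ Q → x ∈ X → u = q * x →
        u' ∈ U → q' ∈ Q → x' ∈ X → u' = q' * x' → u ≠ u' → x * z ∈ Y → x' * z ∈ Y → False := by
      intro Y hY u q x u' q' x' hu hq hx e hu' hq' hx' e' hne h1 h2
      have h3 : x * z * (x' * z) = x * x' := by
        calc x * z * (x' * z) = x * (z * x') * z := by group
          _ = x * (x' * z) * z := by rw [xx h hzX hx']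
          _ = x * x' * (z * z) := by group
          _ = x * x' := by rw [hzz, mul_one]
      have h4 : x * x' ∈ Y := by rw [← h3]; exact mul_mem h1 h2
      have h5 : u * u' = q * q' * (x * x') := by
        rw [e, e']
        have := qx h (c.full.sylQ.le hq') hx
        calc q * x * (q' * x') = q * (x * q') * x' := by group
          _ = q * (q' * x) * x' := by rw [this]
          _ = _ := by group
      have h6 : x * x' ≠ 1 := by
        apply ux (mul_mem hu hu') (mul_mem hq hq') h5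
        intro e3
        apply hne
        have : u' = u⁻¹ := (inv_eq_of_mul_eq_one_right e3).symm
        rw [this]
        exact (inv_eq_of_mul_eq_one_left (c.u_sq h hu)).symm
      have h7 := hm (q * q') (mul_mem hq hq') (x * x') (mul_mem hx hx') (by rw [← h5]; exact mul_mem hu hu') h6
      rcases hY with rfl | rfl
      · exact h7.1 h4
      · exact h7.2 h4
    have n12' : u1 * u2 ≠ 1 := by
      intro e3
      apply n12
      have : u2 = u1⁻¹ := (inv_eq_of_mul_eq_one_right e3).symm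
      rw [this]
      exact (inv_eq_of_mul_eq_one_left (c.u_sq h hu1)).symm
    obtain ⟨q3, hq3, x3, hx3, e3⟩ := c.UX _ (mul_mem hu1 hu2)
    have d1 : x1 * z ∈ Xl ∨ x1 * z ∈ Xs := by
      by_contra hc; push Not at hc
      exact hc.2 (hcon q1 hq1 x1 hx1 (ux hu1 hq1 e1 n1) (e1 ▸ hu1) hc.1)
    have d2 : x2 * z ∈ Xl ∨ x2 * z ∈ Xs := by
      by_contra hc; push Not at hc
      exact hc.2 (hcon q2 hq2 x2 hx2 (ux hu2 hq2 e2 n2) (e2 ▸ hu2) hc.1)
    have d3 : x3 * z ∈ Xl ∨ x3 * z ∈ Xs := by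
      by_contra hc; push Not at hc
      exact hc.2 (hcon q3 hq3 x3 hx3 (ux (mul_mem hu1 hu2) hq3 e3 n12') (e3 ▸ (mul_mem hu1 hu2)) hc.1)
    have n13 : u1 ≠ u1 * u2 := fun e => n2 (left_eq_mul.mp e)
    have n23 : u2 ≠ u1 * u2 := fun e => n1 (right_eq_mul.mp e)
    have p12 : ∀ {Y : Subgroup G}, (Y = Xl ∨ Y = Xs) → x1 * z ∈ Y → x2 * z ∈ Y → False :=
      fun hY h1 h2 => pair hY hu1 hq1 hx1 e1 hu2 hq2 hx2 e2 n12 h1 h2
    have p13 : ∀ {Y : Subgroup G}, (Y = Xl ∨ Y = Xs) → x1 * z ∈ Y → x3 * z ∈ Y → False :=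
      fun hY h1 h2 => pair hY hu1 hq1 hx1 e1 (mul_mem hu1 hu2) hq3 hx3 e3 n13 h1 h2
    have p23 : ∀ {Y : Subgroup G}, (Y = Xl ∨ Y = Xs) → x2 * z ∈ Y → x3 * z ∈ Y → False :=
      fun hY h1 h2 => pair hY hu2 hq2 hx2 e2 (mul_mem hu1 hu2) hq3 hx3 e3 n23 h1 h2
    rcases d1 with d1 | d1 <;> rcases d2 with d2 | d2 <;> rcases d3 with d3 | d3
    · exact p12 (Or.inl rfl) d1 d2
    · exact p12 (Or.inl rfl) d1 d2
    · exact p13 (Or.inl rfl) d1 d3
    · exact p23 (Or.inr rfl) d2 d3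
    · exact p23 (Or.inl rfl) d2 d3
    · exact p13 (Or.inr rfl) d1 d3
    · exact p12 (Or.inr rfl) d1 d2
    · exact p12 (Or.inr rfl) d1 d2
  obtain ⟨q, hq, x, hx, hx1', hqx, hxl, hxs⟩ := hex
  obtain ⟨hml, hms⟩ := hm q hq x hx hqx hx1'
  obtain ⟨k, hk, hkS, hkx⟩ := h.mix x hx (x * z) (mul_mem hx hzX) hml hms hxl hxs
  have hkX := X_cj h hkS
  -- `k` moves `u = q x` to `u z`
  have hku : k * (q * x) * k⁻¹ = q * x * z := by
    have h1 := comm_cen k hk q (c.full.sylQ.le hq)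
    calc k * (q * x) * k⁻¹ = (k * q) * x * k⁻¹ := by group
      _ = (q * k) * x * k⁻¹ := by rw [h1]
      _ = q * (k * x * k⁻¹) := by group
      _ = q * x * z := by rw [hkx]; group
  have hzL : z ∈ L := hXL hzX
  -- `k ∉ N(L)`
  have hkL : k ∉ normalizer (L : Set G) := by
    intro hkN
    have h1 := centralizer_conj_mem hkN (c.full.sylU.le hqx)
    rw [hku] at h1
    apply hz1
    apply hL.ctr z hzL
    have h2 := mul_mem (inv_mem (c.full.sylU.le hqx)) h1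
    rwa [inv_mul_cancel_left] at h2
  -- `U^k ≤ Q X`
  have hUk : ∀ v ∈ cj k U, ∃ q ∈ Q, ∃ x ∈ X, v = q * x := by
    intro v hv
    rw [mem_cj] at hv
    obtain ⟨q', hq', x', hx', e⟩ := c.UX _ hv
    refine ⟨q', hq', k * x' * k⁻¹, ?_, ?_⟩
    · rw [← hkX]; exact mem_cj_mul hx'
    · have h1 := comm_cen k hk q' (c.full.sylQ.le hq')
      calc v = k * (k⁻¹ * v * k) * k⁻¹ := by group
        _ = k * (q' * x') * k⁻¹ := by rw [e]
        _ = (k * q') * x' * k⁻¹ := by group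
        _ = (q' * k) * x' * k⁻¹ := by rw [h1]
        _ = _ := by group
  have hQg : ∀ v : G, v ∈ Q → g * v * g⁻¹ ∈ U := by
    intro v hv
    rw [← gQ]; exact mem_cj_mul hv
  have hUg : ∀ v : G, v ∈ U → g⁻¹ * v * g ∈ Q := by
    intro v hv
    rwa [← gQ, mem_cj] at hv
  -- membership in `Q^m`
  have hmQ : ∀ v : G, v ∈ cj (g⁻¹ * k * g) Q ↔ g * v * g⁻¹ ∈ cj k U := by
    intro v
    rw [mem_cj, mem_cj, ← gQ, mem_cj]
    have e : (g⁻¹ * k * g)⁻¹ * v * (g⁻¹ * k * g) = g⁻¹ * (k⁻¹ * (g * v * g⁻¹) * k) * g := by group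
    rw [e]
  refine ⟨g⁻¹ * k * g, ⟨⟨⟨g⁻¹ * k * g, ?_, rfl⟩, c.full.sylQ, ?_, ?_⟩, ?_, ?_⟩, g⁻¹ * (q * x) * g, hUg _ hqx,
    g⁻¹ * z * g, ?_, ?_, ?_⟩
  · intro h1
    apply hkL
    rw [← gK, normalizer_cj, mem_cj]; exact h1
  · rw [centralizer_cj]; exact c.full.sylQ.cj _
  · intro r hr v hv
    rw [hmQ] at hv
    obtain ⟨q', hq', x', hx', e⟩ := hUk _ hv
    have h1 := hQg r hr
    have h2 := c.full.comm q' hq' _ h1
    have h3 := comm_cen x' (hXL hx') _ (c.full.sylU.le h1)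
    calc r * v = g⁻¹ * ((g * r * g⁻¹) * (g * v * g⁻¹)) * g := by group
      _ = g⁻¹ * ((g * r * g⁻¹) * q' * x') * g := by rw [e]; group
      _ = g⁻¹ * (q' * (g * r * g⁻¹) * x') * g := by rw [h2]
      _ = g⁻¹ * (q' * ((g * r * g⁻¹) * x')) * g := by group
      _ = g⁻¹ * (q' * (x' * (g * r * g⁻¹))) * g := by rw [h3]
      _ = g⁻¹ * ((q' * x') * (g * r * g⁻¹)) * g := by group
      _ = g⁻¹ * ((g * v * g⁻¹) * (g * r * g⁻¹)) * g := by rw [e]
      _ = v * r := by group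
  · -- `S ≤ N(K^m)`
    have hkL' : SecL K (cj k L) := by
      obtain ⟨a, -, hLa⟩ := c.full.conj
      rw [hLa, ← cj_mul]; exact sec h _
    have hquz : q * x * z ∈ centralizer ((cj k L : Subgroup G) : Set G) := by
      rw [← hku, centralizer_cj]
      exact mem_cj_mul (c.full.sylU.le hqx)
    have hquz1 : q * x * z ≠ 1 := by
      intro e
      rw [← hku] at e
      have h1 : q * x = 1 := by
        calc q * x = k⁻¹ * (k * (q * x) * k⁻¹) * k := by group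
          _ = 1 := by rw [e]; group
      exact hx1' (uniq h (c.full.sylQ.le hq) hx (one_mem _) (one_mem _)
        (by rw [h1, one_mul])).2
    have hquz2 : orderOf (q * x * z) = 2 := by
      apply orderOf_eq_prime _ hquz1
      rw [pow_two]
      have h1 := comm_cen z hzL _ (c.full.sylU.le hqx)
      calc q * x * z * (q * x * z) = q * x * (z * (q * x)) * z := by group
        _ = q * x * (q * x * z) * z := by rw [h1]
        _ = (q * x * (q * x)) * (z * z) := by group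
        _ = 1 := by rw [c.u_sq h hqx, h.sq z hzX, one_mul]
    intro s hs
    have hR' : g * s * g⁻¹ ∈ R := by rw [← gS]; exact mem_cj_mul hs
    have h1 : g * s * g⁻¹ ∈ normalizer ((cj k L : Subgroup G) : Set G) := by
      apply hkL'.tight.mem hquz hquz2
      have h2 := comm_cen _ (hR.le hR') _ (c.full.sylU.le hqx)
      have h3 : g * s * g⁻¹ * z = z * (g * s * g⁻¹) := by
        have h4 := h.Xc s hs _ (hgX z hzX)
        calc g * s * g⁻¹ * z = g * (s * (g⁻¹ * z * g)) * g⁻¹ := by group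
          _ = g * ((g⁻¹ * z * g) * s) * g⁻¹ := by rw [h4]
          _ = _ := by group
      calc g * s * g⁻¹ * (q * x * z) = (g * s * g⁻¹ * (q * x)) * z := by group
        _ = (q * x) * (g * s * g⁻¹ * z) := by rw [h2]; group
        _ = (q * x) * (z * (g * s * g⁻¹)) := by rw [h3]
        _ = _ := by group
    have e : cj (g⁻¹ * k * g) K = cj g⁻¹ (cj k L) := by
      rw [← gK, ← cj_mul, ← cj_mul]
    rw [e, normalizer_cj, mem_cj, inv_inv]
    exact h1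
  · intro v hv
    rw [hmQ] at hv
    obtain ⟨q', hq', x', hx', e⟩ := hUk _ hv
    obtain ⟨u', hu', x'', hx'', e'⟩ := c.QX h q' hq'
    have h1 : q' = u' * x''⁻¹ := by rw [e']; group
    refine ⟨g⁻¹ * u' * g, hUg _ hu', g⁻¹ * (x''⁻¹ * x') * g, hgX _ (mul_mem (inv_mem hx'') hx'), ?_⟩
    calc v = g⁻¹ * (g * v * g⁻¹) * g := by group
      _ = g⁻¹ * (u' * x''⁻¹ * x') * g := by rw [e, h1]
      _ = _ := by group
  · have e : g⁻¹ * z * g = z0 := by rw [hz]; group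
    rw [e]; exact hz0
  · intro e
    apply hz1
    calc z = g * (g⁻¹ * z * g) * g⁻¹ := by group
      _ = 1 := by rw [e]; group
  · rw [hmQ]
    have e : g * (g⁻¹ * (q * x) * g * (g⁻¹ * z * g)) * g⁻¹ = k * (q * x) * k⁻¹ := by rw [hku]; group
    rw [e]
    exact mem_cj_mul hqx

end Cfg

/-- **the mover** -/
theorem main (h : SpX K S X H Xl Xs Pl Ps A p) (hp : FullPair K L Q U) {S' : Subgroup G} (hS' : IsSyl S' K)
    (hS'L : S' ≤ normalizer (L : Set G)) (h4 : ∃ a ∈ Q, ∃ b ∈ Q, a ≠ 1 ∧ b ≠ 1 ∧ a ≠ b) :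
    (∀ q ∈ Q, q * q = 1) ∧ ∃ y : G, (∀ a ∈ A, y * a = a * y) ∧
      ((∀ q ∈ Q, q ≠ 1 → ∃ x ∈ Xl, x ≠ 1 ∧ y * q * y⁻¹ = q * x) ∨
        ∀ q ∈ Q, q ≠ 1 → ∃ x ∈ Xs, x ≠ 1 ∧ y * q * y⁻¹ = q * x) := by
  have hXl : ¬ X ≤ Xl := by
    intro h1
    apply h.s.ne
    rw [eq_bot_iff]
    intro x hx
    rw [Subgroup.mem_bot]
    exact h.disj x (h1 (h.s.XX hx)) hx
  have hXs : ¬ X ≤ Xs := by
    intro h1
    apply h.l.ne
    rw [eq_bot_iff]
    intro x hx
    rw [Subgroup.mem_bot]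
    exact h.disj x hx (h1 (h.l.XX hx))
  -- the two pure types
  have pure : ∀ {L' U' : Subgroup G}, Cfg K L' Q U' S X → (∃ q ∈ Q, ∃ x ∈ X, x ≠ 1 ∧ q * x ∈ U' ∧ (x ∈ Xl ∨ x ∈ Xs)) →
      ∃ y : G, (∀ a ∈ A, y * a = a * y) ∧ ((∀ q ∈ Q, q ≠ 1 → ∃ x ∈ Xl, x ≠ 1 ∧ y * q * y⁻¹ = q * x) ∨
        ∀ q ∈ Q, q ≠ 1 → ∃ x ∈ Xs, x ≠ 1 ∧ y * q * y⁻¹ = q * x) := by
    rintro L' U' c ⟨q, hq, x, hx, hx1, hqx, hx' | hx'⟩
    · obtain ⟨y, hy, hy'⟩ := c.mover h h.l hXl hqx hq hx' hx1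
      exact ⟨y, hy, Or.inl hy'⟩
    · obtain ⟨y, hy, hy'⟩ := c.mover h h.s hXs hqx hq hx' hx1
      exact ⟨y, hy, Or.inr hy'⟩
  obtain ⟨k, -, c⟩ := exists_conf h hp hS' hS'L
  refine ⟨fun q hq => c.q_sq h hq, ?_⟩
  by_cases hpure : ∃ q ∈ Q, ∃ x ∈ X, x ≠ 1 ∧ q * x ∈ cj k U ∧ (x ∈ Xl ∨ x ∈ Xs)
  · exact pure c hpure
  push Not at hpure
  -- two elements of `U`
  obtain ⟨a, ha, b, hb, ha1, hb1, hab⟩ := h4
  obtain ⟨u, hu, x, hx, e⟩ := c.QX h a ha
  obtain ⟨v, hv, x', hx', e'⟩ := c.QX h b hb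
  have hne : ∀ {q u x : G}, q ∈ Q → x ∈ X → u = q * x → q ≠ 1 → u ≠ 1 := by
    intro q u x hq hx e hq1 hu1
    apply hq1
    exact (Cfg.uniq h (c.full.sylQ.le hq) hx (one_mem _) (one_mem _) (by rw [← e, hu1, one_mul])).1
  obtain ⟨m, cm, q, hq, z, hz, hz1, hqz⟩ := c.mixed h
    ⟨u, hu, v, hv, hne ha hx e ha1, hne hb hx' e' hb1, fun h1 => hab
      (Cfg.uniq h (c.full.sylQ.le ha) hx (c.full.sylQ.le hb) hx' (by rw [← e, ← e', h1])).1⟩
    (fun q hq x hx hqx hx1 => ⟨fun h1 => (hpure q hq x hx hx1 hqx).1 h1, fun h1 => (hpure q hq x hx hx1 hqx).2 h1⟩)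
  exact pure cm ⟨q, hq, z, h.l.XX hz, hz1, hqz, Or.inl hz⟩

end Cfsg.Agent.OddHalf.D4.SpN.Conf
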