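import Cfsg.Agent.OddHalf.D4.SpN.Mover

/-!
# ODD, D4, row `Sp_2n(q)`: transport of the facts along an injective homomorphism (helper550)

`SpI S X H Xl Xs Pl Ps A p` : the facts on the group itself (`K = ⊤`); `SpI.map` : `SpX` for the image.
-/

set_option autoImplicit false

namespace Cfsg.Agent.OddHalf.D4.SpN.Conf

open Cfsg Subgroup Cfsg.Agent.OddHalf.D4 Cfsg.Agent.OddHalf.D4.Basic Cfsg.Agent.OddHalf.D4.SpN.Kf
open Cfsg.Agent.OddHalf.D4.CommConj (Tight cj mem_cj cj_mul card_cj cj_eq_of_mem_normalizer mem_normalizer_of_cj_eq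
  mem_cj_mul)

open scoped commutatorElement

/-- The facts on the group `Y` itself. -/
structure SpI {Y : Type*} [Group Y] (S X H Xl Xs Pl Ps A : Subgroup Y) (p : ℕ) : Prop where
  syl : IsSyl S ⊤
  XS : X ≤ S
  Xc : ∀ s ∈ S, ∀ x ∈ X, s * x = x * s
  sq : ∀ x ∈ X, x * x = 1
  line : ∀ x ∈ S, x * x = 1 → x ∉ X → ∃ a ∈ S, ∃ b ∈ S, a * x ≠ x * a ∧ b * x ≠ x * b ∧ a⁻¹ * b * x ≠ x * (a⁻¹ * b)
  XH : X ≤ H
  HX : ∀ y ∈ H, ∀ x ∈ X, y * x = x * y
  loc : ∀ w ∈ X, w ∉ Xl → w ∉ Xs → LocX ⊤ w H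
  ele : ∀ s ∈ S, s * s ∈ H
  Hn : ∀ s ∈ S, ∀ y ∈ H, s * y * s⁻¹ ∈ H
  l : Rt ⊤ S X Xl Pl A
  s : Rt ⊤ S X Xs Ps A
  disj : ∀ x ∈ Xl, x ∈ Xs → x = 1
  mix : ∀ x ∈ X, ∀ y ∈ X, x ∉ Xl → x ∉ Xs → y ∉ Xl → y ∉ Xs → ∃ k : Y, (∀ s, s ∈ S ↔ k * s * k⁻¹ ∈ S) ∧ k * x * k⁻¹ = y
  prime : p.Prime
  odd : p ≠ 2
  pgrp : IsPGroup p ↥A

variable {Y G : Type*} [Group Y] [Group G] {f : Y →* G}

theorem map_comm (f : Y →* G) {a b : Y} (h : a * b = b * a) : f a * f b = f b * f a := by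
  rw [← map_mul, ← map_mul, h]

theorem comm_of_map (hf : Function.Injective f) {a b : Y} (h : f a * f b = f b * f a) : a * b = b * a := by
  apply hf
  rw [map_mul, map_mul, h]

theorem mem_map_iff (hf : Function.Injective f) {A : Subgroup Y} {a : Y} : f a ∈ A.map f ↔ a ∈ A := by
  constructor
  · rintro ⟨b, hb, e⟩
    rw [← hf e]; exact hb
  · intro h; exact ⟨a, h, rfl⟩

theorem le_comap_closure (hf : Function.Injective f) {A : Subgroup Y}
    (h : A ≤ closure {x | x ∈ A ∧ ∃ k : ℕ, x ^ 2 ^ k = 1}) :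
    A.map f ≤ closure {x | x ∈ A.map f ∧ ∃ k : ℕ, x ^ 2 ^ k = 1} := by
  rintro _ ⟨a, ha, rfl⟩
  have h1 : f a ∈ (closure {x | x ∈ A ∧ ∃ k : ℕ, x ^ 2 ^ k = 1}).map f := ⟨a, h ha, rfl⟩
  rw [MonoidHom.map_closure] at h1
  refine (Subgroup.closure_mono ?_) h1
  rintro _ ⟨x, ⟨hx, k, hk⟩, rfl⟩
  exact ⟨⟨x, hx, rfl⟩, k, by rw [← map_pow, hk, map_one]⟩

/-- subgroups of `f(A)` are images -/
theorem exists_eq_map (hf : Function.Injective f) {A : Subgroup Y} {P : Subgroup G} (hP : P ≤ A.map f) :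
    (P.comap f).map f = P ∧ P.comap f ≤ A := by
  constructor
  · apply Subgroup.map_comap_eq_self
    refine hP.trans ?_
    rintro _ ⟨a, -, rfl⟩
    exact ⟨a, rfl⟩
  · intro x hx
    exact (mem_map_iff hf).mp (hP hx)

theorem comap_perf (hf : Function.Injective f) {P : Subgroup G} (hm : (P.comap f).map f = P) (hP : P ≤ ⁅P, P⁆) :
    P.comap f ≤ ⁅P.comap f, P.comap f⁆ := by
  intro x hx
  have h1 : f x ∈ ⁅P, P⁆ := hP hx
  rw [← hm, ← Subgroup.map_commutator] at h1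
  exact (mem_map_iff hf).mp h1

theorem locX_map (hf : Function.Injective f) {w : Y} {M : Subgroup Y} (h : LocX ⊤ w M) :
    LocX f.range (f w) (M.map f) where
  HK := by rintro _ ⟨a, -, rfl⟩; exact ⟨a, rfl⟩
  Hw := by rintro _ ⟨a, ha, rfl⟩; exact map_comm f (h.Hw a ha)
  mem := ⟨w, h.mem, rfl⟩
  perf := by
    rw [← Subgroup.map_commutator]
    exact map_mono h.perf
  two := le_comap_closure hf h.two
  res := by
    intro P hP hPP hPw
    rw [MonoidHom.range_eq_map] at hP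
    obtain ⟨hm, -⟩ := exists_eq_map hf hP
    rw [← hm]
    apply map_mono
    apply h.res _ le_top (comap_perf hf hm hPP)
    intro y hy
    exact comm_of_map hf (hPw _ hy)
  ind := by
    intro A B hA hB hc hd hall
    obtain ⟨mA, lA⟩ := exists_eq_map hf hA
    obtain ⟨mB, lB⟩ := exists_eq_map hf hB
    rcases h.ind _ _ lA lB (fun a ha b hb => comm_of_map hf (hc _ ha _ hb)) (by
        rw [eq_bot_iff]
        rintro x ⟨hx1, hx2⟩
        rw [Subgroup.mem_bot]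
        have h1 : f x ∈ A ⊓ B := ⟨hx1, hx2⟩
        rw [hd, Subgroup.mem_bot] at h1
        exact hf (by rw [h1, map_one])) (by
        intro y hy
        obtain ⟨a, ha, b, hb, e⟩ := hall _ ⟨y, hy, rfl⟩
        obtain ⟨a', -, rfl⟩ := hA ha
        obtain ⟨b', -, rfl⟩ := hB hb
        exact ⟨a', ha, b', hb, hf (by rw [map_mul]; exact e)⟩) with h1 | h1
    · left; rw [← mA, h1, Subgroup.map_bot]
    · right; rw [← mB, h1, Subgroup.map_bot]
  gen := by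
    intro J hJ
    have h1 := h.gen (J.comap f) (by
      intro x hx hxx hx1 k _ hkx
      apply hJ (f x) ⟨x, hx, rfl⟩ (by rw [← map_mul, hxx, map_one]) (fun e => hx1 (hf (by rw [e, map_one])))
        (f k) ⟨k, rfl⟩ (map_comm f hkx))
    rintro _ ⟨k, rfl⟩
    exact h1 (Subgroup.mem_top k)

theorem rt_map (hf : Function.Injective f) {S X Xr Pr A : Subgroup Y} (h : Rt ⊤ S X Xr Pr A) :
    Rt f.range (S.map f) (X.map f) (Xr.map f) (Pr.map f) (A.map f) where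
  XX := map_mono h.XX
  ne := by
    intro e
    apply h.ne
    exact (Subgroup.map_eq_bot_iff_of_injective _ hf).mp e
  SP := map_mono h.SP
  loc := by
    rintro _ ⟨w, hw, rfl⟩ hw1
    exact locX_map hf (h.loc w hw (fun e => hw1 (by rw [e, map_one])))
  AP := map_mono h.AP
  tor := by
    obtain ⟨y, hy, h1, h2⟩ := h.tor
    refine ⟨f y, ⟨y, hy, rfl⟩, ?_, ?_⟩
    · rintro _ ⟨x, hx, rfl⟩
      exact ⟨y * x * y⁻¹, h1 x hx, by rw [map_mul, map_mul, map_inv]⟩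
    · rintro _ ⟨x, hx, rfl⟩ e
      exact ⟨x, h2 x hx (comm_of_map hf e), rfl⟩
  mov := by
    obtain ⟨k, hk, V, hV, hV2, h1, h2, h3, h4⟩ := h.mov
    refine ⟨f k, ⟨k, rfl⟩, V.map f, map_mono hV, hV2.map f, ?_, ?_, ?_, ?_⟩
    · rintro _ ⟨y, hy, rfl⟩ _ ⟨v, hv, rfl⟩
      exact ⟨y * v * y⁻¹, h1 y hy v hv, by rw [map_mul, map_mul, map_inv]⟩
    · rintro _ ⟨y, hy, rfl⟩
      exact ⟨k * y * k⁻¹ * y⁻¹, h2 y hy, by rw [map_mul, map_mul, map_mul, map_inv, map_inv]⟩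
    · rintro _ ⟨x, hx, rfl⟩
      exact ⟨k * x * k⁻¹, h3 x hx, by rw [map_mul, map_mul, map_inv]⟩
    · rintro _ ⟨x, hx, rfl⟩ e
      rw [h4 x hx (comm_of_map hf e), map_one]

theorem isSyl_map (hf : Function.Injective f) {S : Subgroup Y} (h : IsSyl S ⊤) : IsSyl (S.map f) f.range := by
  refine ⟨h.two.map f, ?_, ?_⟩
  · rintro _ ⟨a, -, rfl⟩; exact ⟨a, rfl⟩
  · intro Q hQ hle hQK
    rw [MonoidHom.range_eq_map] at hQK
    obtain ⟨hm, -⟩ := exists_eq_map hf hQK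
    rw [← hm]
    apply map_mono
    apply h.max _ (hQ.comap_of_injective f hf) _ le_top
    intro x hx
    exact hle ⟨x, hx, rfl⟩

/-- **transport** -/
theorem SpI.map (hf : Function.Injective f) {S X H Xl Xs Pl Ps A : Subgroup Y} {p : ℕ}
    (h : SpI S X H Xl Xs Pl Ps A p)
    (tight : TightAt f.range)
    (even : Even (Nat.card ↥(centralizer (f.range : Set G))))
    (ctr : ∀ x ∈ f.range, x ∈ centralizer (f.range : Set G) → x = 1)
    (std : ∀ g : G, ¬ ∀ k ∈ f.range, ∀ l ∈ cj g f.range, k * l = l * k)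
    (simp : ∀ N : Subgroup G, N ≤ f.range → (∀ k ∈ f.range, ∀ y ∈ N, k * y * k⁻¹ ∈ N) → N = ⊥ ∨ N = f.range)
    (cen : ∀ y ∈ normalizer (f.range : Set G), (∀ s ∈ S, f s * y = y * f s) →
      ∃ c ∈ centralizer (f.range : Set G), ∃ x ∈ X, y = c * f x)
    (out : ∀ a ∈ normalizer (f.range : Set G), ∀ b ∈ normalizer (f.range : Set G),
      a * b * a⁻¹ * b⁻¹ ∈ f.range ⊔ centralizer (f.range : Set G))
    (cyc : ∀ a ∈ normalizer (f.range : Set G), ∀ b ∈ normalizer (f.range : Set G),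
      a * a ∈ f.range ⊔ centralizer (f.range : Set G) → b * b ∈ f.range ⊔ centralizer (f.range : Set G) →
      a ∈ f.range ⊔ centralizer (f.range : Set G) ∨ b ∈ f.range ⊔ centralizer (f.range : Set G) ∨
        a * b ∈ f.range ⊔ centralizer (f.range : Set G)) :
    SpX f.range (S.map f) (X.map f) (H.map f) (Xl.map f) (Xs.map f) (Pl.map f) (Ps.map f) (A.map f) p where
  syl := isSyl_map hf h.syl
  tight := tight
  even := even
  ctr := ctr
  std := std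
  simp := simp
  XS := map_mono h.XS
  Xc := by
    rintro _ ⟨s, hs, rfl⟩ _ ⟨x, hx, rfl⟩
    exact map_comm f (h.Xc s hs x hx)
  sq := by
    rintro _ ⟨x, hx, rfl⟩
    rw [← map_mul, h.sq x hx, map_one]
  cen := by
    intro y hy _ hc
    obtain ⟨c, hc', x, hx, e⟩ := cen y hy fun s hs => hc _ ⟨s, hs, rfl⟩
    exact ⟨c, hc', f x, ⟨x, hx, rfl⟩, e⟩
  out := out
  cyc := cyc
  line := by
    rintro _ ⟨x, hx, rfl⟩ hxx hxX
    obtain ⟨a, ha, b, hb, ca, cb, cab⟩ := h.line x hx (hf (by rw [map_mul, hxx, map_one]))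
      (fun h1 => hxX ⟨x, h1, rfl⟩)
    refine ⟨f a, ⟨a, ha, rfl⟩, f b, ⟨b, hb, rfl⟩, fun e => ca (comm_of_map hf e), fun e => cb (comm_of_map hf e),
      fun e => cab (comm_of_map hf ?_)⟩
    rw [map_mul, map_inv]; exact e
  XH := map_mono h.XH
  HX := by
    rintro _ ⟨s, hs, rfl⟩ _ ⟨x, hx, rfl⟩
    exact map_comm f (h.HX s hs x hx)
  loc := by
    rintro _ ⟨w, hw, rfl⟩ h1 h2
    exact locX_map hf (h.loc w hw (fun h3 => h1 ⟨w, h3, rfl⟩) (fun h3 => h2 ⟨w, h3, rfl⟩))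
  ele := by
    rintro _ ⟨s, hs, rfl⟩
    exact ⟨s * s, h.ele s hs, by rw [map_mul]⟩
  Hn := by
    rintro _ ⟨s, hs, rfl⟩ _ ⟨y, hy, rfl⟩
    exact ⟨s * y * s⁻¹, h.Hn s hs y hy, by rw [map_mul, map_mul, map_inv]⟩
  l := rt_map hf h.l
  s := rt_map hf h.s
  disj := by
    rintro _ ⟨x, hx, rfl⟩ hx'
    rw [h.disj x hx ((mem_map_iff hf).mp hx'), map_one]
  mix := by
    rintro _ ⟨x, hx, rfl⟩ _ ⟨y, hy, rfl⟩ h1 h2 h3 h4
    rw [mem_map_iff hf] at h1 h2 h3 h4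
    obtain ⟨k, hk, e⟩ := h.mix x hx y hy h1 h2 h3 h4
    refine ⟨f k, ⟨k, rfl⟩, ?_, by rw [← e, map_mul, map_mul, map_inv]⟩
    ext z
    rw [mem_cj]
    constructor
    · rintro ⟨s, hs, e1⟩
      refine ⟨k * s * k⁻¹, (hk s).mp hs, ?_⟩
      rw [map_mul, map_mul, map_inv, e1]; group
    · rintro ⟨s, hs, rfl⟩
      refine ⟨k⁻¹ * s * k, ?_, by rw [map_mul, map_mul, map_inv]⟩
      rw [SetLike.mem_coe, hk]
      have e1 : k * (k⁻¹ * s * k) * k⁻¹ = s := by group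
      rw [e1]; exact hs
  prime := h.prime
  odd := h.odd
  pgrp := h.pgrp.map f

end Cfsg.Agent.OddHalf.D4.SpN.Conf
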