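import Cfsg.Agent.OddHalf.D4.SpN.Conf

/-!
# ODD, D4, row `Sp_2n(q)`, case (a): the type of a configuration (helper550; bb ODD #14529)

* `Cfg.typ` : if `u = q x ∈ U`, `1 ≠ x ∈ X_r` for one `u`, then for all `u`, and `P_r ≤ L`;
* `Cfg.exists_g` : an element `γ` with `K^γ = L`, `Q^γ = U`, `S^γ = S`;
* `Cfg.inv` : the configuration of `γ⁻¹`.
-/

set_option autoImplicit false

namespace Cfsg.Agent.OddHalf.D4.SpN.Conf

open Cfsg Subgroup Cfsg.Agent.OddHalf.D4 Cfsg.Agent.OddHalf.D4.Basic Cfsg.Agent.OddHalf.D4.SpN.Kf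
open Cfsg.Agent.OddHalf.D4.Input (comm_cen isSyl_conj_eq pow_eq_one_of_isPGroup cj_le_iff' cj_perf)
open Cfsg.Agent.OddHalf.D4.CommConj (Tight cj mem_cj cj_mul card_cj cj_eq_of_mem_normalizer mem_normalizer_of_cj_eq
  mem_cj_mul)

open scoped commutatorElement

variable {G : Type*} [Group G] [Finite G] {K S X H Xl Xs Pl Ps A L Q U E Xr Pr : Subgroup G} {p : ℕ}

namespace Cfg

/-- `Q ∩ U = 1` -/
theorem QU (c : Cfg K L Q U S X) (h : SpX K S X H Xl Xs Pl Ps A p) {x : G} (hx : x ∈ Q) (hxU : x ∈ U) : x = 1 := by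
  by_contra hx1
  have h1 : IsPGroup 2 ↥(zpowers x) := c.full.sylQ.two.to_le (by rw [zpowers_le]; exact hx)
  obtain ⟨w, hw, hw2⟩ := exists_invol_of_two h1 (by rw [Ne, zpowers_eq_bot]; exact hx1)
  have hwQ : w ∈ Q := (zpowers_le.mpr hx) hw
  have hwU : w ∈ U := (zpowers_le.mpr hxU) hw
  exact c.full.noInv h.tight (c.full.sylQ.le hwQ) (c.full.sylU.le hwU) hw2

omit [Finite G] in
/-- `X` and `C(K)` commute -/
theorem qx (h : SpX K S X H Xl Xs Pl Ps A p) {q x : G} (hq : q ∈ centralizer (K : Set G)) (hx : x ∈ X) :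
    x * q = q * x := comm_cen x (XK h hx) q hq

/-- `X ∩ U = 1` -/
theorem XU (c : Cfg K L Q U S X) (h : SpX K S X H Xl Xs Pl Ps A p) {x : G} (hx : x ∈ X) (hxU : x ∈ U) : x = 1 :=
  XD h (c.secL h) hx (c.full.sylU.le hxU)

/-- `U` is elementary abelian -/
theorem u_sq (c : Cfg K L Q U S X) (h : SpX K S X H Xl Xs Pl Ps A p) {u : G} (hu : u ∈ U) : u * u = 1 := by
  obtain ⟨q, hq, x, hx, e⟩ := c.UX u hu
  have h1 : u * u = q * q := by
    calc u * u = q * (x * q) * x := by rw [e]; group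
      _ = q * (q * x) * x := by rw [qx h (c.full.sylQ.le hq) hx]
      _ = (q * q) * (x * x) := by group
      _ = q * q := by rw [h.sq x hx, mul_one]
  exact c.QU h (by rw [h1]; exact mul_mem hq hq) (mul_mem hu hu)

theorem u_two (c : Cfg K L Q U S X) (h : SpX K S X H Xl Xs Pl Ps A p) {u : G} (hu : u ∈ U) (hu1 : u ≠ 1) :
    orderOf u = 2 := orderOf_eq_prime (by rw [pow_two]; exact c.u_sq h hu) hu1

/-- `|U| = |Q|` -/
theorem card_eq (c : Cfg K L Q U S X) : Nat.card ↥Q = Nat.card ↥U := by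
  obtain ⟨g, -, hLg⟩ := c.full.conj
  have h1 := c.full.sylQ.cj g
  rw [← centralizer_cj, ← hLg] at h1
  obtain ⟨m, -, hm⟩ := isSyl_conj_eq c.full.sylU h1
  rw [← hm, card_cj, card_cj]

omit [Finite G] in
/-- uniqueness of the decomposition -/
theorem uniq (h : SpX K S X H Xl Xs Pl Ps A p) {q x q' x' : G} (hq : q ∈ centralizer (K : Set G)) (hx : x ∈ X)
    (hq' : q' ∈ centralizer (K : Set G)) (hx' : x' ∈ X) (e : q * x = q' * x') : q = q' ∧ x = x' := by
  rw [← qx h hq hx, ← qx h hq' hx'] at e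
  have := decomp_unique h.ctr (XK h hx) hq (XK h hx') hq' e
  exact ⟨this.2, this.1⟩

/-- `Q ≤ U X` -/
theorem QX (c : Cfg K L Q U S X) (h : SpX K S X H Xl Xs Pl Ps A p) : ∀ q ∈ Q, ∃ u ∈ U, ∃ x ∈ X, u = q * x := by
  classical
  choose f hf x hx he using c.UX
  let F : ↥U → ↥Q := fun u => ⟨f u u.2, hf u u.2⟩
  have hinj : Function.Injective F := by
    rintro ⟨u, hu⟩ ⟨v, hv⟩ e
    have e1 : f u hu = f v hv := congrArg Subtype.val e
    have h1 : u * v⁻¹ = x u hu * (x v hv)⁻¹ := by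
      have e2 := he u hu
      have e3 := he v hv
      have h2 := qx h (c.full.sylQ.le (hf u hu)) (hx u hu)
      have h3 := qx h (c.full.sylQ.le (hf v hv)) (hx v hv)
      calc u * v⁻¹ = (f u hu * x u hu) * (f v hv * x v hv)⁻¹ := by rw [← e2, ← e3]
        _ = (x u hu * f u hu) * (x v hv * f v hv)⁻¹ := by rw [h2, h3]
        _ = x u hu * (f u hu * (f v hv)⁻¹) * (x v hv)⁻¹ := by group
        _ = _ := by rw [e1]; group
    have h2 := c.XU h (x := u * v⁻¹) (by rw [h1]; exact mul_mem (hx u hu) (inv_mem (hx v hv)))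
      (mul_mem hu (inv_mem hv))
    exact Subtype.ext (mul_inv_eq_one.mp h2)
  have hb := hinj.bijective_of_nat_card_le (c.card_eq).le
  intro q hq
  obtain ⟨⟨u, hu⟩, e⟩ := hb.2 ⟨q, hq⟩
  have e1 : f u hu = q := congrArg Subtype.val e
  exact ⟨u, hu, x u hu, hx u hu, by rw [← e1]; exact he u hu⟩

theorem q_sq (c : Cfg K L Q U S X) (h : SpX K S X H Xl Xs Pl Ps A p) {q : G} (hq : q ∈ Q) : q * q = 1 := by
  obtain ⟨u, hu, x, hx, e⟩ := c.QX h q hq
  have h1 : u * u = q * q := by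
    calc u * u = q * (x * q) * x := by rw [e]; group
      _ = q * (q * x) * x := by rw [qx h (c.full.sylQ.le hq) hx]
      _ = (q * q) * (x * x) := by group
      _ = q * q := by rw [h.sq x hx, mul_one]
  rw [← h1]; exact c.u_sq h hu

/-- elements of `K` centralising `X_r` and an element `u = q x` -/
theorem comm_u {q x y : G} (hq : q ∈ centralizer (K : Set G)) (hy : y ∈ K) (hyx : y * x = x * y) :
    y * (q * x) = q * x * y := by
  have h1 := comm_cen y hy q hq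
  calc y * (q * x) = (y * q) * x := by group
    _ = (q * y) * x := by rw [h1]
    _ = q * (y * x) := by group
    _ = q * x * y := by rw [hyx]; group

/-- **the type is constant** -/
theorem typ (c : Cfg K L Q U S X) (h : SpX K S X H Xl Xs Pl Ps A p) (hr : Rt K S X Xr Pr A) {q x : G}
    (hu : q * x ∈ U) (hq : q ∈ Q) (hx : x ∈ Xr) (hx1 : x ≠ 1) :
    (∀ u ∈ U, ∃ q ∈ Q, ∃ x ∈ Xr, u = q * x) ∧ Pr ≤ L := by
  have hL := c.secL h
  have hu1 : q * x ≠ 1 := by
    intro e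
    have := (uniq h (c.full.sylQ.le hq) (hr.XX hx) (one_mem _) (one_mem _) (by rw [e, one_mul])).2
    exact hx1 this
  have hloc := hr.loc x hx hx1
  have hPN : Pr ≤ normalizer (L : Set G) := by
    intro y hy
    apply hL.tight.mem (c.full.sylU.le hu) (c.u_two h hu hu1)
    exact comm_u (c.full.sylQ.le hq) (hloc.HK hy) (hloc.Hw y hy)
  have hall : ∀ u ∈ U, ∃ q ∈ Q, ∃ x ∈ Xr, u = q * x := by
    intro u' hu'
    obtain ⟨q', hq', x', hx', e⟩ := c.UX u' hu'
    refine ⟨q', hq', x', ?_, e⟩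
    obtain ⟨y, hy, hyX, hyc⟩ := hr.tor
    apply hyc x' hx'
    -- `u'⁻¹ u'^y ∈ X ∩ C(L)`
    have h1 : y * u' * y⁻¹ ∈ centralizer (L : Set G) := centralizer_conj_mem (hPN hy) (c.full.sylU.le hu')
    have h2 : x'⁻¹ * (y * x' * y⁻¹) = 1 := by
      apply XD h hL (mul_mem (inv_mem hx') (hyX x' hx'))
      have e1 : x'⁻¹ * (y * x' * y⁻¹) = u'⁻¹ * (y * u' * y⁻¹) := by
        have h3 := comm_cen y (hloc.HK hy) q' (c.full.sylQ.le hq')
        calc x'⁻¹ * (y * x' * y⁻¹) = x'⁻¹ * q'⁻¹ * (q' * y) * x' * y⁻¹ := by group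
          _ = x'⁻¹ * q'⁻¹ * (y * q') * x' * y⁻¹ := by rw [h3]
          _ = (q' * x')⁻¹ * (y * (q' * x') * y⁻¹) := by group
          _ = _ := by rw [← e]
      rw [e1]
      exact mul_mem (inv_mem (c.full.sylU.le hu')) h1
    have h3 : y * x' * y⁻¹ = x' := (inv_mul_eq_one.mp h2).symm
    calc y * x' = (y * x' * y⁻¹) * y := by group
      _ = x' * y := by rw [h3]
  refine ⟨hall, ?_⟩
  apply hL.le_of_two c.full.sylU hPN hloc.perf hloc.two
  intro y hy u' hu'
  obtain ⟨q', hq', x', hx', e⟩ := hall u' hu'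
  rw [e]
  apply comm_u (c.full.sylQ.le hq') (hloc.HK hy)
  by_cases h1 : x' = 1
  · rw [h1, mul_one, one_mul]
  · exact (hr.loc x' hx' h1).Hw y hy

/-- an element conjugating `(K, Q)` to `(L, U)` and the Sylow 2-subgroup `S` of `K` to a given one of `L` -/
theorem exists_gT (c : Cfg K L Q U S X) (h : SpX K S X H Xl Xs Pl Ps A p) {T : Subgroup G} (hT : IsSyl T L) :
    ∃ g : G, cj g K = L ∧ cj g Q = U ∧ cj g S = T := by
  obtain ⟨g, hg, hLg⟩ := c.full.conj
  have hgS : IsSyl (cj g S) L := by rw [hLg]; exact h.syl.cj g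
  obtain ⟨l, hl, hlS⟩ := isSyl_conj_eq hT hgS
  have h0K : cj (l * g) K = L := by
    rw [cj_mul, ← hLg]
    exact cj_eq_of_mem_normalizer (le_normalizer hl)
  have h0S : cj (l * g) S = T := by rw [cj_mul, hlS]
  have h0Q : IsSyl (cj (l * g) Q) (centralizer (L : Set G)) := by
    have h1 := c.full.sylQ.cj (l * g)
    rwa [← centralizer_cj, h0K] at h1
  obtain ⟨d, hd, hdQ⟩ := isSyl_conj_eq c.full.sylU h0Q
  have hdT : cj d T = T := by
    apply cj_eq_of_mem_normalizer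
    rw [mem_normalizer_iff]
    intro x
    have key : ∀ y ∈ T, d * y * d⁻¹ = y := by
      intro y hy
      rw [← comm_cen y (hT.le hy) d hd]; group
    constructor
    · intro hx; rw [key x hx]; exact hx
    · intro hx
      have h1 : x = d⁻¹ * (d * x * d⁻¹) * d := by group
      have h2 := comm_cen _ (hT.le hx) d⁻¹ (inv_mem hd)
      rw [h1, ← h2]
      have h3 : d * x * d⁻¹ * d⁻¹ * d = d * x * d⁻¹ := by group
      rw [h3]; exact hx
  refine ⟨d * (l * g), ?_, ?_, ?_⟩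
  · rw [cj_mul, h0K]
    exact cj_eq_of_mem_normalizer (centralizer_le_normalizer_self L hd)
  · rw [cj_mul, hdQ]
  · rw [cj_mul, h0S, hdT]

/-- the Sylow 2-subgroup of `K` is one of `L` -/
theorem sylL (c : Cfg K L Q U S X) (h : SpX K S X H Xl Xs Pl Ps A p) (hSL : S ≤ L) : IsSyl S L := by
  obtain ⟨g, -, hLg⟩ := c.full.conj
  have hgS : IsSyl (cj g S) L := by rw [hLg]; exact h.syl.cj g
  refine ⟨h.syl.two, hSL, ?_⟩
  intro T hT hle hTL
  obtain ⟨m, _, hmq⟩ := hgS.conj_into hT hTL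
  have h1 : cj m T ≤ cj g S := by
    rintro _ ⟨q, hq, rfl⟩
    exact hmq q hq
  have h2 := card_le_of_le h1
  rw [card_cj, card_cj] at h2
  exact (eq_of_le_of_card_ge hle h2).ge

theorem exists_g (c : Cfg K L Q U S X) (h : SpX K S X H Xl Xs Pl Ps A p) (hSL : S ≤ L) :
    ∃ g : G, cj g K = L ∧ cj g Q = U ∧ cj g S = S := c.exists_gT h (c.sylL h hSL)

/-- the inverse configuration -/
theorem inv (c : Cfg K L Q U S X) (h : SpX K S X H Xl Xs Pl Ps A p) {g : G} (hK : cj g K = L) (hQ : cj g Q = U)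
    (hS : cj g S = S) : Cfg K (cj g⁻¹ K) Q (cj g⁻¹ Q) S X := by
  have hL : cj g⁻¹ L = K := by rw [← hK, cj_inv_cj]
  have hU : cj g⁻¹ U = Q := by rw [← hQ, cj_inv_cj]
  have hS' : cj g⁻¹ S = S := by
    conv_lhs => rw [← hS]
    rw [cj_inv_cj]
  have hX' := X_cj h hS'
  refine ⟨?_, ?_, ?_⟩
  · have := full_cj c.full.symm g⁻¹
    rwa [hL, hU] at this
  · rw [← hS']
    exact (map_mono h.syl.le).trans le_normalizer
  · intro v hv
    rw [mem_cj, inv_inv] at hv
    obtain ⟨u, hu, x, hx, e⟩ := c.QX h _ hv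
    have hx' : g⁻¹ * x * g ∈ X := by
      have := mem_cj_mul (g := g⁻¹) hx
      rw [hX', inv_inv] at this
      exact this
    have hu' : g⁻¹ * u * g ∈ Q := by
      have := mem_cj_mul (g := g⁻¹) hu
      rw [hU, inv_inv] at this
      exact this
    refine ⟨_, hu', _, inv_mem hx', ?_⟩
    rw [e]; group

end Cfg

end Cfsg.Agent.OddHalf.D4.SpN.Conf
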